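import Mathlib
import Cfsg.Agent.StdG24.AutA5

/-!
# Counting involutions in `A₅`
-/

set_option autoImplicit false

namespace Cfsg.Agent.StdG24.F.A5Count

open Equiv Cfsg.Agent.StdG24.AutA5

theorem conj2 : ∀ x : P, Perm.sign x = 1 → x ≠ 1 → x * x = 1 →
    ∃ s : P, Perm.sign s = 1 ∧ s * x * s⁻¹ = a0 := by decide +kernel

theorem count15 : Fintype.card {y : P // Perm.sign y = 1 ∧ y ≠ 1 ∧ y * y = 1} = 15 := by
  decide +kernel

theorem count13 : Fintype.card {y : P // Perm.sign y = 1 ∧ y ≠ 1 ∧ y * y = 1 ∧ (a0 * y) ^ 15 = 1} = 13 := by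
  decide +kernel

theorem ord : ∀ y : P, Perm.sign y = 1 → y ^ 30 = 1 := by decide +kernel

variable {A : Type*} [Group A]

theorem card_transfer (e : A ≃* alternatingGroup (Fin 5)) (s : P) (p : A → Prop) (q : P → Prop)
    (h1 : ∀ y, p y ↔ q (emb e s y)) : Nat.card {y // p y} = Nat.card {y // Perm.sign y = 1 ∧ q y} := by
  let f : {y // p y} → {y // Perm.sign y = 1 ∧ q y} := fun y => ⟨emb e s y, sign_emb _ _ _, (h1 y).1 y.2⟩
  refine Nat.card_congr (Equiv.ofBijective f ⟨?_, ?_⟩)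
  · intro y y' h
    exact Subtype.ext (emb_injective e s (congrArg Subtype.val h))
  · rintro ⟨x, hx, hx'⟩
    obtain ⟨y, rfl⟩ := exists_emb e s x hx
    exact ⟨⟨y, (h1 y).2 hx'⟩, rfl⟩

theorem emb_eq_one (e : A ≃* alternatingGroup (Fin 5)) (s : P) (y : A) : emb e s y = 1 ↔ y = 1 :=
  ⟨fun h => emb_injective e s (by rw [h, map_one]), fun h => by rw [h, map_one]⟩

theorem card_inv (e : A ≃* alternatingGroup (Fin 5)) : Nat.card {y : A // y ≠ 1 ∧ y * y = 1} = 15 := by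
  rw [card_transfer e 1 (fun y => y ≠ 1 ∧ y * y = 1) (fun y => y ≠ 1 ∧ y * y = 1), Nat.card_eq_fintype_card,
    count15]
  intro y
  rw [← map_mul, Ne, Ne, emb_eq_one, emb_eq_one]

theorem card_odd (e : A ≃* alternatingGroup (Fin 5)) {b : A} (hb : b ≠ 1) (hbb : b * b = 1) :
    Nat.card {y : A // y ≠ 1 ∧ y * y = 1 ∧ (b * y) ^ 15 = 1} = 13 := by
  obtain ⟨s, hs⟩ := normV (emb e 1 b) (sign_emb _ _ _)
    (fun h => hb (emb_injective e 1 (by rw [h, map_one]))) (by rw [← map_mul, hbb, map_one])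
  have hE1 : ∀ y, emb e s y = s * emb e 1 y * s⁻¹ := by
    intro y; rw [emb_apply, emb_apply]; group
  have ha1 : emb e s b = a0 := by rw [hE1, hs]
  rw [card_transfer e s (fun y => y ≠ 1 ∧ y * y = 1 ∧ (b * y) ^ 15 = 1)
    (fun y => y ≠ 1 ∧ y * y = 1 ∧ (a0 * y) ^ 15 = 1), Nat.card_eq_fintype_card, count13]
  intro y
  rw [← ha1, ← map_mul, ← map_mul, ← map_pow, Ne, Ne, emb_eq_one, emb_eq_one, emb_eq_one]

theorem pow_thirty (e : A ≃* alternatingGroup (Fin 5)) (y : A) : y ^ 30 = 1 :=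
  emb_injective e 1 (by rw [map_pow, ord _ (sign_emb _ _ _), map_one])

/-- the involutions of `A₅` are conjugate -/
theorem conj_inv (e : A ≃* alternatingGroup (Fin 5)) {a b : A} (ha : a ≠ 1) (haa : a * a = 1) (hb : b ≠ 1)
    (hbb : b * b = 1) : ∃ g, g * a * g⁻¹ = b := by
  obtain ⟨s, hs1, hs⟩ := conj2 (emb e 1 a) (sign_emb _ _ _)
    (fun h => ha (emb_injective e 1 (by rw [h, map_one]))) (by rw [← map_mul, haa, map_one])
  obtain ⟨t, ht1, ht⟩ := conj2 (emb e 1 b) (sign_emb _ _ _)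
    (fun h => hb (emb_injective e 1 (by rw [h, map_one]))) (by rw [← map_mul, hbb, map_one])
  obtain ⟨g, hg⟩ := exists_emb e 1 (t⁻¹ * s) (by rw [map_mul, map_inv, hs1, ht1]; rfl)
  refine ⟨g, emb_injective e 1 ?_⟩
  rw [map_mul, map_mul, map_inv, hg]
  calc t⁻¹ * s * emb e 1 a * (t⁻¹ * s)⁻¹ = t⁻¹ * (s * emb e 1 a * s⁻¹) * t := by group
    _ = t⁻¹ * (t * emb e 1 b * t⁻¹) * t := by rw [hs, ht]
    _ = emb e 1 b := by group

end Cfsg.Agent.StdG24.F.A5Count
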