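import Mathlib
import Cfsg.Agent.StdG24.StepSevenAbs
import Cfsg.Agent.StdG24.F.A5Count
import Cfsg.Agent.J2Type.FourSelfCent

/-!
# Lemma F, counting of involutions

`V` a four-group, `A ≅ A₅`, `C_W(v) = V × A` for all `v ∈ V#`; involutions of type `t` (conjugate into `V`)
and of type `x` (conjugate into `A`).
-/

set_option autoImplicit false

namespace Cfsg.Agent.StdG24.F.Count

open Subgroup

variable {W : Type*} [Group W]

def IsT (V : Subgroup W) (x : W) : Prop := ∃ g, ∃ v ∈ V, v ≠ 1 ∧ x = g * v * g⁻¹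

def IsX (A : Subgroup W) (x : W) : Prop := ∃ g, ∃ a ∈ A, a ≠ 1 ∧ a * a = 1 ∧ x = g * a * g⁻¹

structure Hyp (V A : Subgroup W) : Prop where
  card4 : Nat.card V = 4
  sq : ∀ v ∈ V, v * v = 1
  eA : Nonempty (A ≃* alternatingGroup (Fin 5))
  comm : ∀ v ∈ V, ∀ a ∈ A, v * a = a * v
  cent : ∀ v ∈ V, v ≠ 1 → ∀ x, x * v = v * x → ∃ v' ∈ V, ∃ a ∈ A, x = v' * a
  tva : ∀ v ∈ V, v ≠ 1 → ∀ a ∈ A, a * a = 1 → IsT V (v * a)
  xt : ∀ x, IsX A x → ¬ IsT V x

variable {V A : Subgroup W}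

theorem IsX.conj {x : W} (h : IsX A x) (g : W) : IsX A (g * x * g⁻¹) := by
  obtain ⟨k, a, ha, ha1, ha2, rfl⟩ := h
  exact ⟨g * k, a, ha, ha1, ha2, by group⟩

theorem IsX.conj' {x : W} (h : IsX A x) (g : W) : IsX A (g⁻¹ * x * g) := by
  have := h.conj g⁻¹
  rwa [inv_inv] at this

theorem IsX.ne_one {x : W} (h : IsX A x) : x ≠ 1 := by
  obtain ⟨k, a, ha, ha1, ha2, rfl⟩ := h
  intro h1
  apply ha1
  rw [show a = k⁻¹ * (k * a * k⁻¹) * k by group, h1]; group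

theorem IsX.sq {x : W} (h : IsX A x) : x * x = 1 := by
  obtain ⟨k, a, ha, ha1, ha2, rfl⟩ := h
  rw [show k * a * k⁻¹ * (k * a * k⁻¹) = k * (a * a) * k⁻¹ by group, ha2]; group

theorem isX_of_mem {a : W} (ha : a ∈ A) (h1 : a ≠ 1) (h2 : a * a = 1) : IsX A a :=
  ⟨1, a, ha, h1, h2, by group⟩

/-- an involution in a cyclic group is unique -/
theorem unique_inv {r z z' : W} (hz : z ∈ zpowers r) (hz' : z' ∈ zpowers r) (h1 : z ≠ 1) (h2 : z * z = 1)
    (h1' : z' ≠ 1) (h2' : z' * z' = 1) : z = z' := by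
  obtain ⟨i, rfl⟩ := mem_zpowers_iff.1 hz
  obtain ⟨j, rfl⟩ := mem_zpowers_iff.1 hz'
  rw [← zpow_add] at h2 h2'
  have hi := orderOf_dvd_iff_zpow_eq_one.2 h2
  have hj := orderOf_dvd_iff_zpow_eq_one.2 h2'
  have hi1 : ¬ (orderOf r : ℤ) ∣ i := fun h => h1 (orderOf_dvd_iff_zpow_eq_one.1 h)
  have hj1 : ¬ (orderOf r : ℤ) ∣ j := fun h => h1' (orderOf_dvd_iff_zpow_eq_one.1 h)
  have hij : (orderOf r : ℤ) ∣ i - j := by
    obtain ⟨a, ha⟩ := hi
    obtain ⟨b, hb⟩ := hj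
    rcases Int.even_or_odd' a with ⟨a', rfl | rfl⟩
    · exact absurd ⟨a', by linarith [ha]⟩ hi1
    rcases Int.even_or_odd' b with ⟨b', rfl | rfl⟩
    · exact absurd ⟨b', by linarith [hb]⟩ hj1
    exact ⟨a' - b', by linarith [ha, hb]⟩
  have h3 := orderOf_dvd_iff_zpow_eq_one.1 hij
  rw [zpow_sub, mul_inv_eq_one] at h3
  exact h3

/-- two involutions with product of odd order are conjugate -/
theorem conj_of_odd {s t : W} (hs : s * s = 1) (ht : t * t = 1) {k : ℕ} (h : (t * s) ^ (2 * k + 1) = 1) :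
    ∃ g, s = g * t * g⁻¹ := by
  have hsi : s⁻¹ = s := inv_eq_of_mul_eq_one_left hs
  have hti : t⁻¹ = t := inv_eq_of_mul_eq_one_left ht
  have h1 : ∀ n : ℕ, t * (t * s) ^ n = ((t * s) ^ n)⁻¹ * t := by
    intro n
    have h2 : t * (t * s) * t⁻¹ = (t * s)⁻¹ := by
      rw [mul_inv_rev, hsi, hti, ← mul_assoc, ht, one_mul]
    calc t * (t * s) ^ n = (t * (t * s) * t⁻¹) ^ n * t := by rw [conj_pow]; group
      _ = ((t * s) ^ n)⁻¹ * t := by rw [h2, inv_pow]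
  refine ⟨(t * s) ^ k, ?_⟩
  have h3 : (t * s) ^ k * t * ((t * s) ^ k)⁻¹ = (t * s) ^ k * (t * s) ^ k * t := by
    have h4 := h1 k
    have h5 : t * ((t * s) ^ k)⁻¹ = (t * s) ^ k * t := by
      calc t * ((t * s) ^ k)⁻¹ = (t * s) ^ k * (((t * s) ^ k)⁻¹ * t) * ((t * s) ^ k)⁻¹ := by group
        _ = (t * s) ^ k * (t * (t * s) ^ k) * ((t * s) ^ k)⁻¹ := by rw [h4]
        _ = (t * s) ^ k * t := by group
    rw [mul_assoc, h5, mul_assoc]
  rw [h3, ← pow_add]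
  have h6 : (t * s) ^ (k + k) = (t * s)⁻¹ := by
    rw [eq_inv_iff_mul_eq_one, ← pow_succ, ← two_mul]
    exact h
  rw [h6, mul_inv_rev, hsi, hti, mul_assoc, ht, mul_one]

namespace Hyp

variable (h : Hyp V A)
include h

theorem inf {x : W} (hV : x ∈ V) (hA : x ∈ A) : x = 1 := by
  obtain ⟨e⟩ := h.eA
  exact StepSevenAbs.center_of_equiv e hA fun b hb => h.comm x hV b hb

theorem decomp {v v' a a' : W} (hv : v ∈ V) (hv' : v' ∈ V) (ha : a ∈ A) (ha' : a' ∈ A)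
    (h1 : v * a = v' * a') : v = v' ∧ a = a' := by
  have h2 : v'⁻¹ * v = a' * a⁻¹ := by
    calc v'⁻¹ * v = v'⁻¹ * (v * a) * a⁻¹ := by group
      _ = a' * a⁻¹ := by rw [h1]; group
  have h3 : v'⁻¹ * v = 1 := h.inf (mul_mem (inv_mem hv') hv) (by rw [h2]; exact mul_mem ha' (inv_mem ha))
  have h4 : v = v' := (inv_mul_eq_one.1 h3).symm
  subst h4
  exact ⟨rfl, mul_left_cancel h1⟩

theorem sqA {v a : W} (hv : v ∈ V) (ha : a ∈ A) (h2 : v * a * (v * a) = 1) : a * a = 1 := by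
  calc a * a = (v * v) * (a * a) := by rw [h.sq v hv, one_mul]
    _ = v * (v * a) * a := by group
    _ = v * (a * v) * a := by rw [h.comm v hv a ha]
    _ = v * a * (v * a) := by group
    _ = 1 := h2

/-- the elements of type `x` in `V A` lie in `A` -/
theorem mem_A {v a : W} (hv : v ∈ V) (ha : a ∈ A) (hx : IsX A (v * a)) : v = 1 := by
  by_contra hv1
  exact h.xt _ hx (h.tva v hv hv1 a ha (h.sqA hv ha hx.sq))

/-- an element of type `x` commuting with `v ∈ V#` is in `A` -/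
theorem mem_A_of_comm {v x : W} (hv : v ∈ V) (hv1 : v ≠ 1) (hx : IsX A x) (hc : x * v = v * x) : x ∈ A := by
  obtain ⟨v', hv', a, ha, rfl⟩ := h.cent v hv hv1 x hc
  rw [h.mem_A hv' ha hx, one_mul]
  exact ha

theorem invV {v : W} (hv : v ∈ V) : v⁻¹ = v := inv_eq_of_mul_eq_one_left (h.sq v hv)

theorem commV {v v' : W} (hv : v ∈ V) (hv' : v' ∈ V) : v * v' = v' * v := by
  have h1 := h.invV (mul_mem hv hv')
  rw [mul_inv_rev, h.invV hv, h.invV hv'] at h1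
  exact h1.symm

/-- `⟨t x⟩` contains an involution -/
theorem exists_z [Finite W] {t x : W} (ht : t ∈ V) (t1 : t ≠ 1) (hx : IsX A x) :
    ∃ z ∈ zpowers (t * x), z ≠ 1 ∧ z * z = 1 := by
  rcases Nat.even_or_odd' (orderOf (t * x)) with ⟨k, hk | hk⟩
  · have hk0 : 0 < k := by
      have := orderOf_pos (t * x)
      omega
    refine ⟨(t * x) ^ k, ⟨(k : ℤ), by simp⟩, ?_, ?_⟩
    · intro h1
      have h2 := orderOf_dvd_of_pow_eq_one h1
      have h3 := Nat.le_of_dvd hk0 h2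
      omega
    · rw [← pow_add, ← two_mul, ← hk, pow_orderOf_eq_one]
  · exfalso
    obtain ⟨g, hg⟩ := conj_of_odd hx.sq (h.sq t ht) (k := k) (by rw [← hk, pow_orderOf_eq_one])
    exact h.xt x hx ⟨g, t, ht, t1, hg⟩

omit h in
theorem z_comm {t x z : W} (ht : t * t = 1) (hx : x * x = 1) (hz : z ∈ zpowers (t * x)) (hzz : z * z = 1) :
    z * t = t * z ∧ z * x = x * z := by
  obtain ⟨i, rfl⟩ := mem_zpowers_iff.1 hz
  have hti : t⁻¹ = t := inv_eq_of_mul_eq_one_left ht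
  have hxi : x⁻¹ = x := inv_eq_of_mul_eq_one_left hx
  have hz1 : ((t * x) ^ i)⁻¹ = (t * x) ^ i := inv_eq_of_mul_eq_one_left hzz
  have h1 : t * (t * x) ^ i * t⁻¹ = (t * x) ^ i := by
    have h2 : t * (t * x) * t⁻¹ = (t * x)⁻¹ := by
      rw [mul_inv_rev, hxi, hti, ← mul_assoc, ht, one_mul]
    rw [← conj_zpow, h2, inv_zpow, hz1]
  have h3 : (t * x) ^ i * t = t * (t * x) ^ i := by
    calc (t * x) ^ i * t = t * (t * x) ^ i * t⁻¹ * t := by rw [h1]
      _ = t * (t * x) ^ i := by group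
  refine ⟨h3, ?_⟩
  have h4 : (t * x) ^ i * (t * x) = t * x * (t * x) ^ i := ((Commute.refl (t * x)).zpow_left i).eq
  calc (t * x) ^ i * x = t⁻¹ * (t * (t * x) ^ i) * x := by rw [inv_mul_cancel_left]
    _ = t⁻¹ * ((t * x) ^ i * (t * x)) := by rw [← h3]; simp only [mul_assoc]
    _ = x * (t * x) ^ i := by rw [h4]; simp only [mul_assoc, inv_mul_cancel_left]

/-- the involution in `⟨t x⟩` -/
theorem z_cases {t x z : W} (ht : t ∈ V) (t1 : t ≠ 1) (hx : IsX A x) (hz : z ∈ zpowers (t * x))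
    (z1 : z ≠ 1) (hzz : z * z = 1) :
    ∃ a ∈ A, a ≠ 1 ∧ a * a = 1 ∧ (z = a ∨ (z = t * a ∧ (a * x) ^ 15 = 1)) := by
  obtain ⟨zt, zx⟩ := z_comm (h.sq t ht) hx.sq hz hzz
  obtain ⟨v, hv, a, ha, rfl⟩ := h.cent t ht t1 z zt
  have haa := h.sqA hv ha hzz
  by_cases hv1 : v = 1
  · refine ⟨a, ha, ?_, haa, Or.inl (by rw [hv1, one_mul])⟩
    rintro rfl
    exact z1 (by rw [hv1, mul_one])
  -- `z = v a` is of type `t`
  obtain ⟨g, v', hv', hv'1, hg⟩ := h.tva v hv hv1 a ha haa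
  set t' := g⁻¹ * t * g with ht'
  set x' := g⁻¹ * x * g with hx'
  have hv'g : v' = g⁻¹ * (v * a) * g := by rw [hg]; group
  have ct : t' * v' = v' * t' := by
    rw [ht', hv'g]
    calc g⁻¹ * t * g * (g⁻¹ * (v * a) * g) = g⁻¹ * (t * (v * a)) * g := by group
      _ = g⁻¹ * (v * a * t) * g := by rw [zt]
      _ = _ := by group
  have cx : x' * v' = v' * x' := by
    rw [hx', hv'g]
    calc g⁻¹ * x * g * (g⁻¹ * (v * a) * g) = g⁻¹ * (x * (v * a)) * g := by group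
      _ = g⁻¹ * (v * a * x) * g := by rw [zx]
      _ = _ := by group
  have hx'X : IsX A x' := hx.conj' g
  have hx'A : x' ∈ A := h.mem_A_of_comm hv' hv'1 hx'X cx
  obtain ⟨v₂, hv₂, a₂, ha₂, htt⟩ := h.cent v' hv' hv'1 t' ct
  have htt2 : t' * t' = 1 := by
    rw [ht', show g⁻¹ * t * g * (g⁻¹ * t * g) = g⁻¹ * (t * t) * g by group, h.sq t ht]; group
  have ha₂2 : a₂ * a₂ = 1 := h.sqA hv₂ ha₂ (by rw [← htt]; exact htt2)
  obtain ⟨i, hi⟩ := mem_zpowers_iff.1 hz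
  have hi' : (t' * x') ^ i = v' := by
    rw [ht', hx', show g⁻¹ * t * g * (g⁻¹ * x * g) = g⁻¹ * (t * x) * g by group, hv'g, ← hi]
    have := conj_zpow (i := i) (a := g⁻¹) (b := t * x)
    rw [inv_inv] at this
    exact this
  have hc : Commute v₂ (a₂ * x') := h.comm v₂ hv₂ _ (mul_mem ha₂ hx'A)
  have hi2 : v₂ ^ i * (a₂ * x') ^ i = v' * 1 := by
    rw [← hc.mul_zpow, mul_one, ← hi', htt, mul_assoc]
  obtain ⟨hv2i, hai⟩ := h.decomp (zpow_mem hv₂ i) hv' (zpow_mem (mul_mem ha₂ hx'A) i) A.one_mem hi2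
  rcases Int.even_or_odd' i with ⟨j, hj | hj⟩
  · exfalso
    apply hv'1
    rw [← hv2i, hj, zpow_mul, zpow_two, h.sq v₂ hv₂, one_zpow]
  have hv2 : v₂ = v' := by
    rw [← hv2i, hj, zpow_add, zpow_mul, zpow_two, h.sq v₂ hv₂, one_zpow, one_mul, zpow_one]
  have ha₂1 : a₂ ≠ 1 := by
    rintro rfl
    rw [one_mul, hj, zpow_add, zpow_mul, zpow_two, hx'X.sq, one_zpow, one_mul, zpow_one] at hai
    exact hx'X.ne_one hai
  -- `b = v a t` is of type `x`
  have hb : v * t * a = g * a₂ * g⁻¹ := by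
    have h1 : t = g * t' * g⁻¹ := by rw [ht']; group
    calc v * t * a = v * (t * a) := by group
      _ = v * (a * t) := by rw [h.comm t ht a ha]
      _ = (v * a) * t := by group
      _ = (v * a) * (g * t' * g⁻¹) := by rw [← h1]
      _ = g * (v' * (v₂ * a₂)) * g⁻¹ := by rw [hg, htt]; group
      _ = g * (v' * v' * a₂) * g⁻¹ := by rw [hv2]; group
      _ = g * a₂ * g⁻¹ := by rw [h.sq v' hv', one_mul]
  have hbX : IsX A (v * t * a) := ⟨g, a₂, ha₂, ha₂1, ha₂2, hb⟩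
  have hvt := h.mem_A (mul_mem hv ht) ha hbX
  have hvt' : v = t := by rw [← h.invV ht]; exact eq_inv_of_mul_eq_one_left hvt
  subst hvt'
  rw [hvt, one_mul] at hb
  refine ⟨a, ha, ?_, haa, Or.inr ⟨rfl, ?_⟩⟩
  · rintro rfl
    apply ha₂1
    rw [show a₂ = g⁻¹ * (g * a₂ * g⁻¹) * g by group, ← hb]; group
  · obtain ⟨e⟩ := h.eA
    have h30 : (a₂ * x') ^ 30 = 1 :=
      congrArg Subtype.val (A5Count.pow_thirty e ⟨a₂ * x', mul_mem ha₂ hx'A⟩)
    have h15 : (a₂ * x') ^ 15 = 1 := by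
      set y := a₂ * x' with hy
      have h1 : (y ^ 15) ^ 2 = 1 := by rw [← pow_mul]; exact h30
      have h2 : (y ^ 15) ^ i = 1 := by
        rw [← zpow_natCast, ← zpow_mul, mul_comm, zpow_mul, hai, one_zpow]
      rw [hj, zpow_add, zpow_mul, zpow_one] at h2
      have h3 : (y ^ 15) ^ (2 : ℤ) = 1 := by rw [zpow_two, ← pow_two, h1]
      rw [h3, one_zpow, one_mul] at h2
      exact h2
    have h3 : a * x = g * (a₂ * x') * g⁻¹ := by rw [hb, hx']; group
    rw [h3, conj_pow, h15]; group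

/-- converse: `t a ∈ ⟨t x⟩` -/
theorem mem_of_comm [Finite W] {t a x : W} (ht : t ∈ V) (ha : a ∈ A) (hc : x * (t * a) = t * a * x)
    (h15 : (a * x) ^ 15 = 1) (haa : a * a = 1) : t * a ∈ zpowers (t * x) := by
  have h1 : t * x = (t * a) * (a * x) := by
    calc t * x = t * (a * a) * x := by rw [haa, mul_one]
      _ = (t * a) * (a * x) := by group
  have h2 : Commute (t * a) (a * x) := by
    have h3 : Commute (t * a) a := by
      show t * a * a = a * (t * a)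
      rw [← mul_assoc, ← h.comm t ht a ha]
    exact h3.mul_right hc.symm
  refine mem_zpowers_iff.2 ⟨15, ?_⟩
  have h4 : (t * x) ^ 15 = t * a := by
    rw [h1, h2.mul_pow, h15, mul_one]
    have h5 : t * a * (t * a) = 1 := by
      calc t * a * (t * a) = t * (a * t) * a := by group
        _ = t * (t * a) * a := by rw [h.comm t ht a ha]
        _ = (t * t) * (a * a) := by group
        _ = 1 := by rw [h.sq t ht, haa, one_mul]
    calc (t * a) ^ 15 = (t * a * (t * a)) ^ 7 * (t * a) := by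
          rw [← pow_two, ← pow_mul, ← pow_succ]
      _ = t * a := by rw [h5, one_pow, one_mul]
  exact_mod_cast h4

/-- the 13 elements -/
theorem card_thirteen [Finite W] {t a : W} (ht : t ∈ V) (t1 : t ≠ 1) (ha : a ∈ A) (a1 : a ≠ 1)
    (haa : a * a = 1) : Nat.card {x : W // IsX A x ∧ t * a ∈ zpowers (t * x)} = 13 := by
  obtain ⟨e⟩ := h.eA
  have hta : t * a ≠ 1 := by
    intro h1
    have h2 : a = t := by
      rw [← h.invV ht]
      exact (inv_eq_of_mul_eq_one_right h1).symm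
    exact a1 (h.inf (h2 ▸ ht) ha)
  have htt : t * a * (t * a) = 1 := by
    calc t * a * (t * a) = t * (a * t) * a := by group
      _ = t * (t * a) * a := by rw [h.comm t ht a ha]
      _ = (t * t) * (a * a) := by group
      _ = 1 := by rw [h.sq t ht, haa, one_mul]
  obtain ⟨g, v', hv', hv'1, hg⟩ := h.tva t ht t1 a ha haa
  have hca : g⁻¹ * a * g * v' = v' * (g⁻¹ * a * g) := by
    have h1 : v' = g⁻¹ * (t * a) * g := by rw [hg]; group
    rw [h1]
    calc g⁻¹ * a * g * (g⁻¹ * (t * a) * g) = g⁻¹ * (a * t * a) * g := by group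
      _ = g⁻¹ * (t * a * a) * g := by rw [h.comm t ht a ha]
      _ = _ := by group
  set b := g⁻¹ * a * g with hb
  have hbX : IsX A b := (isX_of_mem ha a1 haa).conj' g
  have hbA : b ∈ A := h.mem_A_of_comm hv' hv'1 hbX hca
  have h13 := A5Count.card_odd e (b := ⟨b, hbA⟩) (fun h1 => hbX.ne_one (congrArg Subtype.val h1))
    (Subtype.ext hbX.sq)
  rw [← h13]
  have key : ∀ x : W, (IsX A x ∧ t * a ∈ zpowers (t * x)) ↔
      (g⁻¹ * x * g ∈ A ∧ x ≠ 1 ∧ x * x = 1 ∧ (a * x) ^ 15 = 1) := by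
    intro x
    constructor
    · rintro ⟨hx, hz⟩
      obtain ⟨-, zx⟩ := z_comm (h.sq t ht) hx.sq hz htt
      have hxc : g⁻¹ * x * g * v' = v' * (g⁻¹ * x * g) := by
        have h1 : v' = g⁻¹ * (t * a) * g := by rw [hg]; group
        rw [h1]
        calc g⁻¹ * x * g * (g⁻¹ * (t * a) * g) = g⁻¹ * (x * (t * a)) * g := by group
          _ = g⁻¹ * (t * a * x) * g := by rw [zx]
          _ = _ := by group
      refine ⟨h.mem_A_of_comm hv' hv'1 (hx.conj' g) hxc, hx.ne_one, hx.sq, ?_⟩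
      obtain ⟨a', ha', a'1, haa', h2 | ⟨h2, h3⟩⟩ := h.z_cases ht t1 hx hz hta htt
      · exfalso
        apply t1
        apply h.inf ht
        rw [show t = a' * a⁻¹ by rw [← h2]; group]
        exact mul_mem ha' (inv_mem ha)
      · rw [mul_left_cancel h2]
        exact h3
    · rintro ⟨hx1, hx2, hx3, hx4⟩
      have hX : IsX A x := by
        refine ⟨g, g⁻¹ * x * g, hx1, ?_, ?_, by group⟩
        · intro h1
          apply hx2
          rw [show x = g * (g⁻¹ * x * g) * g⁻¹ by group, h1]; group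
        · rw [show g⁻¹ * x * g * (g⁻¹ * x * g) = g⁻¹ * (x * x) * g by group, hx3]; group
      refine ⟨hX, h.mem_of_comm ht ha ?_ hx4 haa⟩
      have h1 := h.comm v' hv' _ hx1
      rw [hg]
      calc x * (g * v' * g⁻¹) = g * ((g⁻¹ * x * g) * v') * g⁻¹ := by group
        _ = g * (v' * (g⁻¹ * x * g)) * g⁻¹ := by rw [h1]
        _ = g * v' * g⁻¹ * x := by group
  refine Nat.card_congr ⟨fun x => ⟨⟨g⁻¹ * x * g, ((key x).1 x.2).1⟩, ?_, ?_, ?_⟩,
    fun y => ⟨g * (y : A) * g⁻¹, (key _).2 ⟨?_, ?_, ?_, ?_⟩⟩, ?_, ?_⟩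
  · intro h1
    have h2 : g⁻¹ * (x : W) * g = 1 := congrArg Subtype.val h1
    apply ((key x).1 x.2).2.1
    rw [show (x : W) = g * (g⁻¹ * x * g) * g⁻¹ by group, h2]; group
  · apply Subtype.ext
    show g⁻¹ * (x : W) * g * (g⁻¹ * x * g) = 1
    rw [show g⁻¹ * (x : W) * g * (g⁻¹ * x * g) = g⁻¹ * (x * x) * g by group, ((key x).1 x.2).2.2.1]; group
  · apply Subtype.ext
    show (b * (g⁻¹ * (x : W) * g)) ^ 15 = 1
    have h1 : b * (g⁻¹ * (x : W) * g) = g⁻¹ * (a * x) * g := by rw [hb]; group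
    have h2 := conj_pow (i := 15) (a := g⁻¹) (b := a * (x : W))
    rw [inv_inv] at h2
    rw [h1, h2, ((key x).1 x.2).2.2.2]; group
  · rw [show g⁻¹ * (g * ((y : A) : W) * g⁻¹) * g = y by group]
    exact (y : A).2
  · intro h1
    apply y.2.1
    apply Subtype.ext
    show ((y : A) : W) = 1
    rw [show ((y : A) : W) = g⁻¹ * (g * y * g⁻¹) * g by group, h1]; group
  · have h1 : ((y : A) : W) * y = 1 := congrArg Subtype.val y.2.2.1
    rw [show g * ((y : A) : W) * g⁻¹ * (g * y * g⁻¹) = g * (y * y) * g⁻¹ by group, h1]; group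
  · have h1 : (b * ((y : A) : W)) ^ 15 = 1 := congrArg Subtype.val y.2.2.2
    have h2 : a * (g * ((y : A) : W) * g⁻¹) = g * (b * y) * g⁻¹ := by
      show a * (g * ((y : A) : W) * g⁻¹) = g * (g⁻¹ * a * g * y) * g⁻¹
      group
    rw [h2, conj_pow, h1]; group
  · intro x
    apply Subtype.ext
    show g * (g⁻¹ * (x : W) * g) * g⁻¹ = x
    group
  · intro y
    apply Subtype.ext
    apply Subtype.ext
    show g⁻¹ * (g * ((y : A) : W) * g⁻¹) * g = y
    group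

omit h in
theorem card_conj {P Q : W → Prop} (g : W) (hPQ : ∀ x, P x ↔ Q (g * x * g⁻¹)) :
    Nat.card {x // P x} = Nat.card {x // Q x} := by
  refine Nat.card_congr ⟨fun x => ⟨g * x * g⁻¹, (hPQ _).1 x.2⟩, fun y => ⟨g⁻¹ * y * g, (hPQ _).2 ?_⟩, ?_, ?_⟩
  · rw [show g * (g⁻¹ * (y : W) * g) * g⁻¹ = y by group]
    exact y.2
  · intro x
    apply Subtype.ext
    show g⁻¹ * (g * (x : W) * g⁻¹) * g = x
    group
  · intro y
    apply Subtype.ext
    show g * (g⁻¹ * (y : W) * g) * g⁻¹ = y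
    group

omit h in
theorem isX_conj_iff (g x : W) : IsX A (g * x * g⁻¹) ↔ IsX A x := by
  constructor
  · intro h1
    have := h1.conj' g
    rwa [show g⁻¹ * (g * x * g⁻¹) * g = x by group] at this
  · exact fun h1 => h1.conj g

omit h in
theorem zpowers_conj (g r z : W) : g * z * g⁻¹ ∈ zpowers (g * r * g⁻¹) ↔ z ∈ zpowers r := by
  rw [mem_zpowers_iff, mem_zpowers_iff]
  refine exists_congr fun i => ?_
  rw [conj_zpow, mul_left_inj, mul_right_inj]

/-- `β` does not depend on the involution of `A` -/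
theorem beta_eq {t a a' : W} (ht : t ∈ V) (ha : a ∈ A) (a1 : a ≠ 1) (haa : a * a = 1) (ha' : a' ∈ A)
    (a1' : a' ≠ 1) (haa' : a' * a' = 1) :
    Nat.card {x : W // IsX A x ∧ a ∈ zpowers (t * x)} = Nat.card {x : W // IsX A x ∧ a' ∈ zpowers (t * x)} := by
  obtain ⟨e⟩ := h.eA
  obtain ⟨g, hg⟩ := A5Count.conj_inv e (a := ⟨a, ha⟩) (b := ⟨a', ha'⟩) (fun h1 => a1 (congrArg Subtype.val h1))
    (Subtype.ext haa) (fun h1 => a1' (congrArg Subtype.val h1)) (Subtype.ext haa')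
  have hg' : (g : W) * a * (g : W)⁻¹ = a' := congrArg Subtype.val hg
  apply card_conj (g : W)
  intro x
  have h1 : t * ((g : W) * x * (g : W)⁻¹) = g * (t * x) * (g : W)⁻¹ := by
    calc t * ((g : W) * x * (g : W)⁻¹) = (t * g) * x * (g : W)⁻¹ := by group
      _ = g * (t * x) * (g : W)⁻¹ := by rw [h.comm t ht g g.2]; group
  rw [isX_conj_iff, h1, ← hg', zpowers_conj]

/-- `|x^W| = 195 + 15 β` -/
theorem card_X [Finite W] {t a₀ : W} (ht : t ∈ V) (t1 : t ≠ 1) (ha₀ : a₀ ∈ A) (a₀1 : a₀ ≠ 1)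
    (haa₀ : a₀ * a₀ = 1) :
    Nat.card {x : W // IsX A x} = 195 + 15 * Nat.card {x : W // IsX A x ∧ a₀ ∈ zpowers (t * x)} := by
  classical
  obtain ⟨e⟩ := h.eA
  set β := Nat.card {x : W // IsX A x ∧ a₀ ∈ zpowers (t * x)} with hβ
  let I := {y : A // y ≠ 1 ∧ y * y = 1}
  have hI : Nat.card I = 15 := A5Count.card_inv e
  have hIne : ∀ a : I, ((a : A) : W) ≠ 1 := fun a h1 => a.2.1 (Subtype.ext h1)
  have hIsq : ∀ a : I, ((a : A) : W) * (a : A) = 1 := fun a => congrArg Subtype.val a.2.2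
  have hex : ∀ x : {x : W // IsX A x}, ∃ a : I, ((a : A) : W) ∈ zpowers (t * x) ∨
      t * (a : A) ∈ zpowers (t * x) := by
    rintro ⟨x, hx⟩
    obtain ⟨z, hz, z1, hzz⟩ := h.exists_z ht t1 hx
    obtain ⟨a, ha, a1, haa, h1 | ⟨h1, -⟩⟩ := h.z_cases ht t1 hx hz z1 hzz
    · exact ⟨⟨⟨a, ha⟩, fun h2 => a1 (congrArg Subtype.val h2), Subtype.ext haa⟩, Or.inl (h1 ▸ hz)⟩
    · exact ⟨⟨⟨a, ha⟩, fun h2 => a1 (congrArg Subtype.val h2), Subtype.ext haa⟩, Or.inr (h1 ▸ hz)⟩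
  choose f hf using hex
  have hta : ∀ a : I, t * ((a : A) : W) ≠ 1 ∧ t * ((a : A) : W) * (t * (a : A)) = 1 := by
    intro a
    constructor
    · intro h1
      have h2 : ((a : A) : W) = t := by
        rw [← h.invV ht]
        exact (inv_eq_of_mul_eq_one_right h1).symm
      exact hIne a (h.inf (h2 ▸ ht) (a : A).2)
    · calc t * ((a : A) : W) * (t * (a : A)) = t * ((a : A) * t) * (a : A) := by group
        _ = t * (t * (a : A)) * (a : A) := by rw [h.comm t ht (a : A) (a : A).2]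
        _ = (t * t) * ((a : A) * (a : A)) := by group
        _ = 1 := by rw [h.sq t ht, hIsq a, one_mul]
  have hcross : ∀ a b : I, ((a : A) : W) ≠ t * (b : A) := by
    intro a b h1
    apply t1
    apply h.inf ht
    rw [show t = (a : A) * ((b : A) : W)⁻¹ by rw [h1]; group]
    exact mul_mem (a : A).2 (inv_mem (b : A).2)
  have huniq : ∀ (x : {x : W // IsX A x}) (a : I), (((a : A) : W) ∈ zpowers (t * x) ∨
      t * (a : A) ∈ zpowers (t * x)) → f x = a := by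
    intro x a ha
    apply Subtype.ext
    apply Subtype.ext
    rcases hf x with h1 | h1 <;> rcases ha with h2 | h2
    · exact unique_inv h1 h2 (hIne _) (hIsq _) (hIne _) (hIsq _)
    · exact absurd (unique_inv h1 h2 (hIne _) (hIsq _) (hta _).1 (hta _).2) (hcross _ _)
    · exact absurd (unique_inv h2 h1 (hIne _) (hIsq _) (hta _).1 (hta _).2) (hcross _ _)
    · exact mul_left_cancel (unique_inv h1 h2 (hta _).1 (hta _).2 (hta _).1 (hta _).2)
  have hfib : ∀ a : I, Nat.card {x : {x : W // IsX A x} // f x = a} = β + 13 := by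
    intro a
    have e1 : Nat.card {x : {x : W // IsX A x} // f x = a} =
        ({x : W | IsX A x ∧ ((a : A) : W) ∈ zpowers (t * x)} ∪
          {x : W | IsX A x ∧ t * (a : A) ∈ zpowers (t * x)}).ncard := by
      rw [← Nat.card_coe_set_eq]
      refine Nat.card_congr ⟨fun x => ⟨x.1.1, ?_⟩, fun x => ⟨⟨x.1, ?_⟩, ?_⟩, fun x => rfl, fun x => rfl⟩
      · have h1 := hf x.1
        rw [x.2] at h1
        rcases h1 with h1 | h1
        · exact Or.inl ⟨x.1.2, h1⟩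
        · exact Or.inr ⟨x.1.2, h1⟩
      · rcases x.2 with h1 | h1
        · exact h1.1
        · exact h1.1
      · apply huniq
        rcases x.2 with h1 | h1
        · exact Or.inl h1.2
        · exact Or.inr h1.2
    rw [e1, Set.ncard_union_eq]
    · congr 1
      · rw [hβ, h.beta_eq ht ha₀ a₀1 haa₀ (a : A).2 (hIne a) (hIsq a), ← Nat.card_coe_set_eq]
        rfl
      · rw [← h.card_thirteen ht t1 (a : A).2 (hIne a) (hIsq a), ← Nat.card_coe_set_eq]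
        rfl
    · rw [Set.disjoint_left]
      rintro x ⟨-, h1⟩ ⟨-, h2⟩
      exact hcross a a (unique_inv h1 h2 (hIne _) (hIsq _) (hta _).1 (hta _).2)
  have : Finite A := inferInstance
  have hIf : Finite I := inferInstance
  have := Fintype.ofFinite I
  rw [← Nat.card_congr (Equiv.sigmaFiberEquiv f), Nat.card_sigma, Finset.sum_congr rfl (fun a _ => hfib a),
    Finset.sum_const, Finset.card_univ, ← Nat.card_eq_fintype_card, hI]
  simp only [smul_eq_mul]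
  ring

/-- `N(V)` normalises `A` -/
theorem norm_A {n a : W} (hn : n ∈ normalizer (V : Set W)) (ha : a ∈ A) : n⁻¹ * a * n ∈ A := by
  obtain ⟨e⟩ := h.eA
  have hp : A ≤ ⁅A, A⁆ := StepSevenAbs.perfect_of_equiv e
  obtain ⟨v, hv, v1⟩ : ∃ v ∈ V, v ≠ 1 := by
    by_contra hcon
    push Not at hcon
    have : V = ⊥ := by
      rw [eq_bot_iff]
      intro x hx
      exact hcon x hx
    have h4 := h.card4
    rw [this, card_bot] at h4
    norm_num at h4
  have hnv : n * v * n⁻¹ ∈ V := (mem_normalizer_iff.1 hn v).1 hv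
  have hform : ∀ a ∈ A, ∃ v' ∈ V, ∃ a' ∈ A, n⁻¹ * a * n = v' * a' := by
    intro a ha
    apply h.cent v hv v1
    have h1 := h.comm _ hnv a ha
    calc n⁻¹ * a * n * v = n⁻¹ * (a * (n * v * n⁻¹)) * n := by group
      _ = n⁻¹ * (n * v * n⁻¹ * a) * n := by rw [h1]
      _ = v * (n⁻¹ * a * n) := by group
  have hle : ⁅A, A⁆ ≤ A.comap (MulAut.conj n⁻¹).toMonoidHom := by
    rw [commutator_le]
    intro a₁ h₁ a₂ h₂
    obtain ⟨v₁, hv₁, b₁, hb₁, e₁⟩ := hform a₁ h₁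
    obtain ⟨v₂, hv₂, b₂, hb₂, e₂⟩ := hform a₂ h₂
    rw [mem_comap, map_commutatorElement]
    have e₁' : (MulAut.conj n⁻¹).toMonoidHom a₁ = v₁ * b₁ := by
      rw [← e₁]
      show n⁻¹ * a₁ * n⁻¹⁻¹ = _
      rw [inv_inv]
    have e₂' : (MulAut.conj n⁻¹).toMonoidHom a₂ = v₂ * b₂ := by
      rw [← e₂]
      show n⁻¹ * a₂ * n⁻¹⁻¹ = _
      rw [inv_inv]
    rw [e₁', e₂', commutatorElement_def]
    have c1 : Commute v₁ v₂ := h.commV hv₁ hv₂
    have c2 : ∀ b ∈ A, Commute v₁ b := fun b hb => h.comm v₁ hv₁ b hb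
    have c3 : ∀ b ∈ A, Commute v₂ b := fun b hb => h.comm v₂ hv₂ b hb
    have h5 : v₁ * b₁ * (v₂ * b₂) * (v₁ * b₁)⁻¹ * (v₂ * b₂)⁻¹ = b₁ * b₂ * b₁⁻¹ * b₂⁻¹ := by
      calc v₁ * b₁ * (v₂ * b₂) * (v₁ * b₁)⁻¹ * (v₂ * b₂)⁻¹
          = v₁ * (b₁ * v₂) * (b₂ * b₁⁻¹) * v₁⁻¹ * b₂⁻¹ * v₂⁻¹ := by group
        _ = v₁ * v₂ * ((b₁ * b₂ * b₁⁻¹) * v₁⁻¹) * b₂⁻¹ * v₂⁻¹ := by rw [← (c3 b₁ hb₁).eq]; group
        _ = (v₁ * v₂) * v₁⁻¹ * ((b₁ * b₂ * b₁⁻¹ * b₂⁻¹) * v₂⁻¹) := by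
            rw [← (c2 _ (mul_mem (mul_mem hb₁ hb₂) (inv_mem hb₁))).inv_left.eq]; group
        _ = (v₂ * v₁) * v₁⁻¹ * (v₂⁻¹ * (b₁ * b₂ * b₁⁻¹ * b₂⁻¹)) := by
            rw [← (c3 _ (mul_mem (mul_mem (mul_mem hb₁ hb₂) (inv_mem hb₁)) (inv_mem hb₂))).inv_left.eq, c1.eq]
        _ = b₁ * b₂ * b₁⁻¹ * b₂⁻¹ := by group
    rw [h5]
    exact mul_mem (mul_mem (mul_mem hb₁ hb₂) (inv_mem hb₁)) (inv_mem hb₂)
  have h6 := hle (hp ha)
  rw [mem_comap] at h6
  have h7 : n⁻¹ * a * n⁻¹⁻¹ ∈ A := h6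
  rwa [inv_inv] at h7

end Hyp

/-- `x ∈ A^c`, `c` a coset of `N(V)` -/
def Rel (V A : Subgroup W) (c : W ⧸ normalizer (V : Set W)) (x : W) : Prop :=
  ∃ g : W, (g : W ⧸ normalizer (V : Set W)) = c ∧ g⁻¹ * x * g ∈ A

namespace Hyp

variable (h : Hyp V A)
include h

theorem rel_iff (g x : W) : Rel V A (g : W ⧸ normalizer (V : Set W)) x ↔ g⁻¹ * x * g ∈ A := by
  constructor
  · rintro ⟨k, hk, hx⟩
    rw [QuotientGroup.eq] at hk
    have h1 := h.norm_A hk hx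
    rwa [show (k⁻¹ * g)⁻¹ * (k⁻¹ * x * k) * (k⁻¹ * g) = g⁻¹ * x * g by group] at h1
  · intro hx
    exact ⟨g, rfl, hx⟩

omit h in
theorem rel_smul (g x : W) (c : W ⧸ normalizer (V : Set W)) : Rel V A (g • c) (g * x * g⁻¹) ↔ Rel V A c x := by
  constructor
  · rintro ⟨k, hk, hx⟩
    refine ⟨g⁻¹ * k, ?_, ?_⟩
    · have : ((g⁻¹ * k : W) : W ⧸ normalizer (V : Set W)) = g⁻¹ • (k : W ⧸ normalizer (V : Set W)) := rfl
      rw [this, hk, inv_smul_smul]
    · rwa [show (g⁻¹ * k)⁻¹ * x * (g⁻¹ * k) = k⁻¹ * (g * x * g⁻¹) * k by group]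
  · rintro ⟨k, hk, hx⟩
    refine ⟨g * k, ?_, ?_⟩
    · rw [← hk]; rfl
    · rwa [show (g * k)⁻¹ * (g * x * g⁻¹) * (g * k) = k⁻¹ * x * k by group]

/-- `ω` does not depend on the element of type `x` -/
theorem omega_eq {x a₀ : W} (hx : IsX A x) (ha₀ : a₀ ∈ A) (a₀1 : a₀ ≠ 1) (haa₀ : a₀ * a₀ = 1) :
    Nat.card {c : W ⧸ normalizer (V : Set W) // Rel V A c x} =
      Nat.card {c : W ⧸ normalizer (V : Set W) // Rel V A c a₀} := by
  obtain ⟨g, a, ha, a1, haa, rfl⟩ := hx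
  obtain ⟨e⟩ := h.eA
  obtain ⟨k, hk⟩ := A5Count.conj_inv e (a := ⟨a₀, ha₀⟩) (b := ⟨a, ha⟩)
    (fun h1 => a₀1 (congrArg Subtype.val h1)) (Subtype.ext haa₀) (fun h1 => a1 (congrArg Subtype.val h1))
    (Subtype.ext haa)
  have hk' : (k : W) * a₀ * (k : W)⁻¹ = a := congrArg Subtype.val hk
  have h1 : g * a * g⁻¹ = (g * k) * a₀ * (g * k)⁻¹ := by rw [← hk']; group
  rw [h1]
  symm
  refine Nat.card_congr ⟨fun c => ⟨(g * (k : W)) • c.1, (rel_smul _ _ _).2 c.2⟩,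
    fun c => ⟨(g * (k : W))⁻¹ • c.1, ?_⟩, ?_, ?_⟩
  · rw [← rel_smul (g * (k : W)), smul_inv_smul]
    exact c.2
  · intro c
    exact Subtype.ext (inv_smul_smul _ _)
  · intro c
    exact Subtype.ext (smul_inv_smul _ _)

/-- `15 n = |x^W| ω` -/
theorem card_pairs [Finite W] {a₀ : W} (ha₀ : a₀ ∈ A) (a₀1 : a₀ ≠ 1) (haa₀ : a₀ * a₀ = 1) :
    (normalizer (V : Set W)).index * 15 = Nat.card {x : W // IsX A x} *
      Nat.card {c : W ⧸ normalizer (V : Set W) // Rel V A c a₀} := by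
  classical
  obtain ⟨e⟩ := h.eA
  have e1 : Nat.card (Σ c : W ⧸ normalizer (V : Set W), {x : W // IsX A x ∧ Rel V A c x}) =
      (normalizer (V : Set W)).index * 15 := by
    have := Fintype.ofFinite (W ⧸ normalizer (V : Set W))
    rw [Nat.card_sigma]
    have h1 : ∀ c : W ⧸ normalizer (V : Set W), Nat.card {x : W // IsX A x ∧ Rel V A c x} = 15 := by
      intro c
      obtain ⟨g, rfl⟩ := QuotientGroup.mk_surjective c
      rw [← A5Count.card_inv e]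
      refine Nat.card_congr ⟨fun x => ⟨⟨g⁻¹ * x * g, (h.rel_iff g x).1 x.2.2⟩, ?_, ?_⟩,
        fun y => ⟨g * (y : A) * g⁻¹, ?_, (h.rel_iff g _).2 ?_⟩, ?_, ?_⟩
      · intro h2
        exact (x.2.1.conj' g).ne_one (congrArg Subtype.val h2)
      · exact Subtype.ext (x.2.1.conj' g).sq
      · exact ⟨g, (y : A), (y : A).2, fun h2 => y.2.1 (Subtype.ext h2), congrArg Subtype.val y.2.2, rfl⟩
      · rw [show g⁻¹ * (g * ((y : A) : W) * g⁻¹) * g = y by group]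
        exact (y : A).2
      · intro x
        apply Subtype.ext
        show g * (g⁻¹ * (x : W) * g) * g⁻¹ = x
        group
      · intro y
        apply Subtype.ext
        apply Subtype.ext
        show g⁻¹ * (g * ((y : A) : W) * g⁻¹) * g = y
        group
    rw [Finset.sum_congr rfl (fun c _ => h1 c), Finset.sum_const, Finset.card_univ, smul_eq_mul,
      ← Nat.card_eq_fintype_card]
    rfl
  have e2 : Nat.card (Σ x : {x : W // IsX A x}, {c : W ⧸ normalizer (V : Set W) // Rel V A c x}) =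
      Nat.card {x : W // IsX A x} * Nat.card {c : W ⧸ normalizer (V : Set W) // Rel V A c a₀} := by
    have := Fintype.ofFinite {x : W // IsX A x}
    rw [Nat.card_sigma, Finset.sum_congr rfl (fun x _ => h.omega_eq x.2 ha₀ a₀1 haa₀), Finset.sum_const,
      Finset.card_univ, smul_eq_mul, ← Nat.card_eq_fintype_card]
  rw [← e1, ← e2]
  exact Nat.card_congr ⟨fun p => ⟨⟨p.2.1, p.2.2.1⟩, ⟨p.1, p.2.2.2⟩⟩, fun p => ⟨p.2.1, ⟨p.1.1, p.1.2, p.2.2⟩⟩,
    fun p => rfl, fun p => rfl⟩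

end Hyp

end Cfsg.Agent.StdG24.F.Count
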