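import Mathlib
import Cfsg.Agent.StdG24.F.Count
import Cfsg.Agent.SmallSimple.KleinFourAut

/-!
# Lemma F, counting modulo 5: the centralizer of an element of order 5 of `A`
-/

set_option autoImplicit false

namespace Cfsg.Agent.StdG24.F.CountFive

open Subgroup Cfsg.Agent.StdG24.F.Count

variable {W : Type*} [Group W] {V A : Subgroup W}

theorem mem_normalizer_of_forall [Finite W] {g : W} (hg : ∀ v ∈ V, g * v * g⁻¹ ∈ V) :
    g ∈ normalizer (V : Set W) := by
  rw [mem_normalizer_iff]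
  intro v
  refine ⟨hg v, fun h1 => ?_⟩
  let f : V → V := fun v => ⟨g * v * g⁻¹, hg v v.2⟩
  have hinj : Function.Injective f := by
    intro v₁ v₂ h2
    have h3 : g * v₁ * g⁻¹ = g * v₂ * g⁻¹ := congrArg Subtype.val h2
    exact Subtype.ext (mul_left_cancel (mul_right_cancel h3))
  obtain ⟨v', hv'⟩ := (Finite.injective_iff_surjective.1 hinj) ⟨_, h1⟩
  have h3 : g * (v' : W) * g⁻¹ = g * v * g⁻¹ := congrArg Subtype.val hv'
  rw [← mul_left_cancel (mul_right_cancel h3)]
  exact v'.2

/-- a 5-element normalising a group of order 4 centralises it -/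
theorem cent_of_five [Finite W] (h4 : Nat.card V = 4) {u : W} (hu : u ∈ normalizer (V : Set W))
    (hu5 : u ^ 5 = 1) {v : W} (hv : v ∈ V) : u * v = v * u := by
  have h1 : (V.normalizerMonoidHom ⟨u, hu⟩) ^ 5 = 1 := by
    rw [← map_pow, show (⟨u, hu⟩ : normalizer (V : Set W)) ^ 5 = 1 from Subtype.ext hu5, map_one]
  have h2 := orderOf_dvd_of_pow_eq_one h1
  have h3 : orderOf (V.normalizerMonoidHom ⟨u, hu⟩) ∣ 6 := by
    have h5 := SmallSimple.KleinFourAut.card_mulAut_dvd V
    rw [h4] at h5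
    exact (_root_.orderOf_dvd_natCard _).trans h5
  have h4 : orderOf (V.normalizerMonoidHom ⟨u, hu⟩) = 1 := by
    have h5 := Nat.dvd_gcd h2 h3
    have h6 : Nat.gcd 5 6 = 1 := by norm_num
    rw [h6] at h5
    exact Nat.dvd_one.1 h5
  have h5 : (⟨u, hu⟩ : normalizer (V : Set W)) ∈ V.normalizerMonoidHom.ker := by
    rw [MonoidHom.mem_ker]
    exact orderOf_eq_one_iff.1 h4
  rw [normalizerMonoidHom_ker, mem_subgroupOf, mem_centralizer_iff] at h5
  exact (h5 v hv).symm

section

variable (h : Hyp V A) {w : W} (hw : w ∈ A) (w1 : w ≠ 1) (w5 : w ^ 5 = 1)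
include h hw w1 w5

theorem exists_elt {y v : W} (hv : v ∈ V) (v1 : v ≠ 1) (hy : y * w = w * y) {i : ℤ}
    (hc : v⁻¹ * (y * v * y⁻¹) = w ^ i) : ∃ v' ∈ V, ∃ k : ℕ, y = v' * w ^ k := by
  obtain ⟨e⟩ := h.eA
  have h1 : y * v * y⁻¹ = v * w ^ i := by rw [← hc]; group
  have h2 : y * v * y⁻¹ * (y * v * y⁻¹) = 1 := by
    rw [show y * v * y⁻¹ * (y * v * y⁻¹) = y * (v * v) * y⁻¹ by group, h.sq v hv]; group
  have hvw : Commute v (w ^ i) := h.comm v hv _ (zpow_mem hw i)
  have h3 : w ^ i * w ^ i = 1 := h.sqA hv (zpow_mem hw i) (by rw [← h1]; exact h2)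
  have h4 : w ^ i = 1 := by
    have h5 : (w ^ i) ^ 5 = 1 := by
      rw [← zpow_natCast, ← zpow_mul, mul_comm, zpow_mul]
      rw [show (w : W) ^ ((5 : ℕ) : ℤ) = w ^ 5 from zpow_natCast w 5, w5, one_zpow]
    calc w ^ i = (w ^ i) ^ 5 * ((w ^ i * w ^ i) * (w ^ i * w ^ i))⁻¹ := by
          rw [show (w ^ i) ^ 5 = w ^ i * ((w ^ i * w ^ i) * (w ^ i * w ^ i)) by
            simp only [pow_succ, pow_zero, one_mul, mul_assoc]]
          group
      _ = 1 := by rw [h5, h3]; group
  rw [h4, mul_one] at h1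
  obtain ⟨v', hv', a, ha, rfl⟩ := h.cent v hv v1 y (mul_inv_eq_iff_eq_mul.1 h1)
  have haw : a * w = w * a := by
    have h6 := h.comm v' hv' w hw
    apply mul_left_cancel (a := v')
    calc v' * (a * w) = v' * a * w := by group
      _ = w * v' * a := by rw [hy]; group
      _ = v' * (w * a) := by rw [← h6]; group
  obtain ⟨k, hk⟩ := AutA5.cent_five e (u := ⟨w, hw⟩) (fun h1 => w1 (congrArg Subtype.val h1))
    (Subtype.ext w5) (x := ⟨a, ha⟩) (Subtype.ext haw)
  exact ⟨v', hv', k, by rw [show a = w ^ k from congrArg Subtype.val hk]⟩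

/-- `C(w)/⟨w⟩` has the self-centralising four-group `V` -/
theorem hyp_quot {C : Subgroup W} (memC : ∀ x, x ∈ C ↔ x * w = w * x) {Q : Type*} [Group Q]
    (π : C →* Q) (hs : Function.Surjective π) (hπ1 : ∀ y, π y = 1 ↔ (y : W) ∈ zpowers w) :
    J2Type.FourSelfCent.Hyp ((V.subgroupOf C).map π) := by
  have hVC : V ≤ C := fun v hv => (memC v).2 (h.comm v hv w hw)
  have hVw : ∀ v ∈ V, v ∈ zpowers w → v = 1 := by
    intro v hv h1
    obtain ⟨i, rfl⟩ := mem_zpowers_iff.1 h1
    exact h.inf hv (zpow_mem hw i)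
  refine ⟨?_, ?_, ?_⟩
  · rw [← h.card4]
    have h1 : Nat.card (V.subgroupOf C) = Nat.card V := Nat.card_congr (subgroupOfEquivOfLe hVC).toEquiv
    rw [← h1]
    symm
    apply Nat.card_congr
    refine Equiv.ofBijective (fun v => ⟨π v, mem_map_of_mem _ v.2⟩) ⟨?_, ?_⟩
    · intro v v' h2
      have h3 : π v = π v' := congrArg Subtype.val h2
      have h4 : π ((v : C)⁻¹ * v') = 1 := by rw [map_mul, map_inv, h3, inv_mul_cancel]
      have h5 := hVw _ (mul_mem (inv_mem (mem_subgroupOf.1 v.2)) (mem_subgroupOf.1 v'.2)) ((hπ1 _).1 h4)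
      exact Subtype.ext (Subtype.ext (inv_mul_eq_one.1 h5))
    · rintro ⟨_, v, hv, rfl⟩
      exact ⟨⟨v, hv⟩, rfl⟩
  · rintro _ ⟨v, hv, rfl⟩
    rw [← map_mul, show v * v = 1 from Subtype.ext (h.sq v (mem_subgroupOf.1 hv)), map_one]
  · rintro _ ⟨v, hv, rfl⟩ hv1 x hx
    obtain ⟨y, rfl⟩ := hs x
    have hv' : (v : W) ∈ V := mem_subgroupOf.1 hv
    have hv1' : (v : W) ≠ 1 := by
      intro h1
      apply hv1
      rw [show v = 1 from Subtype.ext h1, map_one]
    have h1 : π (v⁻¹ * (y * v * y⁻¹)) = 1 := by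
      rw [map_mul, map_mul, map_mul, map_inv, map_inv, hx]; group
    obtain ⟨i, hi⟩ := mem_zpowers_iff.1 ((hπ1 _).1 h1)
    obtain ⟨v₂, hv₂, k, hk⟩ := exists_elt h hw w1 w5 hv' hv1' ((memC _).1 y.2) (i := i) hi.symm
    refine ⟨⟨v₂, hVC hv₂⟩, mem_subgroupOf.2 hv₂, ?_⟩
    have h2 : π ((⟨v₂, hVC hv₂⟩ : C)⁻¹ * y) = 1 := by
      rw [hπ1]
      show v₂⁻¹ * (y : W) ∈ zpowers w
      rw [hk, inv_mul_cancel_left]
      exact ⟨(k : ℤ), by simp⟩
    rw [map_mul, map_inv] at h2
    exact inv_mul_eq_one.1 h2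

/-- the number of `C(w)`-conjugates of `V` is 1 or 5, and `|C(w)| = 20, 60, 300` -/
theorem index_cases [Finite W] :
    (((normalizer (V : Set W)).subgroupOf (centralizer ({w} : Set W))).index = 1 ∨
      ((normalizer (V : Set W)).subgroupOf (centralizer ({w} : Set W))).index = 5) ∧
    (Nat.card (centralizer ({w} : Set W)) = 20 ∨ Nat.card (centralizer ({w} : Set W)) = 60 ∨
      Nat.card (centralizer ({w} : Set W)) = 300) ∧
    (Nat.card (centralizer ({w} : Set W)) = 300 →
      ((normalizer (V : Set W)).subgroupOf (centralizer ({w} : Set W))).index = 5) := by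
  set C : Subgroup W := centralizer ({w} : Set W) with hC
  have memC : ∀ x, x ∈ C ↔ x * w = w * x := fun x => mem_centralizer_singleton_iff
  have hVC : V ≤ C := fun v hv => (memC v).2 (h.comm v hv w hw)
  set Z : Subgroup C := (zpowers w).subgroupOf C with hZ
  have hwC : w ∈ C := (memC w).2 rfl
  have hZC : zpowers w ≤ C := by rwa [zpowers_le]
  have hnorm : Z.Normal := by
    refine ⟨fun z hz y => ?_⟩
    rw [hZ, mem_subgroupOf] at hz ⊢
    obtain ⟨i, hi⟩ := mem_zpowers_iff.1 hz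
    have h0 : Commute (y : W) w := (memC _).1 y.2
    have h1 : Commute (y : W) (w ^ i) := h0.zpow_right i
    show (y : W) * z * (y : W)⁻¹ ∈ zpowers w
    rw [← hi, h1.eq, mul_inv_cancel_right]
    exact ⟨i, rfl⟩
  set π : C →* C ⧸ Z := QuotientGroup.mk' Z with hπ
  have hs : Function.Surjective π := QuotientGroup.mk'_surjective Z
  have hπ1 : ∀ y, π y = 1 ↔ (y : W) ∈ zpowers w := by
    intro y
    rw [hπ, QuotientGroup.mk'_apply, QuotientGroup.eq_one_iff, hZ, mem_subgroupOf]
  have hU := hyp_quot h hw w1 w5 memC π hs hπ1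
  set U : Subgroup (C ⧸ Z) := (V.subgroupOf C).map π with hUdef
  have : Fact (Nat.Prime 5) := ⟨by norm_num⟩
  have hordw : orderOf w = 5 := orderOf_eq_prime w5 w1
  have hcardC : Nat.card C = 5 * Nat.card (C ⧸ Z) := by
    rw [card_eq_card_quotient_mul_card_subgroup Z, mul_comm]
    congr 1
    rw [hZ, Nat.card_congr (subgroupOfEquivOfLe hZC).toEquiv, Nat.card_zpowers, hordw]
  -- the normaliser
  have hcomap : (normalizer (V : Set W)).subgroupOf C = (normalizer (U : Set (C ⧸ Z))).comap π := by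
    ext y
    rw [mem_subgroupOf, mem_comap]
    constructor
    · intro hy
      apply mem_normalizer_of_forall
      rintro _ ⟨v, hv, rfl⟩
      refine ⟨y * v * y⁻¹, ?_, by rw [map_mul, map_mul, map_inv]⟩
      rw [SetLike.mem_coe, mem_subgroupOf]
      exact (mem_normalizer_iff.1 hy _).1 (mem_subgroupOf.1 hv)
    · intro hy
      apply mem_normalizer_of_forall
      intro v hv
      have h1 : π y * π ⟨v, hVC hv⟩ * (π y)⁻¹ ∈ U :=
        (mem_normalizer_iff.1 hy _).1 ⟨⟨v, hVC hv⟩, mem_subgroupOf.2 hv, rfl⟩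
      obtain ⟨v', hv', h2⟩ := h1
      have hv'' : (v' : W) ∈ V := mem_subgroupOf.1 hv'
      have h3 : π (v'⁻¹ * (y * ⟨v, hVC hv⟩ * y⁻¹)) = 1 := by
        rw [map_mul, map_mul, map_mul, map_inv, map_inv, ← h2, inv_mul_cancel]
      obtain ⟨i, hi⟩ := mem_zpowers_iff.1 ((hπ1 _).1 h3)
      have h4 : (v' : W)⁻¹ * (y * v * (y : W)⁻¹) = w ^ i := hi.symm
      have h5 : (y : W) * v * (y : W)⁻¹ = v' * w ^ i := by rw [← h4]; group
      have h6 : (y : W) * v * (y : W)⁻¹ * (y * v * (y : W)⁻¹) = 1 := by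
        rw [show (y : W) * v * (y : W)⁻¹ * (y * v * (y : W)⁻¹) = y * (v * v) * (y : W)⁻¹ by group, h.sq v hv]
        group
      have h7 : w ^ i * w ^ i = 1 := h.sqA hv'' (zpow_mem hw i) (by rw [← h5]; exact h6)
      have h8 : w ^ i = 1 := by
        rw [← zpow_add, ← two_mul] at h7
        have h9 := orderOf_dvd_iff_zpow_eq_one.2 h7
        rw [hordw] at h9
        apply orderOf_dvd_iff_zpow_eq_one.1
        rw [hordw]
        have h10 : IsCoprime (5 : ℤ) 2 := by norm_num [Int.isCoprime_iff_gcd_eq_one]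
        exact h10.dvd_of_dvd_mul_left h9
      rw [h5, h8, mul_one]
      exact hv''
  rw [hcomap, index_comap_of_surjective _ hs, hcardC]
  have hidx : (normalizer (U : Set (C ⧸ Z))).index = Nat.card ((C ⧸ Z) ⧸ normalizer (U : Set (C ⧸ Z))) := rfl
  have hmul := card_eq_card_quotient_mul_card_subgroup (normalizer (U : Set (C ⧸ Z)))
  have hcases := hU.card_cases
  have hN := hU.card_normalizer
  rw [hidx]
  rcases hN with hN | hN
  · have h4 := hU.card_eq_four hN
    rw [h4, hN] at hmul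
    rw [h4]
    refine ⟨Or.inl (by omega), Or.inl (by norm_num), fun h1 => by omega⟩
  · rw [hN] at hmul
    rcases hcases with h4 | h4 | h4
    · omega
    · rw [h4] at hmul ⊢
      refine ⟨Or.inl (by omega), Or.inr (Or.inl (by norm_num)), fun h1 => by omega⟩
    · rw [h4] at hmul ⊢
      refine ⟨Or.inr (by omega), Or.inr (Or.inr (by norm_num)), fun _ => by omega⟩

/-- the fixed cosets of `w` are the `C(w)`-orbit of `N(V)` -/
theorem fixed_iff [Finite W] (c : W ⧸ normalizer (V : Set W)) : w • c = c ↔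
    ∃ y : W, y * w = w * y ∧ c = (y : W ⧸ normalizer (V : Set W)) := by
  have : Fact (Nat.Prime 2) := ⟨Nat.prime_two⟩
  set C : Subgroup W := centralizer ({w} : Set W) with hC
  have memC : ∀ x, x ∈ C ↔ x * w = w * x := fun x => mem_centralizer_singleton_iff
  have hVC : V ≤ C := fun v hv => (memC v).2 (h.comm v hv w hw)
  obtain ⟨g, rfl⟩ := QuotientGroup.mk_surjective c
  have hiff : w • (g : W ⧸ normalizer (V : Set W)) = g ↔ g⁻¹ * w * g ∈ normalizer (V : Set W) := by
    have h0 : w • (g : W ⧸ normalizer (V : Set W)) = ((w * g : W) : W ⧸ normalizer (V : Set W)) := rfl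
    rw [h0, eq_comm, QuotientGroup.eq, mul_assoc]
  rw [hiff]
  constructor
  · intro hg
    have hu5 : (g⁻¹ * w * g) ^ 5 = 1 := by
      have := conj_pow (i := 5) (a := g⁻¹) (b := w)
      rw [inv_inv] at this
      rw [this, w5]; group
    have hgV : ∀ v ∈ V, g * v * g⁻¹ ∈ C := by
      intro v hv
      have h1 := cent_of_five h.card4 hg hu5 hv
      rw [memC]
      calc g * v * g⁻¹ * w = g * (v * (g⁻¹ * w * g)) * g⁻¹ := by group
        _ = g * (g⁻¹ * w * g * v) * g⁻¹ := by rw [h1]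
        _ = w * (g * v * g⁻¹) := by group
    -- Sylow in `C`
    have hcardC := (index_cases h hw w1 w5).2.1
    rw [← hC] at hcardC
    set V' : Subgroup W := V.map (MulAut.conj g).toMonoidHom with hV'
    have hV'C : V' ≤ C := by
      rintro _ ⟨v, hv, rfl⟩
      exact hgV v hv
    have hcV' : Nat.card V' = 4 := by
      rw [hV', ← h.card4]
      exact Nat.card_congr (V.equivMapOfInjective _ (MulAut.conj g).injective).toEquiv.symm
    have hf : ∀ m : ℕ, ¬ 2 ∣ m → 2 ^ (2 ^ 2 * m).factorization 2 = 4 := by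
      intro m hm
      have hm0 : m ≠ 0 := by rintro rfl; exact hm (dvd_zero 2)
      rw [Nat.factorization_mul (by norm_num) hm0, Finsupp.add_apply, Nat.Prime.factorization_pow Nat.prime_two,
        Finsupp.single_eq_same, Nat.factorization_eq_zero_of_not_dvd hm]
      norm_num
    have hfac : 2 ^ (Nat.card C).factorization 2 = 4 := by
      rcases hcardC with h1 | h1 | h1 <;> rw [h1]
      · exact hf 5 (by norm_num)
      · exact hf 15 (by norm_num)
      · exact hf 75 (by norm_num)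
    have c1 : Nat.card (V.subgroupOf C) = 2 ^ (Nat.card C).factorization 2 := by
      rw [Nat.card_congr (subgroupOfEquivOfLe hVC).toEquiv, h.card4, hfac]
    have c2 : Nat.card (V'.subgroupOf C) = 2 ^ (Nat.card C).factorization 2 := by
      rw [Nat.card_congr (subgroupOfEquivOfLe hV'C).toEquiv, hcV', hfac]
    let S1 : Sylow 2 C := Sylow.ofCard _ c1
    let S2 : Sylow 2 C := Sylow.ofCard _ c2
    obtain ⟨y, hy⟩ := MulAction.exists_smul_eq C S1 S2
    refine ⟨y, (memC y).1 y.2, ?_⟩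
    rw [QuotientGroup.eq]
    have h2 : ∀ v ∈ V, ((y : W)⁻¹ * g) * v * ((y : W)⁻¹ * g)⁻¹ ∈ V := by
      intro v hv
      have h3 : (⟨g * v * g⁻¹, hgV v hv⟩ : C) ∈ S2 := by
        show g * v * g⁻¹ ∈ V'
        exact ⟨v, hv, rfl⟩
      rw [← hy] at h3
      obtain ⟨s, hs, h4⟩ := h3
      have h5 : (y : W) * s * (y : W)⁻¹ = g * v * g⁻¹ := congrArg Subtype.val h4
      have h6 : (s : W) ∈ V := hs
      rw [show (y : W)⁻¹ * g * v * ((y : W)⁻¹ * g)⁻¹ = (y : W)⁻¹ * (g * v * g⁻¹) * y by group, ← h5]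
      rw [show (y : W)⁻¹ * ((y : W) * s * (y : W)⁻¹) * y = s by group]
      exact h6
    have h7 := inv_mem (mem_normalizer_of_forall h2)
    rwa [mul_inv_rev, inv_inv] at h7
  · rintro ⟨y, hy, h1⟩
    rw [QuotientGroup.eq] at h1
    have h2 : w ∈ normalizer (V : Set W) := by
      apply mem_normalizer_of_forall
      intro v hv
      rw [← h.comm v hv w hw, mul_inv_cancel_right]
      exact hv
    have h3 := mul_mem (mul_mem h1 h2) (inv_mem h1)
    have h4 : g⁻¹ * y * w * (g⁻¹ * y)⁻¹ = g⁻¹ * w * g := by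
      calc g⁻¹ * y * w * (g⁻¹ * y)⁻¹ = g⁻¹ * (y * w) * y⁻¹ * g := by group
        _ = g⁻¹ * w * g := by rw [hy]; group
    rwa [h4] at h3

/-- `n = 0, 1` modulo 5 -/
theorem index_mod [Finite W] : (normalizer (V : Set W)).index % 5 = 0 ∨ (normalizer (V : Set W)).index % 5 = 1 := by
  have : Fact (Nat.Prime 5) := ⟨by norm_num⟩
  set C : Subgroup W := centralizer ({w} : Set W) with hC
  have memC : ∀ x, x ∈ C ↔ x * w = w * x := fun x => mem_centralizer_singleton_iff
  have hordw : orderOf w = 5 := orderOf_eq_prime w5 w1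
  have hp : IsPGroup 5 (zpowers w) := IsPGroup.of_card (n := 1) (by rw [Nat.card_zpowers, hordw, pow_one])
  have h1 := hp.card_modEq_card_fixedPoints (W ⧸ normalizer (V : Set W))
  have h2 : Nat.card (MulAction.fixedPoints (zpowers w) (W ⧸ normalizer (V : Set W))) =
      ((normalizer (V : Set W)).subgroupOf C).index := by
    have h3 : ((normalizer (V : Set W)).subgroupOf C) =
        MulAction.stabilizer C ((1 : W) : W ⧸ normalizer (V : Set W)) := by
      ext y
      rw [mem_subgroupOf, MulAction.mem_stabilizer_iff]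
      have h4 : y • ((1 : W) : W ⧸ normalizer (V : Set W)) = (((y : W) * 1 : W) : W ⧸ normalizer (V : Set W)) := rfl
      rw [h4, mul_one, eq_comm, QuotientGroup.eq, inv_one, one_mul]
    rw [h3, MulAction.index_stabilizer, ← Nat.card_coe_set_eq]
    congr 1
    have h5 : MulAction.fixedPoints (zpowers w) (W ⧸ normalizer (V : Set W)) =
        MulAction.orbit C ((1 : W) : W ⧸ normalizer (V : Set W)) := by
      ext c
      rw [MulAction.mem_fixedPoints, MulAction.mem_orbit_iff]
      constructor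
      · intro h6
        have h7 : w • c = c := h6 ⟨w, mem_zpowers w⟩
        obtain ⟨y, hy, hc⟩ := (fixed_iff h hw w1 w5 c).1 h7
        refine ⟨⟨y, (memC y).2 hy⟩, ?_⟩
        rw [hc]
        show ((y * 1 : W) : W ⧸ normalizer (V : Set W)) = y
        rw [mul_one]
      · rintro ⟨y, rfl⟩ ⟨z, hz⟩
        have h7 : w • (y • ((1 : W) : W ⧸ normalizer (V : Set W))) = y • ((1 : W) : W ⧸ normalizer (V : Set W)) := by
          apply (fixed_iff h hw w1 w5 _).2
          refine ⟨y, (memC y).1 y.2, ?_⟩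
          show (((y : W) * 1 : W) : W ⧸ normalizer (V : Set W)) = (y : W)
          rw [mul_one]
        have h8 : zpowers w ≤ MulAction.stabilizer W (y • ((1 : W) : W ⧸ normalizer (V : Set W))) := by
          rw [zpowers_le]
          exact h7
        exact h8 hz
    rw [h5]
  have h3 : (normalizer (V : Set W)).index = Nat.card (W ⧸ normalizer (V : Set W)) := rfl
  rw [h3]
  rw [h2] at h1
  rcases (index_cases h hw w1 w5).1 with h4 | h4
  · right
    rw [h4] at h1
    exact h1
  · left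
    rw [h4] at h1
    exact h1

/-- if `25 ∣ |W|` then `|C(w)| = 300` -/
theorem card_cent [Finite W] (h25 : 25 ∣ Nat.card W) : Nat.card (centralizer ({w} : Set W)) = 300 := by
  have : Fact (Nat.Prime 5) := ⟨by norm_num⟩
  have hordw : orderOf w = 5 := orderOf_eq_prime w5 w1
  obtain ⟨K, hK, hwK⟩ := Sylow.exists_subgroup_card_pow_succ (p := 5) (n := 1) (by simpa using h25)
    (H := zpowers w) (by rw [Nat.card_zpowers, hordw, pow_one])
  have hcomm := IsPGroup.isMulCommutative_of_card_eq_prime_sq (p := 5) (G := K) hK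
  have hle : K ≤ centralizer ({w} : Set W) := by
    intro k hk
    rw [mem_centralizer_singleton_iff]
    have := hcomm.is_comm.comm (⟨k, hk⟩ : K) ⟨w, hwK (mem_zpowers w)⟩
    exact congrArg Subtype.val this
  have h1 := card_dvd_of_le hle
  rw [hK] at h1
  rcases (index_cases h hw w1 w5).2.1 with h2 | h2 | h2
  · rw [h2] at h1; norm_num at h1
  · rw [h2] at h1; norm_num at h1
  · exact h2

/-- if `25 ∣ |W|` then `V` is not normal in `C(w)` -/
theorem exists_moves [Finite W] (h25 : 25 ∣ Nat.card W) : ∃ g, g * w = w * g ∧ ∃ v ∈ V, g * v * g⁻¹ ∉ V := by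
  by_contra hcon
  push Not at hcon
  have h1 := (index_cases h hw w1 w5).2.2 (card_cent h hw w1 w5 h25)
  have h2 : (normalizer (V : Set W)).subgroupOf (centralizer ({w} : Set W)) = ⊤ := by
    rw [subgroupOf_eq_top]
    intro g hg
    rw [mem_centralizer_singleton_iff] at hg
    exact mem_normalizer_of_forall (hcon g hg)
  rw [h2, index_top] at h1
  norm_num at h1

end

end Cfsg.Agent.StdG24.F.CountFive
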