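import Cfsg.Agent.StdG24.F.Basic

/-!
# Lemma F: `|P| = 64`, coordinates, the two types of involutions
(helper393, blueprints/S1767-F.md)
-/

set_option autoImplicit false

namespace Cfsg.Agent.StdG24.F

open Subgroup Cfsg.Agent.J2Sylow.Model Cfsg.Agent.StdAlt.Five

variable {G : Type*} [Group G]

/-- `g` is conjugate to an element of `R#` -/
def TT (R : Subgroup G) (g : G) : Prop := ∃ r ∈ R, r ≠ 1 ∧ IsConj r g

/-- `g` is conjugate to an element of `B#` -/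
def XT (B : Subgroup G) (g : G) : Prop := ∃ x ∈ B, x ≠ 1 ∧ IsConj x g

theorem TT.conj {R : Subgroup G} {g h : G} (hg : TT R g) (k : IsConj g h) : TT R h := by
  obtain ⟨r, hr, hr1, hc⟩ := hg
  exact ⟨r, hr, hr1, hc.trans k⟩

theorem TT.conj' {R : Subgroup G} {g : G} (hg : TT R g) (k : G) : TT R (k * g * k⁻¹) :=
  hg.conj (isConj_iff.2 ⟨k, rfl⟩)

theorem XT.conj {R : Subgroup G} {g h : G} (hg : XT R g) (k : IsConj g h) : XT R h := by
  obtain ⟨r, hr, hr1, hc⟩ := hg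
  exact ⟨r, hr, hr1, hc.trans k⟩

theorem XT.conj' {R : Subgroup G} {g : G} (hg : XT R g) (k : G) : XT R (k * g * k⁻¹) :=
  hg.conj (isConj_iff.2 ⟨k, rfl⟩)

namespace Hyp

variable {R A B : Subgroup G} {ρ b : G} (H : Hyp R A B ρ b)
include H

theorem fourB {x : G} (hx : x ∈ B) (hx1 : x ≠ 1) :
    ∀ z ∈ B, z = 1 ∨ z = x ∨ z = ρ * x * ρ⁻¹ ∨ z = x * (ρ * x * ρ⁻¹) := by
  classical
  intro z hz
  set y := ρ * x * ρ⁻¹ with hy
  have hyB : y ∈ B := H.ρB x hx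
  have hyx : y ≠ x := fun h => hx1 (H.ρfix x hx h)
  have hy1 : y ≠ 1 := by
    intro h
    apply hx1
    have : x = ρ⁻¹ * y * ρ := by rw [hy]; group
    rw [this, h]; group
  by_contra hcon
  push Not at hcon
  obtain ⟨c1, c2, c3, c4⟩ := hcon
  have := H.finB
  have hxyB := B.mul_mem hx hyB
  have n1 : x * y ≠ 1 := by
    intro h
    apply hyx
    rw [mul_eq_one_iff_eq_inv, H.invB hyB] at h
    exact h.symm
  have n2 : x * y ≠ x := fun h => hy1 (by simpa using h)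
  have n3 : x * y ≠ y := fun h => hx1 (by simpa using h)
  have hc : ({⟨1, B.one_mem⟩, ⟨x, hx⟩, ⟨y, hyB⟩, ⟨x * y, hxyB⟩, ⟨z, hz⟩} : Finset B).card ≤
      Nat.card B := by
    haveI := Fintype.ofFinite B
    rw [Nat.card_eq_fintype_card]
    exact Finset.card_le_univ _
  rw [H.cardB] at hc
  rw [Finset.card_insert_of_notMem, Finset.card_insert_of_notMem, Finset.card_insert_of_notMem,
    Finset.card_insert_of_notMem, Finset.card_singleton] at hc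
  · omega
  · simp only [Finset.mem_singleton, Subtype.mk.injEq]
    exact fun h => c4 h.symm
  · simp only [Finset.mem_insert, Finset.mem_singleton, Subtype.mk.injEq, not_or]
    exact ⟨fun h => n3 h.symm, fun h => c3 h.symm⟩
  · simp only [Finset.mem_insert, Finset.mem_singleton, Subtype.mk.injEq, not_or]
    exact ⟨fun h => hyx h.symm, fun h => n2 h.symm, fun h => c2 h.symm⟩
  · simp only [Finset.mem_insert, Finset.mem_singleton, Subtype.mk.injEq, not_or]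
    exact ⟨fun h => hx1 h.symm, fun h => hy1 h.symm, fun h => n1 h.symm, fun h => c1 h.symm⟩

theorem R_le_PP : R ≤ PP R B := by
  intro r hr
  refine ⟨fun x hx => H.comm r hr x (H.B_le hx), fun s hs => ?_⟩
  have : r * s * r⁻¹ * s⁻¹ = 1 := by rw [H.commR hr hs]; group
  rw [this]; exact B.one_mem

theorem B_le_PP : B ≤ PP R B := by
  intro x hx
  refine ⟨fun y hy => H.commB hx hy, fun s hs => ?_⟩
  have : x * s * x⁻¹ * s⁻¹ = 1 := by rw [← H.comm s hs x (H.B_le hx)]; group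
  rw [this]; exact B.one_mem

theorem mul_mem_PP {r x : G} (hr : r ∈ R) (hx : x ∈ B) : r * x ∈ PP R B :=
  (PP R B).mul_mem (H.R_le_PP hr) (H.B_le_PP hx)

theorem free {p r : G} (hp : p ∈ PP R B) (hr : r ∈ R) (hr1 : r ≠ 1) (h : p * r = r * p) :
    ∃ r' ∈ R, ∃ x ∈ B, p = r' * x := by
  obtain ⟨x, hx, hx1⟩ := H.exists_neB
  exact H.mem_of_comm hr hr1 hx hx1 h (hp.1 x hx)

theorem ρPP {p : G} (hp : p ∈ PP R B) : ρ * p * ρ⁻¹ ∈ PP R B := by
  have hρi : ∀ x ∈ B, ρ⁻¹ * x * ρ ∈ B := by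
    intro x hx
    have h2 := H.ρ3
    have h3 : ρ⁻¹ = ρ * ρ := by
      rw [inv_eq_iff_mul_eq_one, ← mul_assoc, ← pow_three', h2]
    have h4 : ρ⁻¹ * x * ρ = ρ * (ρ * x * ρ⁻¹) * ρ⁻¹ := by
      calc ρ⁻¹ * x * ρ = ρ⁻¹ * x * ρ⁻¹⁻¹ := by group
        _ = (ρ * ρ) * x * (ρ * ρ)⁻¹ := by rw [h3]
        _ = _ := by group
    rw [h4]
    exact H.ρB _ (H.ρB _ hx)
  refine ⟨fun x hx => ?_, fun r hr => ?_⟩
  · have h1 := hp.1 _ (hρi x hx)
    calc ρ * p * ρ⁻¹ * x = ρ * (p * (ρ⁻¹ * x * ρ)) * ρ⁻¹ := by group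
      _ = x * (ρ * p * ρ⁻¹) := by rw [h1]; group
  · have h1 := H.comm r hr ρ H.ρA
    have h2 : ρ⁻¹ * r * ρ = r := by rw [mul_assoc, h1]; group
    have h3 : ρ * p * ρ⁻¹ * r * (ρ * p * ρ⁻¹)⁻¹ * r⁻¹ = ρ * (p * r * p⁻¹ * r⁻¹) * ρ⁻¹ := by
      calc ρ * p * ρ⁻¹ * r * (ρ * p * ρ⁻¹)⁻¹ * r⁻¹ =
          ρ * (p * (ρ⁻¹ * r * ρ) * p⁻¹ * (ρ⁻¹ * r * ρ)⁻¹) * ρ⁻¹ := by group
        _ = _ := by rw [h2]
    rw [h3]
    exact H.ρB _ (hp.2 r hr)

/-- `p ↦ [p, r]` -/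
def psi {r : G} (hr : r ∈ R) : PP R B →* B where
  toFun p := ⟨(p : G) * r * (p : G)⁻¹ * r⁻¹, p.2.2 r hr⟩
  map_one' := by ext; simp
  map_mul' p q := by
    apply Subtype.ext
    change (p : G) * q * r * ((p : G) * q)⁻¹ * r⁻¹ =
      ((p : G) * r * (p : G)⁻¹ * r⁻¹) * ((q : G) * r * (q : G)⁻¹ * r⁻¹)
    have h1 := p.2.1 _ (q.2.2 r hr)
    have h2 := H.commB (p.2.2 r hr) (q.2.2 r hr)
    rw [h2]
    calc (p : G) * q * r * ((p : G) * q)⁻¹ * r⁻¹ =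
        ((p : G) * ((q : G) * r * (q : G)⁻¹ * r⁻¹) * (p : G)⁻¹) * ((p : G) * r * (p : G)⁻¹ * r⁻¹) := by
          group
      _ = _ := by rw [h1, mul_inv_cancel_right]

theorem psi_apply {r : G} (hr : r ∈ R) (p : PP R B) :
    ((H.psi hr p : B) : G) = (p : G) * r * (p : G)⁻¹ * r⁻¹ := rfl

theorem psi_surj {r : G} (hr : r ∈ R) (hr1 : r ≠ 1) : Function.Surjective (H.psi hr) := by
  obtain ⟨p, hp, hpr⟩ := H.exists_trans
  have hx1 : p * r * p⁻¹ * r⁻¹ ≠ 1 := by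
    intro h
    apply hpr r hr hr1
    have h2 : p * r * p⁻¹ * r⁻¹ * (r * p) = r * p := by rw [h, one_mul]
    rw [← h2]; group
  have h1 := H.comm r hr ρ H.ρA
  have h2 : ρ⁻¹ * r * ρ = r := by rw [mul_assoc, h1]; group
  have e2 : ρ * p * ρ⁻¹ * r * (ρ * p * ρ⁻¹)⁻¹ * r⁻¹ = ρ * (p * r * p⁻¹ * r⁻¹) * ρ⁻¹ := by
    calc ρ * p * ρ⁻¹ * r * (ρ * p * ρ⁻¹)⁻¹ * r⁻¹ =
        ρ * (p * (ρ⁻¹ * r * ρ) * p⁻¹ * (ρ⁻¹ * r * ρ)⁻¹) * ρ⁻¹ := by group
      _ = _ := by rw [h2]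
  intro z
  rcases H.fourB (hp.2 r hr) hx1 z z.2 with h | h | h | h
  · exact ⟨1, Subtype.ext (by rw [map_one]; exact h.symm)⟩
  · exact ⟨⟨p, hp⟩, Subtype.ext (by rw [h]; rfl)⟩
  · exact ⟨⟨_, H.ρPP hp⟩, Subtype.ext (by rw [h]; exact e2)⟩
  · refine ⟨⟨p, hp⟩ * ⟨_, H.ρPP hp⟩, Subtype.ext ?_⟩
    rw [map_mul, h]
    change (p * r * p⁻¹ * r⁻¹) * (ρ * p * ρ⁻¹ * r * (ρ * p * ρ⁻¹)⁻¹ * r⁻¹) = _
    rw [e2]

theorem psi_ker {r : G} (hr : r ∈ R) (hr1 : r ≠ 1) : Nat.card (H.psi hr).ker = 16 := by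
  have hf : Function.Bijective (fun p : R × B =>
      (⟨⟨(p.1 : G) * p.2, H.mul_mem_PP p.1.2 p.2.2⟩, by
        rw [MonoidHom.mem_ker]
        apply Subtype.ext
        rw [H.psi_apply]
        change (p.1 : G) * p.2 * r * ((p.1 : G) * p.2)⁻¹ * r⁻¹ = 1
        have h1 : (p.1 : G) * p.2 * r = r * ((p.1 : G) * p.2) := by
          rw [mul_assoc, ← H.comm r hr _ (H.B_le p.2.2), ← mul_assoc, H.commR p.1.2 hr, mul_assoc]
        rw [h1]; group⟩ : (H.psi hr).ker)) := by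
    constructor
    · rintro ⟨r1, x1⟩ ⟨r2, x2⟩ h
      have h1 : (r1 : G) * x1 = r2 * x2 := congrArg (fun z => ((z : PP R B) : G))
        (congrArg (fun z : (H.psi hr).ker => (z : PP R B)) h)
      obtain ⟨h2, h3⟩ := H.uniq r1.2 r2.2 (H.B_le x1.2) (H.B_le x2.2) h1
      exact Prod.ext (Subtype.ext h2) (Subtype.ext h3)
    · rintro ⟨⟨p, hp⟩, hk⟩
      rw [MonoidHom.mem_ker] at hk
      have h1 : p * r * p⁻¹ * r⁻¹ = 1 := congrArg Subtype.val hk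
      have h2 : p * r = r * p := by
        have h2 : p * r * p⁻¹ * r⁻¹ * (r * p) = r * p := by rw [h1, one_mul]
        rw [← h2]; group
      obtain ⟨r', hr', x, hx, rfl⟩ := H.free hp hr hr1 h2
      exact ⟨(⟨r', hr'⟩, ⟨x, hx⟩), rfl⟩
  rw [← Nat.card_eq_of_bijective _ hf, Nat.card_prod, H.cardR, H.cardB]

theorem card_PP : Nat.card (PP R B) = 64 := by
  obtain ⟨r, hr, hr1⟩ := H.exists_neR
  have h1 := Subgroup.card_mul_index (H.psi hr).ker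
  rw [Subgroup.index_ker, H.psi_ker hr hr1, MonoidHom.range_eq_top.2 (H.psi_surj hr hr1),
    Subgroup.card_top, H.cardB] at h1
  omega

/-- `R` moves over `rB` -/
theorem exists_PP {r x : G} (hr : r ∈ R) (hr1 : r ≠ 1) (hx : x ∈ B) :
    ∃ p ∈ PP R B, p * r * p⁻¹ = r * x := by
  obtain ⟨⟨p, hp⟩, h⟩ := H.psi_surj hr hr1 ⟨x, hx⟩
  have h1 : p * r * p⁻¹ * r⁻¹ = x := congrArg Subtype.val h
  refine ⟨p, hp, ?_⟩
  rw [H.comm r hr x (H.B_le hx), ← h1]; group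

theorem sqPP {p : G} (hp : p ∈ PP R B) : p * p ∈ B := by
  obtain ⟨r0, hr0, hr01⟩ := H.exists_neR
  -- `p² ∈ ker ψ = RB`
  have h1 : (H.psi hr0) (⟨p, hp⟩ * ⟨p, hp⟩) = 1 := by
    rw [map_mul]
    exact Subtype.ext (H.sqB (H.psi hr0 ⟨p, hp⟩).2)
  have h2 : (p * p) * r0 * (p * p)⁻¹ * r0⁻¹ = 1 := congrArg Subtype.val h1
  have h3 : (p * p) * r0 = r0 * (p * p) := by
    have h3 : (p * p) * r0 * (p * p)⁻¹ * r0⁻¹ * (r0 * (p * p)) = r0 * (p * p) := by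
      rw [h2, one_mul]
    rw [← h3]; group
  obtain ⟨r, hr, x, hx, h4⟩ := H.free ((PP R B).mul_mem hp hp) hr0 hr01 h3
  by_cases hr1 : r = 1
  · rw [h4, hr1, one_mul]; exact hx
  · have h5 : p * r = r * p := by
      have h6 : p * (r * x) = (r * x) * p := by rw [← h4]; group
      have h7 := hp.1 x hx
      have h8 : p * r * x = r * p * x := by
        calc p * r * x = r * x * p := by rw [mul_assoc, h6]
          _ = r * p * x := by rw [mul_assoc, ← h7, ← mul_assoc]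
      exact mul_right_cancel h8
    obtain ⟨r', hr', y, hy, rfl⟩ := H.free hp hr hr1 h5
    have h9 := H.comm r' hr' y (H.B_le hy)
    have h10 : r' * y * (r' * y) = 1 := by
      calc r' * y * (r' * y) = (r' * y) * (y * r') := by rw [← h9]
        _ = r' * (y * y) * r' := by group
        _ = 1 := by rw [H.sqB hy, mul_one, H.sqR r' hr']
    rw [h10]; exact B.one_mem

theorem data : Coord.Data R B (PP R B) ρ where
  cardR := H.cardR
  cardB := H.cardB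
  cardP := H.card_PP
  sqR := H.sqR
  sqB := fun _ hx => H.sqB hx
  inf := fun _ hx hx' => H.disjB hx hx'
  R_le := H.R_le_PP
  B_le := H.B_le_PP
  cent := fun _ hx b hb => hx.1 b hb
  comm_mem := fun _ hx r hr => hx.2 r hr
  free := fun _ hx _ hr hr1 h => H.free hx hr hr1 h
  sq := fun _ hx => H.sqPP hx
  ρP := fun _ hx => H.ρPP hx
  ρR := fun r hr => by rw [← H.comm r hr ρ H.ρA]; group
  ρB := H.ρB
  ρ3 := fun x _ => by
    calc ρ * (ρ * (ρ * x * ρ⁻¹) * ρ⁻¹) * ρ⁻¹ = ρ ^ 3 * x * (ρ ^ 3)⁻¹ := by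
          rw [pow_succ, pow_two]; group
      _ = x := by rw [H.ρ3]; group
  ρfix := H.ρfix

theorem tt_R {r : G} (hr : r ∈ R) (hr1 : r ≠ 1) : TT R r := ⟨r, hr, hr1, IsConj.refl r⟩

theorem tt_E {r x : G} (hr : r ∈ R) (hr1 : r ≠ 1) (hx : x ∈ B) : TT R (r * x) := by
  obtain ⟨p, -, h⟩ := H.exists_PP hr hr1 hx
  exact ⟨r, hr, hr1, isConj_iff.2 ⟨p, h⟩⟩

/-- involutions of `A` are conjugate in `A` into `B` -/
theorem exists_conj_B {a x : G} (ha : a ∈ A) (ha1 : a ≠ 1) (ha2 : a * a = 1) (hx : x ∈ B)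
    (hx1 : x ≠ 1) : ∃ c ∈ A, c * a * c⁻¹ = x := by
  obtain ⟨e⟩ := H.eA
  exact A5.exists_conj e ha ha1 ha2 (H.B_le hx) hx1 (H.sqB hx)

theorem tt_RA {r a : G} (hr : r ∈ R) (hr1 : r ≠ 1) (ha : a ∈ A) (ha2 : a * a = 1) :
    TT R (r * a) := by
  by_cases ha1 : a = 1
  · rw [ha1, mul_one]; exact H.tt_R hr hr1
  obtain ⟨x, hx, hx1⟩ := H.exists_neB
  obtain ⟨c, hc, h⟩ := H.exists_conj_B ha ha1 ha2 hx hx1
  have h1 : r * a = c⁻¹ * (r * x) * c⁻¹⁻¹ := by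
    rw [← h]
    have h2 := H.comm r hr c hc
    calc r * a = c⁻¹ * (c * r) * a := by group
      _ = c⁻¹ * (r * c) * a := by rw [h2]
      _ = _ := by group
  rw [h1]
  exact (H.tt_E hr hr1 hx).conj' _

theorem xt_B {x : G} (hx : x ∈ B) (hx1 : x ≠ 1) : XT B x := ⟨x, hx, hx1, IsConj.refl x⟩

theorem xt_A {a : G} (ha : a ∈ A) (ha1 : a ≠ 1) (ha2 : a * a = 1) : XT B a := by
  obtain ⟨x, hx, hx1⟩ := H.exists_neB
  obtain ⟨c, hc, h⟩ := H.exists_conj_B ha ha1 ha2 hx hx1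
  exact ⟨x, hx, hx1, IsConj.symm (isConj_iff.2 ⟨c, h⟩)⟩

/-- all elements of `B#` are conjugate -/
theorem conjB {x y : G} (hx : x ∈ B) (hx1 : x ≠ 1) (hy : y ∈ B) (hy1 : y ≠ 1) :
    ∃ c ∈ A, c * x * c⁻¹ = y :=
  H.exists_conj_B (H.B_le hx) hx1 (H.sqB hx) hy hy1

theorem card_cent_R {r : G} (hr : r ∈ R) (hr1 : r ≠ 1) :
    Nat.card (Subgroup.centralizer ({r} : Set G)) = 240 := by
  obtain ⟨e⟩ := H.eA
  have hf : Function.Bijective (fun p : R × A =>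
      (⟨(p.1 : G) * p.2, by
        rw [Subgroup.mem_centralizer_singleton_iff]
        calc (p.1 : G) * p.2 * r = p.1 * (p.2 * r) := by group
          _ = p.1 * r * p.2 := by rw [← H.comm r hr _ p.2.2]; group
          _ = r * (p.1 * p.2) := by rw [H.commR p.1.2 hr, mul_assoc]⟩ :
        Subgroup.centralizer ({r} : Set G))) := by
    constructor
    · rintro ⟨r1, x1⟩ ⟨r2, x2⟩ h
      have h1 : (r1 : G) * x1 = r2 * x2 := congrArg Subtype.val h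
      obtain ⟨h2, h3⟩ := H.uniq r1.2 r2.2 x1.2 x2.2 h1
      exact Prod.ext (Subtype.ext h2) (Subtype.ext h3)
    · rintro ⟨p, hp⟩
      rw [Subgroup.mem_centralizer_singleton_iff] at hp
      obtain ⟨r', hr', a, ha, rfl⟩ := H.cent r hr hr1 p hp
      exact ⟨(⟨r', hr'⟩, ⟨a, ha⟩), rfl⟩
  rw [← Nat.card_eq_of_bijective _ hf, Nat.card_prod, H.cardR, A5.card_A e]

theorem not_both [Finite G] {g : G} (h1 : TT R g) (h2 : XT B g) : False := by
  obtain ⟨r, hr, hr1, h1⟩ := h1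
  obtain ⟨x, hx, hx1, h2⟩ := h2
  have h3 : IsConj x r := h2.trans h1.symm
  obtain ⟨k, hk⟩ := isConj_iff.1 h3
  -- `k P k⁻¹ ≤ C(r)`
  have hle : (PP R B).map (MulAut.conj k).toMonoidHom ≤ Subgroup.centralizer ({r} : Set G) := by
    rintro _ ⟨p, hp, rfl⟩
    rw [Subgroup.mem_centralizer_singleton_iff]
    change k * p * k⁻¹ * r = r * (k * p * k⁻¹)
    have h4 := hp.1 x hx
    rw [← hk]
    calc k * p * k⁻¹ * (k * x * k⁻¹) = k * (p * x) * k⁻¹ := by group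
      _ = k * x * k⁻¹ * (k * p * k⁻¹) := by rw [h4]; group
  have h5 := Subgroup.card_dvd_of_le hle
  rw [H.card_cent_R hr hr1, Nat.card_congr
    ((PP R B).equivMapOfInjective _ (MulAut.conj k).injective).symm.toEquiv, H.card_PP] at h5
  norm_num at h5

end Hyp

end Cfsg.Agent.StdG24.F
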