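import Mathlib
import Cfsg.Agent.StdG24.F.Types
import Cfsg.Agent.StdG24.F.CountFive

/-!
# Lemma F: the counting results in the setting of `F.Hyp`
-/

set_option autoImplicit false

namespace Cfsg.Agent.StdG24.F.CountOf

open Subgroup

variable {G : Type*} [Group G] {R A B : Subgroup G} {ρ b : G}

theorem isT_iff (g : G) : Count.IsT R g ↔ TT R g := by
  constructor
  · rintro ⟨k, r, hr, hr1, rfl⟩
    exact ⟨r, hr, hr1, isConj_iff.2 ⟨k, rfl⟩⟩
  · rintro ⟨r, hr, hr1, h⟩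
    obtain ⟨k, hk⟩ := isConj_iff.1 h
    exact ⟨k, r, hr, hr1, hk.symm⟩

theorem isX_iff (H : Hyp R A B ρ b) (g : G) : Count.IsX A g ↔ XT B g := by
  constructor
  · rintro ⟨k, a, ha, ha1, haa, rfl⟩
    exact (H.xt_A ha ha1 haa).conj' k
  · rintro ⟨x, hx, hx1, h⟩
    obtain ⟨k, hk⟩ := isConj_iff.1 h
    exact ⟨k, x, H.B_le hx, hx1, H.sqB hx, hk.symm⟩

theorem hyp [Finite G] (H : Hyp R A B ρ b) : Count.Hyp R A where
  card4 := H.cardR
  sq := H.sqR
  eA := H.eA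
  comm := H.comm
  cent := H.cent
  tva := fun _ hv hv1 _ ha haa => (isT_iff _).2 (H.tt_RA hv hv1 ha haa)
  xt := fun x hx ht => H.not_both ((isT_iff x).1 ht) ((isX_iff H x).1 hx)

end Cfsg.Agent.StdG24.F.CountOf
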