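import Cfsg.Agent.StdG24.F.Norm
import Cfsg.Agent.S0215

/-!
# Lemma F: `B` is normal in `C(x)` if an element of `B` is isolated modulo `x`
(helper393, blueprints/S1767-F.md)
-/

set_option autoImplicit false

namespace Cfsg.Agent.StdG24.F

open Subgroup

/-- a four-group acting on a group of odd order, without fixed points for its involutions -/
theorem odd_trivial {Q : Type*} [Group Q] [Finite Q] {M : Subgroup Q} (_hM : Odd (Nat.card M))
    (hn : ∀ g : Q, ∀ m ∈ M, g * m * g⁻¹ ∈ M) {r s : Q} (hr : r * r = 1) (hs : s * s = 1)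
    (h1 : ∀ m ∈ M, m * r = r * m → m = 1) (h2 : ∀ m ∈ M, m * s = s * m → m = 1)
    (h3 : ∀ m ∈ M, m * (r * s) = (r * s) * m → m = 1) : ∀ m ∈ M, m = 1 := by
  have key : ∀ t : Q, t * t = 1 → (∀ m ∈ M, m * t = t * m → m = 1) → ∀ m ∈ M, t * m * t⁻¹ = m⁻¹ := by
    intro t ht hfp m hm
    let φ : M → M := fun m => ⟨t * m * t⁻¹, hn t m m.2⟩
    have hφ : ∀ m : M, ((φ m : M) : Q) = t * m * t⁻¹ := fun _ => rfl
    have hfpf : ∀ m : M, φ m = m → m = 1 := by
      intro m h
      apply Subtype.ext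
      apply hfp m m.2
      have h4 : t * (m : Q) * t⁻¹ = m := congrArg Subtype.val h
      calc (m : Q) * t = t * m * t⁻¹ * t := by rw [h4]
        _ = t * m := by group
    have hmul : ∀ m n : M, φ (m * n) = φ m * φ n := by
      intro m n
      apply Subtype.ext
      change t * ((m : Q) * n) * t⁻¹ = (t * m * t⁻¹) * (t * n * t⁻¹)
      group
    have hinj : Function.Injective (fun m : M => m⁻¹ * φ m) := by
      intro m n h
      have h : m⁻¹ * φ m = n⁻¹ * φ n := h
      have h5 : n * m⁻¹ = φ (n * m⁻¹) := by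
        have h6 : φ (n * m⁻¹) * φ m = φ n := by rw [← hmul]; congr 1; group
        have h7 : φ (n * m⁻¹) = φ n * (φ m)⁻¹ := by rw [← h6]; group
        rw [h7]
        have h8 : φ n = n * (m⁻¹ * φ m) := by rw [h]; group
        rw [h8]; group
      have h9 := hfpf _ h5.symm
      exact (mul_inv_eq_one.1 h9).symm
    obtain ⟨k, hk⟩ := (Finite.injective_iff_surjective.1 hinj) ⟨m, hm⟩
    have hk : k⁻¹ * φ k = ⟨m, hm⟩ := hk
    have h10 : (k : Q)⁻¹ * (t * k * t⁻¹) = m := congrArg Subtype.val hk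
    have hti : t⁻¹ = t := by rw [inv_eq_iff_mul_eq_one]; exact ht
    rw [← h10]
    calc t * ((k : Q)⁻¹ * (t * k * t⁻¹)) * t⁻¹ = (t * (k : Q)⁻¹ * t⁻¹) * (t * t * k * (t⁻¹ * t⁻¹)) := by
          group
      _ = (t * (k : Q)⁻¹ * t⁻¹) * k := by rw [hti, ht]; group
      _ = _ := by group
  intro m hm
  apply h3 m hm
  have h4 := key s hs h2 m hm
  have h5 := key r hr h1 _ (M.inv_mem hm)
  rw [inv_inv] at h5
  have h6 : (r * s) * m * (r * s)⁻¹ = m := by
    calc (r * s) * m * (r * s)⁻¹ = r * (s * m * s⁻¹) * r⁻¹ := by group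
      _ = m := by rw [h4, h5]
  calc m * (r * s) = (r * s) * m * (r * s)⁻¹ * (r * s) := by rw [h6]
    _ = (r * s) * m := by group

namespace Hyp

variable {G : Type*} [Group G] {R A B : Subgroup G} {ρ b : G} (H : Hyp R A B ρ b)
include H

/-- `B` is normal in `C(x)` -/
theorem normal_of_iso [Finite G] {S : Subgroup G} (hS : IsPGroup 2 S)
    (hmax : ∀ T : Subgroup G, IsPGroup 2 T → S ≤ T → T = S) (hPS : PP R B ≤ S) {x : G} (hx : x ∈ B)
    (hx1 : x ≠ 1) (hSx : ∀ s ∈ S, s * x = x * s)
    (hiso : ∀ c, c * x = x * c → ∀ y ∈ B, c * y * c⁻¹ ∈ S → c * y * c⁻¹ ∈ B) :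
    ∀ c, c * x = x * c → ∀ y ∈ B, c * y * c⁻¹ ∈ B := by
  have : Fact (Nat.Prime 2) := ⟨Nat.prime_two⟩
  set C := Subgroup.centralizer ({x} : Set G) with hC
  have memC : ∀ c : G, c ∈ C ↔ c * x = x * c := fun c => Subgroup.mem_centralizer_singleton_iff
  have hSC : S ≤ C := fun s hs => (memC s).2 (hSx s hs)
  have hBS : B ≤ S := H.B_le_PP.trans hPS
  have hxC : x ∈ C := hSC (hBS hx)
  let xc : C := ⟨x, hxC⟩
  let N : Subgroup C := zpowers xc
  have hNc : ∀ n ∈ N, ∀ c : C, c * n = n * c := by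
    intro n hn c
    obtain ⟨i, rfl⟩ := Subgroup.mem_zpowers_iff.1 hn
    have h1 : Commute c xc := Subtype.ext ((memC c).1 c.2)
    exact (h1.zpow_right i).eq
  have hN : N.Normal := ⟨fun n hn c => by
    rw [hNc n hn c]
    simpa using hn⟩
  have memN : ∀ n : C, n ∈ N ↔ (n : G) = 1 ∨ (n : G) = x := by
    intro n
    constructor
    · intro hn
      obtain ⟨i, rfl⟩ := Subgroup.mem_zpowers_iff.1 hn
      rcases Int.even_or_odd i with ⟨j, hj⟩ | ⟨j, hj⟩
      · left
        rw [hj, ← two_mul, zpow_mul, zpow_two]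
        have : xc * xc = 1 := Subtype.ext (H.sqB hx)
        rw [this, one_zpow]; rfl
      · right
        rw [hj, zpow_add, zpow_mul, zpow_two]
        have : xc * xc = 1 := Subtype.ext (H.sqB hx)
        rw [this, one_zpow, one_mul, zpow_one]
    · rintro (h | h)
      · have : n = 1 := Subtype.ext h
        rw [this]; exact N.one_mem
      · have : n = xc := Subtype.ext h
        rw [this]; exact Subgroup.mem_zpowers _
  let π : C →* C ⧸ N := QuotientGroup.mk' N
  have hπ : Function.Surjective π := QuotientGroup.mk'_surjective N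
  have hker : ∀ c d : C, π c = π d → (d : G) = c ∨ (d : G) = c * x := by
    intro c d h
    have h1 : c⁻¹ * d ∈ N := QuotientGroup.eq.1 h
    rcases (memN _).1 h1 with h2 | h2
    · left
      have h3 : (c : G)⁻¹ * d = 1 := h2
      exact (inv_mul_eq_one.1 h3).symm
    · right
      have h3 : (c : G)⁻¹ * d = x := h2
      rw [← h3]; group
  -- the Sylow subgroup
  let S' : Sylow 2 C :=
    { toSubgroup := S.subgroupOf C
      isPGroup' := hS.comap_of_injective _ C.subtype_injective
      is_maximal' := by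
        intro Q hQ hle
        have h2 := hmax (Q.map C.subtype) (hQ.map _) (by
          have hmap : (S.subgroupOf C).map C.subtype = S := by
            rw [Subgroup.subgroupOf_map_subtype, inf_eq_left.2 hSC]
          rw [← hmap]; exact Subgroup.map_mono hle)
        rw [← h2]
        exact (Subgroup.comap_map_eq_self_of_injective C.subtype_injective Q).symm }
  -- the element `x' = ρ x ρ⁻¹`
  set y := ρ * x * ρ⁻¹ with hy
  have hyB : y ∈ B := H.ρB x hx
  have hyx : y ≠ x := fun h => hx1 (H.ρfix x hx h)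
  have hy1 : y ≠ 1 := by
    intro h
    apply hx1
    have : x = ρ⁻¹ * y * ρ := by rw [hy]; group
    rw [this, h]; group
  have hyC : y ∈ C := hSC (hBS hyB)
  let yc : C := ⟨y, hyC⟩
  have hu : orderOf (π yc) = 2 := by
    apply orderOf_eq_prime
    · rw [← map_pow]
      have : yc ^ 2 = 1 := Subtype.ext (by
        rw [pow_two]; exact H.sqB hyB)
      rw [this, map_one]
    · intro h
      rcases hker yc 1 (by rw [h, map_one]) with h1 | h1
      · exact hy1 h1.symm
      · apply hyx
        have h2 : (1 : G) = y * x := h1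
        rw [eq_comm, mul_eq_one_iff_eq_inv, H.invB hx] at h2
        exact h2
  have huS : π yc ∈ S'.mapSurjective hπ := ⟨yc, Subgroup.mem_subgroupOf.2 (hBS hyB), rfl⟩
  have hxS : x ∈ S := hBS hx
  have hz := Cfsg.Agent.S0215.result (S'.mapSurjective hπ) (π yc) hu huS (by
    intro g hg
    obtain ⟨c, rfl⟩ := hπ g
    obtain ⟨d, hd, hdc⟩ := hg
    have hdS : (d : G) ∈ S := Subgroup.mem_subgroupOf.1 hd
    have h1 : π d = π (c * yc * c⁻¹) := by rw [map_mul, map_mul, map_inv]; exact hdc
    have h2 : (c : G) * y * (c : G)⁻¹ ∈ S := by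
      rcases hker _ _ h1 with h3 | h3
      · have h4 : (c : G) * y * (c : G)⁻¹ = d := h3
        rw [h4]; exact hdS
      · have h4 : (c : G) * y * (c : G)⁻¹ = d * x := h3
        rw [h4]; exact S.mul_mem hdS hxS
    have h5 := hiso c ((memC c).1 c.2) y hyB h2
    have h6 : c * yc * c⁻¹ = yc ∨ c * yc * c⁻¹ = xc * yc := by
      rcases H.fourB hx hx1 _ h5 with h7 | h7 | h7 | h7
      · exfalso
        apply hy1
        have : y = (c : G)⁻¹ * (c * y * (c : G)⁻¹) * c := by group
        rw [this, h7]; group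
      · exfalso
        apply hyx
        have h8 := (memC c).1 c.2
        have : y = (c : G)⁻¹ * (c * y * (c : G)⁻¹) * c := by group
        rw [this, h7, mul_assoc, ← h8]; group
      · left; exact Subtype.ext h7
      · right; exact Subtype.ext h7
    change π c * π yc * (π c)⁻¹ = π yc
    rw [← map_inv, ← map_mul, ← map_mul]
    rcases h6 with h6 | h6
    · rw [h6]
    · rw [h6, map_mul]
      have : π xc = 1 := (QuotientGroup.eq_one_iff _).2 (Subgroup.mem_zpowers _)
      rw [this, one_mul])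
  obtain ⟨M, hMn, hModd, hM⟩ := hz
  -- `M = 1`
  have hodd : ∀ m ∈ M, m ^ 4 = 1 → m = 1 := by
    intro m hm h4
    have h1 : orderOf m ∣ 4 := orderOf_dvd_of_pow_eq_one h4
    have h2 : orderOf m ∣ Nat.card M := by
      have := orderOf_dvd_natCard (⟨m, hm⟩ : M)
      rwa [Subgroup.orderOf_mk] at this
    have h3 : Nat.Coprime 4 (Nat.card M) := by
      have : Nat.Coprime 2 (Nat.card M) := (Nat.coprime_two_left).2 hModd
      exact Nat.Coprime.pow_left 2 this
    have h5 : orderOf m ∣ 1 := by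
      rw [← h3]; exact Nat.dvd_gcd h1 h2
    exact orderOf_eq_one_iff.1 (Nat.dvd_one.1 h5)
  have hRC : ∀ r ∈ R, r ∈ C := fun r hr => hSC (hPS (H.R_le_PP hr))
  have hfix : ∀ (r : G) (hr : r ∈ R), r ≠ 1 → ∀ m ∈ M, m * π ⟨r, hRC r hr⟩ = π ⟨r, hRC r hr⟩ * m →
      m = 1 := by
    intro r hr hr1 m hm h
    obtain ⟨c, rfl⟩ := hπ m
    apply hodd _ hm
    have hcx := (memC c).1 c.2
    have key : ∀ d : C, (d : G) * r = r * d → d * d = 1 := by
      intro d hd
      obtain ⟨r', hr', z, hz, hdz⟩ := H.mem_of_comm hr hr1 hx hx1 hd ((memC d).1 d.2)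
      apply Subtype.ext
      change (d : G) * d = 1
      rw [hdz]
      calc r' * z * (r' * z) = r' * (z * r') * z := by group
        _ = (r' * r') * (z * z) := by rw [← H.comm r' hr' z (H.B_le hz)]; group
        _ = 1 := by rw [H.sqR r' hr', H.sqB hz, one_mul]
    have h1 : π (⟨r, hRC r hr⟩ * c) = π (c * ⟨r, hRC r hr⟩) := by
      rw [map_mul, map_mul, h]
    rcases hker _ _ h1 with h2 | h2
    · have h3 : (c : G) * r = r * c := h2
      have h4 := key c h3
      have : c ^ 4 = 1 := by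
        rw [show (4 : ℕ) = 2 * 2 from rfl, pow_mul, pow_two c, h4, one_pow]
      rw [← map_pow, this, map_one]
    · have h3 : (c : G) * r = r * c * x := h2
      have h4 : (c : G) * c * r = r * (c * c) := by
        calc (c : G) * c * r = c * (c * r) := by group
          _ = c * (r * c * x) := by rw [h3]
          _ = (c * r) * c * x := by group
          _ = r * c * (x * c) * x := by rw [h3]; group
          _ = r * c * c * (x * x) := by rw [← hcx]; group
          _ = r * (c * c) := by rw [H.sqB hx]; group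
      have h5 := key (c * c) h4
      have : c ^ 4 = 1 := by
        rw [show (4 : ℕ) = 2 * 2 from rfl, pow_mul, pow_two c, pow_two, h5]
      rw [← map_pow, this, map_one]
  -- two involutions of `R`
  obtain ⟨r, hr, hr1⟩ := H.exists_neR
  obtain ⟨s, hs, hs1, hsr⟩ : ∃ s ∈ R, s ≠ 1 ∧ s ≠ r := by
    classical
    by_contra hcon
    push Not at hcon
    have h1 : Nat.card R ≤ 2 := by
      have h2 : Function.Injective (fun s : R => decide ((s : G) = 1)) := by
        intro s t hst
        apply Subtype.ext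
        by_cases h3 : (s : G) = 1 <;> by_cases h4 : (t : G) = 1
        · rw [h3, h4]
        · simp [h3, h4] at hst
        · simp [h3, h4] at hst
        · rw [hcon s s.2 h3, hcon t t.2 h4]
      have h3 := Nat.card_le_card_of_injective _ h2
      simpa using h3
    rw [H.cardR] at h1
    omega
  have hrs1 : r * s ≠ 1 := by
    intro h
    apply hsr
    rw [mul_eq_one_iff_eq_inv, H.invR hs] at h
    exact h.symm
  have hMtriv : ∀ m ∈ M, m = 1 := by
    apply odd_trivial hModd (fun g m hm => hMn.conj_mem m hm g)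
      (r := π ⟨r, hRC r hr⟩) (s := π ⟨s, hRC s hs⟩)
    · rw [← map_mul]
      have : (⟨r, hRC r hr⟩ : C) * ⟨r, hRC r hr⟩ = 1 := Subtype.ext (H.sqR r hr)
      rw [this, map_one]
    · rw [← map_mul]
      have : (⟨s, hRC s hs⟩ : C) * ⟨s, hRC s hs⟩ = 1 := Subtype.ext (H.sqR s hs)
      rw [this, map_one]
    · exact hfix r hr hr1
    · exact hfix s hs hs1
    · intro m hm h
      apply hfix (r * s) (R.mul_mem hr hs) hrs1 m hm
      have h1 : (⟨r * s, hRC _ (R.mul_mem hr hs)⟩ : C) = ⟨r, hRC r hr⟩ * ⟨s, hRC s hs⟩ := rfl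
      rw [h1, map_mul]
      exact h
  -- so `y` is central modulo `x`
  intro c hc
  have hcC : c ∈ C := (memC c).2 hc
  have h1 := hMtriv _ (hM (π ⟨c, hcC⟩))
  have h2 : π (⟨c, hcC⟩ * yc) = π (yc * ⟨c, hcC⟩) := by
    rw [map_mul, map_mul]
    have h3 : π yc * π ⟨c, hcC⟩ * (π yc)⁻¹ * (π ⟨c, hcC⟩)⁻¹ * (π ⟨c, hcC⟩ * π yc) =
      π yc * π ⟨c, hcC⟩ := by group
    rw [h1, one_mul] at h3
    exact h3
  have hcy : c * y * c⁻¹ ∈ B := by
    rcases hker _ _ h2 with h3 | h3
    · have h4 : y * c = c * y := h3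
      rw [← h4, mul_inv_cancel_right]
      exact hyB
    · have h4 : y * c = c * y * x := h3
      have h5 : c * y = y * c * x := by
        rw [h4, mul_assoc (c * y), H.sqB hx, mul_one]
      have h6 : c * y * c⁻¹ = y * x := by
        rw [h5, mul_assoc y, hc, ← mul_assoc, mul_inv_cancel_right]
      rw [h6]
      exact B.mul_mem hyB hx
  have hcx : c * x * c⁻¹ ∈ B := by rw [hc, mul_inv_cancel_right]; exact hx
  intro z hz
  rcases H.fourB hx hx1 z hz with h | h | h | h
  · rw [h]; simp
  · rw [h]; exact hcx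
  · rw [h]; exact hcy
  · rw [h]
    have : c * (x * (ρ * x * ρ⁻¹)) * c⁻¹ = (c * x * c⁻¹) * (c * y * c⁻¹) := by rw [hy]; group
    rw [this]
    exact B.mul_mem hcx hcy

end Hyp

end Cfsg.Agent.StdG24.F
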