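import Cfsg.Agent.StdG24.F.Syl
import Cfsg.Agent.StdG24.F.ZStarB

/-!
# Lemma F, case I: `P` is a Sylow 2-subgroup
(helper393, blueprints/S1767-F.md)
-/

set_option autoImplicit false

namespace Cfsg.Agent.StdG24.F

open Subgroup Cfsg.Agent.J2Sylow.Model Cfsg.Agent.StdAlt.Five

theorem isPGroup_zpowers_of_pow {G : Type*} [Group G] {s : G} {n : ℕ} (hs : s ^ (2 ^ n) = 1) :
    IsPGroup 2 (zpowers s) := by
  rintro ⟨t, ht⟩
  obtain ⟨i, rfl⟩ := Subgroup.mem_zpowers_iff.1 ht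
  refine ⟨n, Subtype.ext ?_⟩
  change (s ^ i) ^ (2 ^ n) = 1
  rw [← zpow_natCast, ← zpow_mul, mul_comm, zpow_mul, zpow_natCast, hs, one_zpow]

namespace Hyp

variable {G : Type*} [Group G] {R A B : Subgroup G} {ρ b : G} (H : Hyp R A B ρ b)
include H

/-- if `E^g ≤ Q` and `g` normalises `P`, then `g` swaps `E` and `Q` -/
theorem sw_of_conj [Finite G] {X Y Z : F4 → G}
    (F : Coord.Frame R B (PP R B) ρ 0 X Y Z) {g : G} (hn : ∀ p ∈ PP R B, g * p * g⁻¹ ∈ PP R B)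
    (h : ∀ f ∈ H.EE, ∃ b c, g * f * g⁻¹ = Y b * Z c) : Sw R B Y Z g := by
  have hEQ : ∀ q ∈ QQ H.data F, ∃ f ∈ H.EE, q = g * f * g⁻¹ := by
    have hinj : Function.Injective (fun f : H.EE => (⟨g * f * g⁻¹, h f f.2⟩ : QQ H.data F)) := by
      intro f1 f2 h12
      have h3 : g * (f1 : G) * g⁻¹ = g * f2 * g⁻¹ := congrArg Subtype.val h12
      exact Subtype.ext (mul_left_cancel (mul_right_cancel h3))
    have hfin : Finite (QQ H.data F) := inferInstance
    have := hinj.bijective_of_nat_card_le (by rw [H.card_EE, card_QQ])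
    intro q hq
    obtain ⟨f, hf⟩ := this.2 ⟨q, hq⟩
    exact ⟨f, f.2, (congrArg Subtype.val hf).symm⟩
  have hQE : ∀ q ∈ QQ H.data F, ∃ r ∈ R, ∃ x ∈ B, g * q * g⁻¹ = r * x := by
    rcases H.elem_conj F (card_QQ H.data F) (sq_QQ H.data F)
      (fun f hf => hn f (QQ_le H.data F hf)) with h4 | ⟨-, h4⟩
    · exact h4
    · -- then `Q^g ≤ Q = E^g`, so `Q ≤ E`
      exfalso
      have h5 : F4.e = 0 := by
        obtain ⟨b, c, h6⟩ := h4 (Y F4.e) ⟨F4.e, 0, by rw [F.Z_zero, mul_one]⟩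
        obtain ⟨f, hf, h7⟩ := hEQ (Y b * Z c) ⟨b, c, rfl⟩
        have h8 : Y F4.e = f := by
          rw [h7] at h6
          exact mul_left_cancel (mul_right_cancel h6)
        obtain ⟨r, hr, x, hx, h9⟩ := hf
        obtain ⟨a, rfl⟩ := F.X_surj r hr
        obtain ⟨c', rfl⟩ := F.Z_surj x hx
        have h10 : Y F4.e * X 0 * Z 0 = Y 0 * X a * Z c' := by
          rw [F.X_zero, F.Y_zero, F.Z_zero, one_mul, mul_one, mul_one, h8, h9]
        exact (F.inj _ _ _ _ _ _ h10).1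
      exact absurd h5 (by decide)
  refine ⟨fun r hr => h r ⟨r, hr, 1, B.one_mem, by simp⟩,
    fun b => hQE _ ⟨b, 0, by rw [F.Z_zero, mul_one]⟩, fun x hx => ?_⟩
  apply mem_B_of_both F
  · obtain ⟨c, rfl⟩ := F.Z_surj x hx
    exact hQE _ ⟨0, c, by rw [F.Y_zero, one_mul]⟩
  · exact h x ⟨1, R.one_mem, x, hx, by simp⟩

/-- two swaps -/
theorem sw_sw [Finite G] {X Y Z : F4 → G}
    {g h : G} (hg : Sw R B Y Z g) (hh : Sw R B Y Z h) {ε : F4}
    (F : Coord.Frame R B (PP R B) ρ ε X Y Z) :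
    ∀ f, (∃ r ∈ R, ∃ x ∈ B, f = r * x) → ∃ r ∈ R, ∃ x ∈ B, g * h * f * (g * h)⁻¹ = r * x := by
  rintro _ ⟨r, hr, x, hx, rfl⟩
  obtain ⟨b, c, h4⟩ := hh.RQ r hr
  obtain ⟨s, hs, y, hy, h5⟩ := hg.QE b
  have h6 := hh.BB x hx
  have h7 := B.mul_mem (F.Z_mem c) h6
  refine ⟨s, hs, y * (g * (Z c * (h * x * h⁻¹)) * g⁻¹), B.mul_mem hy (hg.BB _ h7), ?_⟩
  calc g * h * (r * x) * (g * h)⁻¹ = g * ((h * r * h⁻¹) * (h * x * h⁻¹)) * g⁻¹ := by group
    _ = (g * Y b * g⁻¹) * (g * (Z c * (h * x * h⁻¹)) * g⁻¹) := by rw [h4]; group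
    _ = _ := by rw [h5]; group

theorem sw_ee [Finite G] {X Y Z : F4 → G}
    {g h : G} (hg : Sw R B Y Z g) {ε : F4} (F : Coord.Frame R B (PP R B) ρ ε X Y Z)
    (hh : ∀ f, (∃ r ∈ R, ∃ x ∈ B, f = r * x) → ∃ r ∈ R, ∃ x ∈ B, h * f * h⁻¹ = r * x) :
    ∀ f, (∃ r ∈ R, ∃ x ∈ B, f = r * x) → ∃ b c, g * h * f * (g * h)⁻¹ = Y b * Z c := by
  intro f hf
  obtain ⟨r, hr, x, hx, h4⟩ := hh f hf
  obtain ⟨b, c, h5⟩ := hg.RQ r hr
  obtain ⟨c', h6⟩ := F.Z_surj _ (hg.BB x hx)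
  refine ⟨b, c + c', ?_⟩
  calc g * h * f * (g * h)⁻¹ = g * (h * f * h⁻¹) * g⁻¹ := by group
    _ = (g * r * g⁻¹) * (g * x * g⁻¹) := by rw [h4]; group
    _ = _ := by rw [h5, ← h6, F.Z_add, mul_assoc]

/-- for `p ∈ P \ E` and `z ∈ B` some `r ∈ R` has `p^r = p z` -/
theorem exists_R {p : G} (hp : p ∈ PP R B) (hpE : ¬ ∃ r ∈ R, ∃ x ∈ B, p = r * x) {z : G}
    (hz : z ∈ B) : ∃ r ∈ R, r * p * r⁻¹ = p * z := by
  have hp' := (PP R B).inv_mem hp
  have hf : ∀ r ∈ R, p⁻¹ * r * p * r⁻¹ ∈ B := by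
    intro r hr
    have := (mem_PP.1 hp').2 r hr
    rwa [inv_inv] at this
  have hfinR := H.finR
  have hfinB := H.finB
  have hinj : Function.Injective (fun r : R => (⟨p⁻¹ * r * p * (r : G)⁻¹, hf r r.2⟩ : B)) := by
    intro r s h
    have h1 : p⁻¹ * r * p * (r : G)⁻¹ = p⁻¹ * s * p * (s : G)⁻¹ := congrArg Subtype.val h
    by_contra hne
    apply hpE
    apply H.free hp (R.mul_mem (R.inv_mem s.2) r.2)
    · intro h2
      apply hne
      exact Subtype.ext (inv_mul_eq_one.1 h2).symm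
    · have h3 : (r : G) * p * (r : G)⁻¹ = s * p * (s : G)⁻¹ := by
        calc (r : G) * p * (r : G)⁻¹ = p * (p⁻¹ * r * p * (r : G)⁻¹) := by group
          _ = s * p * (s : G)⁻¹ := by rw [h1]; group
      calc p * ((s : G)⁻¹ * r) = (s : G)⁻¹ * (s * p * (s : G)⁻¹) * r := by group
        _ = (s : G)⁻¹ * r * p := by rw [← h3]; group
  have hbij := hinj.bijective_of_nat_card_le (by rw [H.cardR, H.cardB])
  obtain ⟨r, hr⟩ := hbij.2 ⟨z, hz⟩
  refine ⟨r, r.2, ?_⟩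
  have h1 : p⁻¹ * r * p * (r : G)⁻¹ = z := congrArg Subtype.val hr
  rw [← h1]; group

/-- `E` is a Sylow 2-subgroup of `C(r)` -/
theorem EE_max [Finite G] {r : G} (hr : r ∈ R) (hr1 : r ≠ 1) (T : Subgroup G)
    (hT : T ≤ Subgroup.centralizer ({r} : Set G)) (hT2 : IsPGroup 2 T) (hET : H.EE ≤ T) :
    T = H.EE := by
  have : Fact (Nat.Prime 2) := ⟨Nat.prime_two⟩
  symm
  apply Subgroup.eq_of_le_of_card_ge hET
  obtain ⟨n, hn⟩ := IsPGroup.iff_card.1 hT2
  have h1 := Subgroup.card_dvd_of_le hT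
  rw [H.card_cent_R hr hr1, hn] at h1
  rw [hn, H.card_EE]
  by_contra hcon
  push Not at hcon
  have h2 : 4 < n := by
    rw [show (16 : ℕ) = 2 ^ 4 by norm_num] at hcon
    exact (Nat.pow_lt_pow_iff_right (by norm_num)).1 hcon
  have h3 : 2 ^ 5 ∣ 240 := (Nat.pow_dvd_pow 2 h2).trans h1
  norm_num at h3

variable [Finite G] (hmax : ∀ T : Subgroup G, IsPGroup 2 T → PP R B ≤ T → T = PP R B)
include hmax

/-- `N(P)` normalises `E` -/
theorem caseI_noswap (g : G) (hn : ∀ p ∈ PP R B, g * p * g⁻¹ ∈ PP R B) :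
    ∀ f, (∃ r ∈ R, ∃ x ∈ B, f = r * x) → ∃ r ∈ R, ∃ x ∈ B, g * f * g⁻¹ = r * x := by
  obtain ⟨ε, X, Y, Z, hε, F⟩ := H.data.exists_frame
  rcases H.elem_conj F H.card_EE H.sq_EE (fun f hf => hn f (H.EE_le hf)) with h | ⟨h0, h⟩
  · exact fun f hf => h f hf
  exfalso
  subst h0
  have hsw := H.sw_of_conj F hn h
  -- odd powers of `g` swap
  have hn' : ∀ k : ℕ, ∀ p ∈ PP R B, g ^ k * p * (g ^ k)⁻¹ ∈ PP R B := by
    intro k
    induction k with
    | zero => intro p hp; simpa using hp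
    | succ k ih =>
      intro p hp
      have : g ^ (k + 1) * p * (g ^ (k + 1))⁻¹ = g * (g ^ k * p * (g ^ k)⁻¹) * g⁻¹ := by
        rw [pow_succ']; group
      rw [this]
      exact hn _ (ih p hp)
  have hodd : ∀ k : ℕ, Sw R B Y Z (g ^ (2 * k + 1)) := by
    intro k
    induction k with
    | zero => simpa using hsw
    | succ k ih =>
      apply H.sw_of_conj F (hn' _)
      have e1 : g ^ (2 * (k + 1) + 1) = g * (g * g ^ (2 * k + 1)) := by
        rw [← pow_succ', ← pow_succ']; congr 1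
      rw [e1]
      exact fun f hf => H.sw_ee hsw F (H.sw_sw hsw ih F) f hf
  -- a 2-element
  obtain ⟨n, m, hm, hnm⟩ := Nat.exists_eq_two_pow_mul_odd (n := orderOf g) (orderOf_pos g).ne'
  obtain ⟨k, rfl⟩ := hm
  have h2 : IsPGroup 2 (zpowers (g ^ (2 * k + 1))) := by
    apply isPGroup_zpowers_of_pow (n := n)
    rw [← pow_mul, mul_comm, ← hnm, pow_orderOf_eq_one]
  obtain ⟨c, hc1, hc2⟩ := exists_conj_le (N := Subgroup.normalizer (PP R B : Set G))
    H.isPGroup_PP hmax Subgroup.le_normalizer h2 (by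
      rw [Subgroup.zpowers_le]; exact mem_norm_of (hn' _))
  have h3 := hc2 _ (Subgroup.mem_zpowers _)
  have h4 : g ^ (2 * k + 1) ∈ PP R B := (Subgroup.mem_normalizer_iff.1 hc1 _).2 h3
  exact H.not_sw_mem F (hodd k) h4

/-- conjugates of `E` or `Q` -/
theorem caseI_tt (p : G) (hp : p ∈ PP R B) (hpt : TT R p) : ∃ r ∈ R, ∃ x ∈ B, p = r * x := by
  by_contra hpE
  obtain ⟨ε, X, Y, Z, hε, F⟩ := H.data.exists_frame
  obtain ⟨r, hr, hr1, hrp⟩ := hpt
  obtain ⟨k, hk⟩ := isConj_iff.1 hrp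
  obtain ⟨b', a, c, hpe⟩ := F.P_surj p hp
  have hb : b' ≠ 0 := by
    intro h
    apply hpE
    exact ⟨X a, F.X_mem _, Z c, F.Z_mem _, by rw [hpe, h, F.Y_zero, one_mul]⟩
  have hpsq : p * p = 1 := by
    rw [← hk]
    calc k * r * k⁻¹ * (k * r * k⁻¹) = k * (r * r) * k⁻¹ := by group
      _ = 1 := by rw [H.sqR r hr]; group
  have ha : a = ε := by
    rcases frame_inv H.data F (b := b') (a := a) (c := c) (by rw [← hpe]; exact hpsq) with h | h
    · exact absurd h hb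
    · exact h
  subst ha
  -- elements of `P` commuting with `p` are involutions
  have hinv : ∀ u ∈ PP R B, u * p = p * u → u * u = 1 := by
    intro u hu hup
    have h1 : k⁻¹ * u * k * r = r * (k⁻¹ * u * k) := by
      have h2 : r = k⁻¹ * p * k := by rw [← hk]; group
      rw [h2]
      calc k⁻¹ * u * k * (k⁻¹ * p * k) = k⁻¹ * (u * p) * k := by group
        _ = k⁻¹ * p * k * (k⁻¹ * u * k) := by rw [hup]; group
    obtain ⟨s, hs, a', ha', h3⟩ := H.cent r hr hr1 _ h1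
    have h4 : u ^ 4 = 1 := by
      have h5 := H.sqB (H.sqPP hu)
      rw [show (4 : ℕ) = 2 * 2 from rfl, pow_mul, pow_two, pow_two]
      exact h5
    have hcom : Commute s a' := H.comm s hs a' ha'
    have h6 : a' ^ 4 = 1 := by
      have h7 : (s * a') ^ 4 = 1 := by
        rw [← h3]
        have : k⁻¹ * u * k = MulAut.conj k⁻¹ u := by simp
        rw [this, ← map_pow, h4, map_one]
      rw [hcom.mul_pow, show (4 : ℕ) = 2 * 2 from rfl, pow_mul, pow_two s, H.sqR s hs, one_pow,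
        one_mul] at h7
      exact h7
    obtain ⟨e⟩ := H.eA
    have h8 := A5.sq_of_pow_four e ha' h6
    have h9 : (k⁻¹ * u * k) * (k⁻¹ * u * k) = 1 := by
      rw [h3]
      calc s * a' * (s * a') = s * (a' * s) * a' := by group
        _ = (s * s) * (a' * a') := by rw [← H.comm s hs a' ha']; group
        _ = 1 := by rw [H.sqR s hs, h8, one_mul]
    calc u * u = k * ((k⁻¹ * u * k) * (k⁻¹ * u * k)) * k⁻¹ := by group
      _ = 1 := by rw [h9]; group
  -- `ε = 0`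
  have hε0 : a = 0 := by
    rcases hε with h | h
    · exact h
    exfalso
    subst h
    have h1 : (Y (F4.w * b') * X F4.w * Z 0) * p = p * (Y (F4.w * b') * X F4.w * Z 0) := by
      rw [hpe, frame_mul H.data F, frame_mul H.data F]
      congr 1
      · rw [add_comm (F4.w * b') b', add_comm F4.w F4.e]
      · congr 1
        have : ∀ b c : F4, 0 + c + F4.w * b + F4.e * F4.fr (F4.w * b * b) =
          c + 0 + F4.e * (F4.w * b) + F4.e * F4.fr (b * (F4.w * b)) := by decide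
        exact this b' c
    have h2 := hinv _ (by
      rw [F.Z_zero, mul_one]
      exact (PP R B).mul_mem (F.Y_mem _) (H.R_le_PP (F.X_mem _))) h1
    rcases frame_inv H.data F h2 with h3 | h3
    · have : ∀ b : F4, F4.w * b = 0 → b = 0 := by decide
      exact hb (this b' h3)
    · exact absurd h3 (by decide)
  subst hε0
  -- `Q^{k⁻¹} ≤ C(r)`
  have hQp : ∀ q ∈ QQ H.data F, q * p = p * q := by
    have hpQ : p ∈ QQ H.data F := ⟨b', c, by rw [hpe, F.X_zero, mul_one]⟩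
    intro q hq
    have i1 : q⁻¹ = q := by rw [inv_eq_iff_mul_eq_one]; exact sq_QQ H.data F q hq
    have i2 : p⁻¹ = p := by rw [inv_eq_iff_mul_eq_one]; exact hpsq
    calc q * p = (q * p)⁻¹ := by
          rw [eq_inv_iff_mul_eq_one]; exact sq_QQ H.data F _ ((QQ H.data F).mul_mem hq hpQ)
      _ = p⁻¹ * q⁻¹ := by group
      _ = p * q := by rw [i1, i2]
  have hQ2 : IsPGroup 2 ((QQ H.data F).map (MulAut.conj k⁻¹).toMonoidHom) :=
    (IsPGroup.of_card (n := 4) (by rw [card_QQ]; norm_num)).map _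
  obtain ⟨c0, hc0, hc1⟩ := exists_conj_le' (N := Subgroup.centralizer ({r} : Set G))
    (S := H.EE) (IsPGroup.of_card (n := 4) (by rw [H.card_EE]; norm_num))
    (H.EE_max hr hr1) (by
      rintro _ ⟨s, hs, x, hx, rfl⟩
      rw [Subgroup.mem_centralizer_singleton_iff]
      calc s * x * r = s * (x * r) := by group
        _ = s * r * x := by rw [← H.comm r hr x (H.B_le hx)]; group
        _ = r * (s * x) := by rw [H.commR hs hr]; group) hQ2 (by
      rintro _ ⟨q, hq, rfl⟩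
      rw [Subgroup.mem_centralizer_singleton_iff]
      change k⁻¹ * q * k⁻¹⁻¹ * r = r * (k⁻¹ * q * k⁻¹⁻¹)
      have h2 : r = k⁻¹ * p * k := by rw [← hk]; group
      rw [h2]
      calc k⁻¹ * q * k⁻¹⁻¹ * (k⁻¹ * p * k) = k⁻¹ * (q * p) * k := by group
        _ = k⁻¹ * p * k * (k⁻¹ * q * k⁻¹⁻¹) := by rw [hQp q hq]; group)
  set g0 := c0 * k⁻¹ with hg0
  have hgQ : ∀ q ∈ QQ H.data F, g0 * q * g0⁻¹ ∈ H.EE := by
    intro q hq
    have h1 := hc1 _ ⟨q, hq, rfl⟩
    change c0 * (k⁻¹ * q * k⁻¹⁻¹) * c0⁻¹ ∈ H.EE at h1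
    have h2 : g0 * q * g0⁻¹ = c0 * (k⁻¹ * q * k⁻¹⁻¹) * c0⁻¹ := by rw [hg0]; group
    rw [h2]; exact h1
  have hgQ' : ∀ f ∈ H.EE, ∃ q ∈ QQ H.data F, f = g0 * q * g0⁻¹ := by
    have hinj : Function.Injective (fun q : QQ H.data F => (⟨g0 * q * g0⁻¹, hgQ q q.2⟩ : H.EE)) := by
      intro f1 f2 h12
      have h3 : g0 * (f1 : G) * g0⁻¹ = g0 * f2 * g0⁻¹ := congrArg Subtype.val h12
      exact Subtype.ext (mul_left_cancel (mul_right_cancel h3))
    have := hinj.bijective_of_nat_card_le (by rw [H.card_EE, card_QQ])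
    intro q hq
    obtain ⟨f, hf⟩ := this.2 ⟨q, hq⟩
    exact ⟨f, f.2, (congrArg Subtype.val hf).symm⟩
  -- `P` and `P^{g0}` normalise `E`
  have hPE : ∀ p ∈ PP R B, ∀ f ∈ H.EE, p * f * p⁻¹ ∈ H.EE := by
    rintro p hp _ ⟨s, hs, x, hx, rfl⟩
    refine ⟨s, hs, p * s * p⁻¹ * s⁻¹ * x, B.mul_mem (hp.2 s hs) hx, ?_⟩
    have h1 := H.comm s hs _ (H.B_le (hp.2 s hs))
    have h2 := hp.1 x hx
    calc p * (s * x) * p⁻¹ = p * s * p⁻¹ * (p * x * p⁻¹) := by group
      _ = p * s * p⁻¹ * x := by rw [h2, mul_inv_cancel_right]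
      _ = (p * s * p⁻¹ * s⁻¹) * s * x := by group
      _ = _ := by rw [← h1, mul_assoc]
  have hPQ : ∀ p ∈ PP R B, ∀ f ∈ QQ H.data F, p * f * p⁻¹ ∈ QQ H.data F := by
    rintro p hp _ ⟨b1, c1, rfl⟩
    obtain ⟨b2, a2, c2, rfl⟩ := F.P_surj p hp
    refine ⟨b1, c1 + a2 * b1, ?_⟩
    rw [mul_inv_eq_iff_eq_mul]
    have h1 : Y b1 * Z c1 = Y b1 * X 0 * Z c1 := by rw [F.X_zero, mul_one]
    have h2 : Y b1 * Z (c1 + a2 * b1) = Y b1 * X 0 * Z (c1 + a2 * b1) := by
      rw [F.X_zero, mul_one]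
    rw [h1, h2, frame_mul H.data F, frame_mul H.data F, add_comm b2 b1, add_comm a2 0]
    congr 2
    rw [zero_mul, zero_mul, zero_mul]
    ring
  obtain ⟨n, hn1, hn2⟩ := exists_conj_le (N := Subgroup.normalizer (H.EE : Set G))
    (S := PP R B) H.isPGroup_PP hmax (fun p hp => mem_norm_of (hPE p hp))
    (T := (PP R B).map (MulAut.conj g0).toMonoidHom) (H.isPGroup_PP.map _) (by
      rintro _ ⟨p, hp, rfl⟩
      apply mem_norm_of
      intro f hf
      change g0 * p * g0⁻¹ * f * (g0 * p * g0⁻¹)⁻¹ ∈ H.EE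
      obtain ⟨q, hq, rfl⟩ := hgQ' f hf
      have h1 : g0 * p * g0⁻¹ * (g0 * q * g0⁻¹) * (g0 * p * g0⁻¹)⁻¹ = g0 * (p * q * p⁻¹) * g0⁻¹ := by
        group
      rw [h1]
      exact hgQ _ (hPQ p hp q hq))
  have h5 := H.caseI_noswap hmax (n * g0) (by
    intro p hp
    have h6 := hn2 _ ⟨p, hp, rfl⟩
    change n * (g0 * p * g0⁻¹) * n⁻¹ ∈ PP R B at h6
    have h7 : n * g0 * p * (n * g0)⁻¹ = n * (g0 * p * g0⁻¹) * n⁻¹ := by group
    rw [h7]; exact h6)
  -- `E^g = E = Q^g`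
  have h6 : ∀ q ∈ QQ H.data F, n * g0 * q * (n * g0)⁻¹ ∈ H.EE := by
    intro q hq
    have h7 : n * g0 * q * (n * g0)⁻¹ = n * (g0 * q * g0⁻¹) * n⁻¹ := by group
    rw [h7]
    exact (Subgroup.mem_normalizer_iff.1 hn1 _).1 (hgQ q hq)
  have hinj : Function.Injective (fun f : H.EE =>
      (⟨n * g0 * f * (n * g0)⁻¹, h5 f f.2⟩ : H.EE)) := by
    intro f1 f2 h12
    have h3 : n * g0 * (f1 : G) * (n * g0)⁻¹ = n * g0 * f2 * (n * g0)⁻¹ := congrArg Subtype.val h12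
    exact Subtype.ext (mul_left_cancel (mul_right_cancel h3))
  have hpQ : p ∈ QQ H.data F := ⟨b', c, by rw [hpe, F.X_zero, mul_one]⟩
  obtain ⟨f, hf⟩ := (Finite.injective_iff_surjective.1 hinj) ⟨_, h6 p hpQ⟩
  have h7 : n * g0 * (f : G) * (n * g0)⁻¹ = n * g0 * p * (n * g0)⁻¹ := congrArg Subtype.val hf
  have h8 : (f : G) = p := mul_left_cancel (mul_right_cancel h7)
  apply hpE
  rw [← h8]
  exact f.2

/-- `B` is normal in `C(x)` -/
theorem caseI_normal (x : G) (hx : x ∈ B) (hx1 : x ≠ 1) :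
    ∀ g, g * x = x * g → ∀ y ∈ B, g * y * g⁻¹ ∈ B := by
  have hcent : ∀ s ∈ PP R B, ∀ x ∈ B, s * x = x * s := fun s hs x hx => hs.1 x hx
  apply H.normal_of_iso H.isPGroup_PP hmax le_rfl hx hx1 (fun s hs => hs.1 x hx)
  intro c hc y' hy' hP
  by_contra hB
  -- `y' ≠ 1, x`
  set y := c * y' * c⁻¹ with hy
  have hy'1 : y' ≠ 1 := by
    intro h
    apply hB
    rw [hy, h]; simp
  have hy'x : y' ≠ x := by
    intro h
    apply hB
    rw [hy, h, hc, mul_inv_cancel_right]; exact hx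
  have hxt : XT B y := (H.xt_B hy' hy'1).conj' c
  -- the elements of `B`
  have hall : ∀ z ∈ B, z = 1 ∨ z = x ∨ z = y' ∨ z = x * y' := by
    intro z hz
    have h1 := H.fourB hx hx1 y' hy'
    have h2 := H.fourB hx hx1 z hz
    have hxx := H.sqB hx
    have hρx : ρ * x * ρ⁻¹ = x * (x * (ρ * x * ρ⁻¹)) := by rw [← mul_assoc, hxx, one_mul]
    rcases h1 with h1 | h1 | h1 | h1
    · exact absurd h1 hy'1
    · exact absurd h1 hy'x
    · rcases h2 with h2 | h2 | h2 | h2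
      · exact Or.inl h2
      · exact Or.inr (Or.inl h2)
      · right; right; left; rw [h2, h1]
      · right; right; right; rw [h2, h1]
    · rcases h2 with h2 | h2 | h2 | h2
      · exact Or.inl h2
      · exact Or.inr (Or.inl h2)
      · right; right; right; rw [h2, h1, ← mul_assoc, hxx, one_mul]
      · right; right; left; rw [h2, h1]
  have hyc : ∀ z ∈ B, c * z * c⁻¹ = 1 ∨ c * z * c⁻¹ = x ∨ c * z * c⁻¹ = y ∨ c * z * c⁻¹ = x * y := by
    intro z hz
    have hcx : c * x * c⁻¹ = x := by rw [hc, mul_inv_cancel_right]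
    rcases hall z hz with h | h | h | h
    · left; rw [h]; simp
    · right; left; rw [h, hcx]
    · right; right; left; rw [h]
    · right; right; right
      rw [h]
      calc c * (x * y') * c⁻¹ = (c * x * c⁻¹) * (c * y' * c⁻¹) := by group
        _ = x * y := by rw [hcx]
  -- adjust `c`
  let N := Subgroup.centralizer (((B.map (MulAut.conj c).toMonoidHom : Subgroup G)) : Set G)
  have hNmem : ∀ n, n ∈ N ↔ ∀ z ∈ B, (c * z * c⁻¹) * n = n * (c * z * c⁻¹) := by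
    intro n
    rw [Subgroup.mem_centralizer_iff]
    constructor
    · intro h z hz
      exact h _ ⟨z, hz, rfl⟩
    · rintro h _ ⟨z, hz, rfl⟩
      exact h z hz
  obtain ⟨n, hn1, hn2⟩ := exists_conj_le (N := N)
    (S := (PP R B).map (MulAut.conj c).toMonoidHom) (H.isPGroup_PP.map _)
    (by
      intro T hT hle
      have h1 := hmax (T.map (MulAut.conj c⁻¹).toMonoidHom) (hT.map _) (by
        intro p hp
        refine ⟨c * p * c⁻¹, hle ⟨p, hp, rfl⟩, ?_⟩
        change c⁻¹ * (c * p * c⁻¹) * c⁻¹⁻¹ = p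
        group)
      apply le_antisymm _ hle
      intro t ht
      refine ⟨c⁻¹ * t * c, ?_, ?_⟩
      · rw [← h1]
        exact ⟨t, ht, by change c⁻¹ * t * c⁻¹⁻¹ = _; group⟩
      · change c * (c⁻¹ * t * c) * c⁻¹ = t
        group)
    (by
      rintro _ ⟨p, hp, rfl⟩
      rw [hNmem]
      intro z hz
      change c * z * c⁻¹ * (c * p * c⁻¹) = c * p * c⁻¹ * (c * z * c⁻¹)
      have h1 := hp.1 z hz
      calc c * z * c⁻¹ * (c * p * c⁻¹) = c * (z * p) * c⁻¹ := by group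
        _ = c * p * c⁻¹ * (c * z * c⁻¹) := by rw [← h1]; group)
    (T := B) (IsPGroup.of_card (n := 2) (by rw [H.cardB]; norm_num)) (by
      intro t ht
      rw [hNmem]
      intro z hz
      have h1 : x * t = t * x := H.commB hx ht
      have h2 : y * t = t * y := hP.1 t ht
      rcases hyc z hz with h | h | h | h
      · rw [h, one_mul, mul_one]
      · rw [h, h1]
      · rw [h, h2]
      · rw [h]
        calc x * y * t = x * (y * t) := by group
          _ = x * t * y := by rw [h2]; group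
          _ = t * (x * y) := by rw [h1]; group)
  set d := n⁻¹ * c with hd
  have hnx : n⁻¹ * x * n = x := by
    have h1 := (hNmem n).1 hn1 x hx
    have hcx : c * x * c⁻¹ = x := by rw [hc, mul_inv_cancel_right]
    rw [hcx] at h1
    rw [mul_assoc, h1]; group
  have hny : n⁻¹ * y * n = y := by
    have h1 := (hNmem n).1 hn1 y' hy'
    rw [← hy] at h1
    rw [mul_assoc, h1]; group
  have hdx : d * x * d⁻¹ = x := by
    have hcx : c * x * c⁻¹ = x := by rw [hc, mul_inv_cancel_right]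
    calc d * x * d⁻¹ = n⁻¹ * (c * x * c⁻¹) * n := by rw [hd]; group
      _ = x := by rw [hcx, hnx]
  have hdy : d * y' * d⁻¹ = y := by
    calc d * y' * d⁻¹ = n⁻¹ * (c * y' * c⁻¹) * n := by rw [hd]; group
      _ = y := by rw [← hy, hny]
  have hdB : ∀ z ∈ B, d⁻¹ * z * d ∈ PP R B := by
    intro z hz
    obtain ⟨p, hp, hpz⟩ := hn2 z hz
    have h1 : c * p * c⁻¹ = n * z * n⁻¹ := hpz
    have h2 : d⁻¹ * z * d = p := by
      calc d⁻¹ * z * d = c⁻¹ * (n * z * n⁻¹) * c := by rw [hd]; group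
        _ = p := by rw [← h1]; group
    rw [h2]; exact hp
  set p := d⁻¹ * y' * d with hp
  have hpP : p ∈ PP R B := hdB y' hy'
  have hpx : XT B p := by
    have h1 : p = d⁻¹ * y' * d⁻¹⁻¹ := by rw [hp]; group
    rw [h1]
    exact (H.xt_B hy' hy'1).conj' _
  have hpB : p ∉ B := by
    intro h
    have h1 : y' = d * p * d⁻¹ := by rw [hp]; group
    rcases hall p h with h2 | h2 | h2 | h2
    · apply hy'1; rw [h1, h2]; group
    · apply hy'x; rw [h1, h2, hdx]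
    · apply hB
      rw [h2, hdy] at h1
      rw [← h1]; exact hy'
    · apply hB
      have h3 : y' = x * y := by
        calc y' = d * p * d⁻¹ := h1
          _ = (d * x * d⁻¹) * (d * y' * d⁻¹) := by rw [h2]; group
          _ = x * y := by rw [hdx, hdy]
      have h4 : y = x * y' := by rw [h3, ← mul_assoc, H.sqB hx, one_mul]
      rw [h4]; exact B.mul_mem hx hy'
  have hpE : ¬ ∃ r ∈ R, ∃ x ∈ B, p = r * x := by
    rintro ⟨r, hr, z, hz, h⟩
    by_cases hr1 : r = 1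
    · apply hpB; rw [h, hr1, one_mul]; exact hz
    · exact H.not_both (by rw [h]; exact H.tt_E hr hr1 hz) hpx
  obtain ⟨r, hr, hrp⟩ := H.exists_R hpP hpE hx
  set s := d * r * d⁻¹ with hs
  have hdx' : d⁻¹ * x * d = x := by
    calc d⁻¹ * x * d = d⁻¹ * (d * x * d⁻¹) * d := by rw [hdx]
      _ = x := by group
  have hsx : s * x * s⁻¹ = x := by
    calc s * x * s⁻¹ = d * (r * (d⁻¹ * x * d) * r⁻¹) * d⁻¹ := by rw [hs]; group
      _ = d * (x * r * r⁻¹) * d⁻¹ := by rw [hdx', H.comm r hr x (H.B_le hx)]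
      _ = x := by rw [mul_inv_cancel_right, hdx]
  have hsy : s * y' * s⁻¹ = y' * x := by
    calc s * y' * s⁻¹ = d * (r * (d⁻¹ * y' * d) * r⁻¹) * d⁻¹ := by rw [hs]; group
      _ = d * (p * x) * d⁻¹ := by rw [← hp, hrp]
      _ = y' * (d * x * d⁻¹) := by rw [hp]; group
      _ = y' * x := by rw [hdx]
  have hss : s * s = 1 := by
    calc s * s = d * (r * r) * d⁻¹ := by rw [hs]; group
      _ = 1 := by rw [H.sqR r hr]; group
  have h1 := comm_of_norm H.isPGroup_PP hmax hcent (isPGroup_zpowers_of_sq hss) (by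
    intro z hz
    rcases hall z hz with h | h | h | h
    · rw [h]; simp
    · rw [h, hsx]; exact hx
    · rw [h, hsy]; exact B.mul_mem hy' hx
    · have h2 : s * z * s⁻¹ = (s * x * s⁻¹) * (s * y' * s⁻¹) := by rw [h]; group
      rw [h2, hsx, hsy]
      exact B.mul_mem hx (B.mul_mem hy' hx)) y' hy'
  have h2 : s * y' * s⁻¹ = y' := by rw [h1, mul_inv_cancel_right]
  rw [h2] at hsy
  apply hx1
  exact (left_eq_mul.1 hsy)

end Hyp

end Cfsg.Agent.StdG24.F
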