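import Cfsg.Agent.StdG24.F.Types

/-!
# Lemma F: 2-elements normalising `R`, `E`, `P`
(helper393, blueprints/S1767-F.md)
-/

set_option autoImplicit false

namespace Cfsg.Agent.StdG24.F

open Subgroup Cfsg.Agent.J2Sylow.Model Cfsg.Agent.StdAlt.Five

/-! ### general lemmas -/

section general

variable {G : Type*} [Group G]

/-- a 2-group acting on a group of even order fixes a non-trivial element -/
theorem exists_fix {T K : Subgroup G} (hT : IsPGroup 2 T) (hfin : Finite K) (hK : 2 ∣ Nat.card K)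
    (hn : ∀ t ∈ T, ∀ k ∈ K, t * k * t⁻¹ ∈ K) : ∃ k ∈ K, k ≠ 1 ∧ ∀ t ∈ T, t * k * t⁻¹ = k := by
  have : Fact (Nat.Prime 2) := ⟨Nat.prime_two⟩
  let _ : MulAction T K :=
    { smul := fun t k => ⟨(t : G) * k * (t : G)⁻¹, hn t t.2 k k.2⟩
      one_smul := fun k => Subtype.ext (by
        change ((1 : T) : G) * k * ((1 : T) : G)⁻¹ = k
        simp)
      mul_smul := fun s t k => Subtype.ext (by
        change ((s * t : T) : G) * k * ((s * t : T) : G)⁻¹ = (s : G) * ((t : G) * k * (t : G)⁻¹) * (s : G)⁻¹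
        rw [Subgroup.coe_mul]; group) }
  have hsm : ∀ (t : T) (k : K), ((t • k : K) : G) = (t : G) * k * (t : G)⁻¹ := fun _ _ => rfl
  obtain ⟨k, hk, hk1⟩ := hT.exists_fixed_point_of_prime_dvd_card_of_fixed_point K hK
    (a := (1 : K)) (fun t => Subtype.ext (by rw [hsm]; simp))
  refine ⟨k, k.2, fun h => hk1 (Subtype.ext h.symm), fun t ht => ?_⟩
  have := congrArg Subtype.val (hk ⟨t, ht⟩)
  rw [hsm] at this
  exact this

/-- a 2-subgroup of `N` is conjugate in `N` into the Sylow 2-subgroup `S ≤ N` -/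
theorem exists_conj_le' [Finite G] {S N : Subgroup G} (hS : IsPGroup 2 S)
    (hmax : ∀ T : Subgroup G, T ≤ N → IsPGroup 2 T → S ≤ T → T = S) (hSN : S ≤ N) {T : Subgroup G}
    (hT : IsPGroup 2 T) (hTN : T ≤ N) : ∃ n ∈ N, ∀ t ∈ T, n * t * n⁻¹ ∈ S := by
  have : Fact (Nat.Prime 2) := ⟨Nat.prime_two⟩
  have h1 : IsPGroup 2 (S.subgroupOf N) := hS.comap_of_injective _ N.subtype_injective
  have hmap : (S.subgroupOf N).map N.subtype = S := by
    rw [Subgroup.subgroupOf_map_subtype, inf_eq_left.2 hSN]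
  let S' : Sylow 2 N :=
    { toSubgroup := S.subgroupOf N
      isPGroup' := h1
      is_maximal' := by
        intro Q hQ hle
        have h2 := hmax (Q.map N.subtype) (Subgroup.map_subtype_le Q) (hQ.map _) (by
          rw [← hmap]; exact Subgroup.map_mono hle)
        rw [← h2]
        exact (Subgroup.comap_map_eq_self_of_injective N.subtype_injective Q).symm }
  obtain ⟨Q, hQ⟩ := (hT.comap_of_injective N.subtype N.subtype_injective).exists_le_sylow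
  obtain ⟨n, hn⟩ := MulAction.exists_smul_eq N Q S'
  refine ⟨n, n.2, fun t ht => ?_⟩
  have h3 : (⟨t, hTN ht⟩ : N) ∈ (Q : Subgroup N) := hQ (by
    rw [Subgroup.mem_comap]; exact ht)
  have h4 : n * ⟨t, hTN ht⟩ * n⁻¹ ∈ (S' : Subgroup N) := by
    rw [← hn, Sylow.coe_subgroup_smul]
    exact ⟨_, h3, rfl⟩
  exact h4

/-- a 2-subgroup of `N` is conjugate in `N` into the Sylow 2-subgroup `S ≤ N` -/
theorem exists_conj_le [Finite G] {S N : Subgroup G} (hS : IsPGroup 2 S)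
    (hmax : ∀ T : Subgroup G, IsPGroup 2 T → S ≤ T → T = S) (hSN : S ≤ N) {T : Subgroup G}
    (hT : IsPGroup 2 T) (hTN : T ≤ N) : ∃ n ∈ N, ∀ t ∈ T, n * t * n⁻¹ ∈ S :=
  exists_conj_le' hS (fun T _ h1 h2 => hmax T h1 h2) hSN hT hTN

/-- in a finite group, `g H g⁻¹ ≤ H` puts `g` in the normaliser -/
theorem mem_norm_of [Finite G] {H : Subgroup G} {g : G} (h : ∀ p ∈ H, g * p * g⁻¹ ∈ H) :
    g ∈ Subgroup.normalizer (H : Set G) := by
  refine Subgroup.mem_normalizer_iff.2 ?_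
  have hinj : Function.Injective (fun p : H => (⟨g * p * g⁻¹, h p p.2⟩ : H)) := by
    intro p q h
    have h3 : g * (p : G) * g⁻¹ = g * q * g⁻¹ := congrArg Subtype.val h
    exact Subtype.ext (mul_left_cancel (mul_right_cancel h3))
  have hsurj := Finite.injective_iff_surjective.1 hinj
  intro p
  refine ⟨fun hp => h p hp, fun hp => ?_⟩
  obtain ⟨q, hq⟩ := hsurj ⟨_, hp⟩
  have h3 : g * (q : G) * g⁻¹ = g * p * g⁻¹ := congrArg Subtype.val hq
  rw [← mul_left_cancel (mul_right_cancel h3)]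
  exact q.2

/-- involutions generate 2-groups -/
theorem isPGroup_zpowers_of_sq {s : G} (hs : s * s = 1) : IsPGroup 2 (zpowers s) := by
  rintro ⟨t, ht⟩
  obtain ⟨i, rfl⟩ := Subgroup.mem_zpowers_iff.1 ht
  refine ⟨1, Subtype.ext ?_⟩
  change (s ^ i) ^ (2 ^ 1) = 1
  rw [← zpow_natCast, ← zpow_mul, mul_comm, zpow_mul, zpow_natCast, pow_one, pow_two, hs, one_zpow]

/-- a Sylow 2-subgroup `S` of `G` centralises `B ≤ S`: 2-elements normalising `B` centralise `B` -/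
theorem comm_of_norm [Finite G] {S B : Subgroup G} (hS : IsPGroup 2 S)
    (hmax : ∀ T : Subgroup G, IsPGroup 2 T → S ≤ T → T = S) (hc : ∀ s ∈ S, ∀ x ∈ B, s * x = x * s)
    {s : G} (hs : IsPGroup 2 (zpowers s)) (hn : ∀ x ∈ B, s * x * s⁻¹ ∈ B) :
    ∀ x ∈ B, s * x = x * s := by
  obtain ⟨n, hn1, hn2⟩ := exists_conj_le (N := Subgroup.normalizer (B : Set G)) hS hmax
    (fun t ht => mem_norm_of fun x hx => by rw [hc t ht x hx, mul_inv_cancel_right]; exact hx) hs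
    (by rw [Subgroup.zpowers_le]; exact mem_norm_of hn)
  have h1 := hn2 s (Subgroup.mem_zpowers s)
  intro x hx
  have h2 : n * x * n⁻¹ ∈ B := (Subgroup.mem_normalizer_iff.1 hn1 x).1 hx
  have h3 := hc _ h1 _ h2
  calc s * x = n⁻¹ * (n * s * n⁻¹ * (n * x * n⁻¹)) * n := by group
    _ = x * s := by rw [h3]; group

end general

namespace Hyp

variable {G : Type*} [Group G] {R A B : Subgroup G} {ρ b : G} (H : Hyp R A B ρ b)
include H

theorem invρ {x : G} (hx : x ∈ B) : ρ⁻¹ * x * ρ ∈ B := by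
  have h2 := H.ρ3
  have h3 : ρ⁻¹ = ρ * ρ := by
    rw [inv_eq_iff_mul_eq_one, ← mul_assoc, ← pow_three', h2]
  have h4 : ρ⁻¹ * x * ρ = ρ * (ρ * x * ρ⁻¹) * ρ⁻¹ := by
    calc ρ⁻¹ * x * ρ = ρ⁻¹ * x * ρ⁻¹⁻¹ := by group
      _ = (ρ * ρ) * x * (ρ * ρ)⁻¹ := by rw [h3]
      _ = _ := by group
  rw [h4]
  exact H.ρB _ (H.ρB _ hx)

theorem isPGroup_PP : IsPGroup 2 (PP R B) :=
  IsPGroup.of_card (n := 6) (by rw [H.card_PP]; norm_num)

/-- `Z(C(r)) = R` -/
theorem center_mem {r z : G} (hr : r ∈ R) (hr1 : r ≠ 1) (h : ∀ c, c * r = r * c → z * c = c * z) :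
    z ∈ R := by
  obtain ⟨r1, hr1', a, ha, rfl⟩ := H.cent r hr hr1 z (h r rfl)
  have ha1 : a = 1 := by
    obtain ⟨e⟩ := H.eA
    apply A5.center_trivial e ha
    intro c hc
    have h2 := h c (H.comm r hr c hc).symm
    have h3 := H.comm r1 hr1' c hc
    have h4 : r1 * (a * c) = r1 * (c * a) := by
      calc r1 * (a * c) = r1 * a * c := by group
        _ = c * r1 * a := by rw [h2]; group
        _ = r1 * (c * a) := by rw [← h3]; group
    exact mul_left_cancel h4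
  rw [ha1, mul_one]
  exact hr1'

/-- `R` is TI -/
theorem TI {g r : G} (hr : r ∈ R) (hr1 : r ≠ 1) (h : g * r * g⁻¹ ∈ R) :
    ∀ s ∈ R, g * s * g⁻¹ ∈ R := by
  intro s hs
  have h1 : g * r * g⁻¹ ≠ 1 := by
    intro h0
    apply hr1
    have : r = g⁻¹ * (g * r * g⁻¹) * g := by group
    rw [this, h0]; group
  apply H.center_mem h h1
  intro c hc
  have hc' : g⁻¹ * c * g * r = r * (g⁻¹ * c * g) := by
    calc g⁻¹ * c * g * r = g⁻¹ * (c * (g * r * g⁻¹)) * g := by group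
      _ = r * (g⁻¹ * c * g) := by rw [hc]; group
  obtain ⟨r2, hr2, a, ha, h2⟩ := H.cent r hr hr1 _ hc'
  have h3 : g⁻¹ * c * g * s = s * (g⁻¹ * c * g) := by
    rw [h2]
    calc r2 * a * s = r2 * (a * s) := by group
      _ = r2 * s * a := by rw [← H.comm s hs a ha]; group
      _ = s * (r2 * a) := by rw [H.commR hr2 hs]; group
  calc g * s * g⁻¹ * c = g * (s * (g⁻¹ * c * g)) * g⁻¹ := by group
    _ = c * (g * s * g⁻¹) := by rw [← h3]; group

theorem TI_inv {g r : G} (hr : r ∈ R) (hr1 : r ≠ 1) (h : g * r * g⁻¹ ∈ R) :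
    ∀ s ∈ R, g⁻¹ * s * g ∈ R := by
  have h1 : g * r * g⁻¹ ≠ 1 := by
    intro h0
    apply hr1
    have : r = g⁻¹ * (g * r * g⁻¹) * g := by group
    rw [this, h0]; group
  have h2 := H.TI (g := g⁻¹) h h1 (by
    have : g⁻¹ * (g * r * g⁻¹) * g⁻¹⁻¹ = r := by group
    rw [this]; exact hr)
  intro s hs
  have h3 := h2 s hs
  rw [inv_inv] at h3
  exact h3

/-- a 2-element of `A` normalising `B` lies in `B` -/
theorem mem_B_of_two {a : G} (ha : a ∈ A) {n : ℕ} (hn : a ^ (2 ^ n) = 1)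
    (haB : ∀ x ∈ B, a * x * a⁻¹ ∈ B) : a ∈ B := by
  have hsq : a * a = 1 := by
    obtain ⟨e⟩ := H.eA
    have h30 := A5.pow_thirty e ha
    have h1 : orderOf a ∣ 30 := orderOf_dvd_of_pow_eq_one h30
    have h2 : orderOf a ∣ 2 ^ n := orderOf_dvd_of_pow_eq_one hn
    have h3 : orderOf a ∣ Nat.gcd 30 (2 ^ n) := Nat.dvd_gcd h1 h2
    have h4 : Nat.gcd 30 (2 ^ n) ∣ 2 := by
      have h5 : Nat.gcd 30 (2 ^ n) ∣ Nat.gcd 30 (2 ^ n * 1) := by rw [mul_one]
      have h6 : (30 : ℕ) = 2 * 15 := by norm_num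
      have h7 : Nat.Coprime 15 (2 ^ n) := Nat.Coprime.pow_right n (by norm_num)
      rw [h6, Nat.Coprime.gcd_mul_right_cancel 2 h7]
      exact Nat.gcd_dvd_left _ _
    rw [← pow_two]
    exact orderOf_dvd_iff_pow_eq_one.1 (h3.trans h4)
  by_cases ha1 : a = 1
  · rw [ha1]; exact B.one_mem
  have hP : IsPGroup 2 (zpowers a) := by
    apply IsPGroup.of_card (n := 1)
    rw [Nat.card_zpowers, pow_one]
    exact orderOf_eq_prime (by rw [pow_two]; exact hsq) ha1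
  have hz : ∀ t ∈ zpowers a, ∀ k ∈ B, t * k * t⁻¹ ∈ B := by
    intro t ht k hk
    obtain ⟨i, rfl⟩ := Subgroup.mem_zpowers_iff.1 ht
    rcases Int.even_or_odd i with ⟨j, hj⟩ | ⟨j, hj⟩
    · have : a ^ i = 1 := by
        rw [hj, ← two_mul, zpow_mul, zpow_two, hsq, one_zpow]
      rw [this]; simpa using hk
    · have : a ^ i = a := by
        rw [hj, zpow_add, zpow_mul, zpow_two, hsq, one_zpow, one_mul, zpow_one]
      rw [this]; exact haB k hk
  obtain ⟨x, hx, hx1, hfix⟩ := exists_fix hP H.finB (by rw [H.cardB]; norm_num) hz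
  have h5 := hfix a (Subgroup.mem_zpowers a)
  exact H.mem_B_of_comm hx hx1 ha (by
    calc a * x = a * x * a⁻¹ * a := by group
      _ = x * a := by rw [h5])

/-- elements of `E = R B` -/
theorem mem_E_iff_comm {g : G} (hg : g ∈ PP R B) :
    (∃ r ∈ R, ∃ x ∈ B, g = r * x) ↔ ∀ r ∈ R, g * r = r * g := by
  constructor
  · rintro ⟨r, hr, x, hx, rfl⟩ s hs
    calc r * x * s = r * (x * s) := by group
      _ = r * s * x := by rw [← H.comm s hs x (H.B_le hx)]; group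
      _ = s * (r * x) := by rw [H.commR hr hs]; group
  · intro h
    obtain ⟨r, hr, hr1⟩ := H.exists_neR
    exact H.free hg hr hr1 (h r hr)

/-- a 2-element normalising `R` and `E` lies in `E` -/
theorem mem_E_of_two {g : G} {n : ℕ} (hn : g ^ (2 ^ n) = 1) (hR : ∀ r ∈ R, g * r * g⁻¹ ∈ R)
    (hE : ∀ x ∈ B, ∃ r ∈ R, ∃ y ∈ B, g * x * g⁻¹ = r * y) : ∃ r ∈ R, ∃ x ∈ B, g = r * x := by
  have hP : IsPGroup 2 (zpowers g) := by
    intro ⟨t, ht⟩
    obtain ⟨i, rfl⟩ := Subgroup.mem_zpowers_iff.1 ht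
    refine ⟨n, Subtype.ext ?_⟩
    change (g ^ i) ^ (2 ^ n) = 1
    rw [← zpow_natCast, ← zpow_mul, mul_comm, zpow_mul, zpow_natCast, hn, one_zpow]
  have hpow : ∀ m : ℕ, ∀ k ∈ R, g ^ m * k * (g ^ m)⁻¹ ∈ R := by
    intro m
    induction m with
    | zero => intro k hk; simpa using hk
    | succ m ih =>
      intro k hk
      have : g ^ (m + 1) * k * (g ^ (m + 1))⁻¹ = g * (g ^ m * k * (g ^ m)⁻¹) * g⁻¹ := by
        rw [pow_succ']; group
      rw [this]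
      exact hR _ (ih k hk)
  have hfo : IsOfFinOrder g := isOfFinOrder_iff_pow_eq_one.2 ⟨2 ^ n, by positivity, hn⟩
  have hz : ∀ t ∈ zpowers g, ∀ k ∈ R, t * k * t⁻¹ ∈ R := by
    intro t ht k hk
    obtain ⟨m, rfl⟩ := (hfo.mem_powers_iff_mem_zpowers.2 ht)
    exact hpow m k hk
  obtain ⟨r, hr, hr1, hfix⟩ := exists_fix hP H.finR (by rw [H.cardR]; norm_num) hz
  have h5 := hfix g (Subgroup.mem_zpowers g)
  obtain ⟨r1, hr1', a, ha, rfl⟩ := H.cent r hr hr1 g (by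
    calc g * r = g * r * g⁻¹ * g := by group
      _ = r * g := by rw [h5])
  refine ⟨r1, hr1', a, ?_, rfl⟩
  have hcom : Commute r1 a := H.comm r1 hr1' a ha
  have h6 : r1 ^ (2 ^ n) * a ^ (2 ^ n) = 1 * 1 := by
    rw [← hcom.mul_pow, hn, mul_one]
  have h7 := (H.uniq (R.pow_mem hr1' _) R.one_mem (A.pow_mem ha _) A.one_mem h6).2
  apply H.mem_B_of_two ha h7
  intro x hx
  obtain ⟨r2, hr2, y, hy, h8⟩ := hE x hx
  have h9 : a * x * a⁻¹ ∈ A := A.mul_mem (A.mul_mem ha (H.B_le hx)) (A.inv_mem ha)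
  have h10 : r1 * a * x * (r1 * a)⁻¹ = a * x * a⁻¹ := by
    calc r1 * a * x * (r1 * a)⁻¹ = r1 * (a * x * a⁻¹) * r1⁻¹ := by group
      _ = a * x * a⁻¹ := by rw [H.comm r1 hr1' _ h9]; group
  rw [h10] at h8
  have h11 := H.uniq (r := 1) R.one_mem hr2 h9 (H.B_le hy) (by rw [one_mul]; exact h8)
  rw [h11.2]; exact hy

/-- `P` contains its `E`-normalising over-elements: a 2-element `g` of a 2-group `T ≥ P` with
`g R g⁻¹ ≤ E`, `g B g⁻¹ ≤ E` lies in `P` -/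
theorem mem_PP_of_norm [Finite G] {T : Subgroup G} (hT : IsPGroup 2 T) (hPT : PP R B ≤ T) {g : G}
    (hg : g ∈ T) (hR : ∀ r ∈ R, ∃ s ∈ R, ∃ y ∈ B, g * r * g⁻¹ = s * y)
    (hB : ∀ x ∈ B, ∃ r ∈ R, ∃ y ∈ B, g * x * g⁻¹ = r * y) : g ∈ PP R B := by
  obtain ⟨r, hr, hr1⟩ := H.exists_neR
  obtain ⟨s, hs, y, hy, h1⟩ := hR r hr
  have hs1 : s ≠ 1 := by
    intro h
    rw [h, one_mul] at h1
    have hy1 : y ≠ 1 := by
      intro h0
      rw [h0] at h1
      apply hr1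
      have : r = g⁻¹ * (g * r * g⁻¹) * g := by group
      rw [this, h1]; group
    exact H.not_both ((H.tt_R hr hr1).conj' g) (by rw [h1]; exact H.xt_B hy hy1)
  obtain ⟨p, hp, hps⟩ := H.exists_PP hs hs1 hy
  set g' := p⁻¹ * g with hg'
  have e1 : g' * r * g'⁻¹ = s := by
    calc g' * r * g'⁻¹ = p⁻¹ * (g * r * g⁻¹) * p := by rw [hg']; group
      _ = s := by rw [h1, ← hps]; group
  have h2 := H.TI hr hr1 (g := g') (by rw [e1]; exact hs)
  have hg'T : g' ∈ T := T.mul_mem (T.inv_mem (hPT hp)) hg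
  obtain ⟨n, hn⟩ := hT ⟨g', hg'T⟩
  have hn' : g' ^ (2 ^ n) = 1 := congrArg Subtype.val hn
  have hp' := (PP R B).inv_mem hp
  have h3 : ∀ x ∈ B, ∃ r ∈ R, ∃ y ∈ B, g' * x * g'⁻¹ = r * y := by
    intro x hx
    obtain ⟨r2, hr2, y2, hy2, h4⟩ := hB x hx
    refine ⟨r2, hr2, r2⁻¹ * p⁻¹ * r2 * p * y2, ?_, ?_⟩
    · have h5 := (mem_PP.1 hp').2 r2 hr2
      have h6 : r2⁻¹ * p⁻¹ * r2 * p = p⁻¹ * r2 * p⁻¹⁻¹ * r2⁻¹ := by
        have h7 : r2 * (p⁻¹ * r2 * p⁻¹⁻¹ * r2⁻¹) = (p⁻¹ * r2 * p⁻¹⁻¹ * r2⁻¹) * r2 :=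
          H.comm r2 hr2 _ (H.B_le h5)
        have h8 : r2⁻¹ = r2 := H.invR hr2
        calc r2⁻¹ * p⁻¹ * r2 * p = r2⁻¹ * ((p⁻¹ * r2 * p⁻¹⁻¹ * r2⁻¹) * r2) := by group
          _ = _ := by rw [← h7]; group
      rw [h6]
      exact B.mul_mem h5 hy2
    · calc g' * x * g'⁻¹ = p⁻¹ * (g * x * g⁻¹) * p := by rw [hg']; group
        _ = p⁻¹ * (r2 * (y2 * p)) := by rw [h4]; group
        _ = p⁻¹ * (r2 * (p * y2)) := by rw [(mem_PP.1 hp).1 y2 hy2]
        _ = _ := by group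
  obtain ⟨r3, hr3, x3, hx3, h5⟩ := H.mem_E_of_two hn' h2 h3
  have h6 : g = p * (r3 * x3) := by rw [← h5, hg']; group
  rw [h6]
  exact (PP R B).mul_mem hp (H.mul_mem_PP hr3 hx3)

end Hyp

end Cfsg.Agent.StdG24.F
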