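import Mathlib
import Cfsg.Agent.StdG24.F.Norm
import Cfsg.Agent.StdG24.F.Count
import Cfsg.Agent.Lib.KleinGen

/-!
# Lemma F, F3 (Lemma D): if `P` is a Sylow 2-subgroup, all involutions of `C(B)` lie in `P`
-/

set_option autoImplicit false

namespace Cfsg.Agent.StdG24.F.LemD

open Subgroup

variable {G : Type*} [Group G] {R A B : Subgroup G} {ρ b : G} (H : Hyp R A B ρ b)
include H

/-- `[d, r] ∈ B`, `d ∈ C(B)` implies `d ∈ P` -/
theorem mem_of_comm_R {d r : G} (hd : ∀ x ∈ B, d * x = x * d) (hr : r ∈ R) (hr1 : r ≠ 1)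
    (hdr : d * r * d⁻¹ * r⁻¹ ∈ B) : d ∈ PP R B := by
  obtain ⟨p, hp, hpr⟩ := H.exists_PP hr hr1 hdr
  have h1 : p * r * p⁻¹ = d * r * d⁻¹ := by
    rw [hpr, H.comm r hr _ (H.B_le hdr)]; group
  have h2 : p⁻¹ * d * r = r * (p⁻¹ * d) := by
    calc p⁻¹ * d * r = p⁻¹ * (d * r * d⁻¹) * d := by group
      _ = p⁻¹ * (p * r * p⁻¹) * d := by rw [h1]
      _ = r * (p⁻¹ * d) := by group
  obtain ⟨x, hx, hx1⟩ := H.exists_neB
  have h3 : ∀ x ∈ B, p⁻¹ * d * x = x * (p⁻¹ * d) := by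
    intro x hx
    have h4 := hp.1 x hx
    calc p⁻¹ * d * x = p⁻¹ * (d * x) := by group
      _ = p⁻¹ * (x * p) * p⁻¹ * d := by rw [hd x hx]; group
      _ = p⁻¹ * (p * x) * p⁻¹ * d := by rw [h4]
      _ = x * (p⁻¹ * d) := by group
  obtain ⟨r', hr', y, hy, h5⟩ := H.mem_of_comm hr hr1 hx hx1 h2 (h3 x hx)
  have h6 : d = p * (r' * y) := by rw [← h5]; group
  rw [h6]
  exact mul_mem hp (H.mul_mem_PP hr' hy)

/-- elements of `C(B)` normalising `P` and centralising `b₀` modulo `B` are in `P` -/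
theorem mem_of_norm {n b₀ : G} (hn : ∀ x ∈ B, n * x = x * n)
    (hnR : ∀ r ∈ R, ∃ s ∈ R, ∃ y ∈ B, n * r * n⁻¹ = s * y) (hb₀ : b₀ ∈ PP R B) (hb₀B : b₀ ∉ B)
    (hnb : n * b₀ * n⁻¹ * b₀⁻¹ ∈ B) : n ∈ PP R B := by
  obtain ⟨r₀, hr₀, hr₀1⟩ := H.exists_neR
  obtain ⟨s, hs, y, hy, h1⟩ := hnR r₀ hr₀
  have hs1 : s ≠ 1 := by
    rintro rfl
    rw [one_mul] at h1
    apply hr₀1
    have h2 : r₀ = y := by
      have h3 := hn y hy
      calc r₀ = n⁻¹ * (n * r₀ * n⁻¹) * n := by group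
        _ = n⁻¹ * (y * n) := by rw [h1]; group
        _ = y := by rw [← h3]; group
    exact H.disjB hr₀ (by rw [h2]; exact hy)
  obtain ⟨p, hp, hps⟩ := H.exists_PP hs hs1 hy
  -- `m = p⁻¹ n`
  set m := p⁻¹ * n with hm
  have hmB : ∀ x ∈ B, m * x = x * m := by
    intro x hx
    have h4 := hp.1 x hx
    calc m * x = p⁻¹ * (n * x) := by rw [hm]; group
      _ = p⁻¹ * (x * p) * p⁻¹ * n := by rw [hn x hx]; group
      _ = p⁻¹ * (p * x) * p⁻¹ * n := by rw [h4]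
      _ = x * m := by rw [hm]; group
  have hmr : m * r₀ * m⁻¹ = s := by
    calc m * r₀ * m⁻¹ = p⁻¹ * (n * r₀ * n⁻¹) * p := by rw [hm]; group
      _ = p⁻¹ * (p * s * p⁻¹) * p := by rw [h1, hps]
      _ = s := by group
  have hmR : ∀ r ∈ R, m * r * m⁻¹ ∈ R := H.TI hr₀ hr₀1 (by rw [hmr]; exact hs)
  -- modulo `B`
  have hpb : p⁻¹ * b₀ * p * b₀⁻¹ ∈ B := by
    have h2 : ∀ q ∈ PP R B, ∀ q' ∈ PP R B, q * q' * q⁻¹ * q'⁻¹ ∈ B := by
      intro q hq q' hq'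
      have h3 := H.sqPP (mul_mem hq hq')
      have h4 := H.sqPP hq
      have h5 := H.sqPP hq'
      have h6 : q * q' * q⁻¹ * q'⁻¹ = (q * q' * (q * q')) * (q'⁻¹ * (q * q)⁻¹ * q') * (q' * q')⁻¹ := by group
      rw [h6]
      have h7 : q'⁻¹ * (q * q)⁻¹ * q' = (q * q)⁻¹ := by
        have := hq'.1 _ (inv_mem h4)
        calc q'⁻¹ * (q * q)⁻¹ * q' = q'⁻¹ * ((q * q)⁻¹ * q') := by group
          _ = q'⁻¹ * (q' * (q * q)⁻¹) := by rw [this]
          _ = _ := by group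
      rw [h7]
      exact mul_mem (mul_mem h3 (inv_mem h4)) (inv_mem h5)
    have := h2 p⁻¹ (inv_mem hp) b₀ hb₀
    rwa [inv_inv] at this
  have hmb : m * b₀ * m⁻¹ * b₀⁻¹ ∈ B := by
    have h2 : m * b₀ * m⁻¹ * b₀⁻¹ = p⁻¹ * (n * b₀ * n⁻¹ * b₀⁻¹) * p * (p⁻¹ * b₀ * p * b₀⁻¹) := by
      rw [hm]; group
    rw [h2]
    have h3 : p⁻¹ * (n * b₀ * n⁻¹ * b₀⁻¹) * p = n * b₀ * n⁻¹ * b₀⁻¹ := by
      have := hp.1 _ hnb
      calc p⁻¹ * (n * b₀ * n⁻¹ * b₀⁻¹) * p = p⁻¹ * ((n * b₀ * n⁻¹ * b₀⁻¹) * p) := by group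
        _ = p⁻¹ * (p * (n * b₀ * n⁻¹ * b₀⁻¹)) := by rw [this]
        _ = _ := by group
    rw [h3]
    exact mul_mem hnb hpb
  -- `m` fixes an element of `R#`
  have hfix : ∃ r ∈ R, r ≠ 1 ∧ m * r = r * m := by
    by_cases hE : ∃ r ∈ R, ∃ x ∈ B, b₀ = r * x
    · obtain ⟨r, hr, x, hx, rfl⟩ := hE
      have hr1 : r ≠ 1 := by
        rintro rfl
        apply hb₀B
        rw [one_mul]; exact hx
      refine ⟨r, hr, hr1, ?_⟩
      have h2 : m * (r * x) * m⁻¹ * (r * x)⁻¹ = m * r * m⁻¹ * r⁻¹ := by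
        have h4 := hmB x hx
        calc m * (r * x) * m⁻¹ * (r * x)⁻¹ = m * r * (x * m⁻¹) * (r * x)⁻¹ := by group
          _ = m * r * (m⁻¹ * (m * x) * m⁻¹) * (r * x)⁻¹ := by group
          _ = m * r * (m⁻¹ * (x * m) * m⁻¹) * (r * x)⁻¹ := by rw [h4]
          _ = m * r * m⁻¹ * r⁻¹ := by group
      rw [h2] at hmb
      have h5 := H.disjB (mul_mem (hmR r hr) (inv_mem hr)) hmb
      calc m * r = (m * r * m⁻¹ * r⁻¹) * r * m := by group
        _ = r * m := by rw [h5, one_mul]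
    · refine ⟨r₀, hr₀, hr₀1, ?_⟩
      -- `φ(r) = [b₀, r]`
      set r₁ := m * r₀ * m⁻¹ with hr₁
      have hr₁R : r₁ ∈ R := hmR r₀ hr₀
      set z := m * b₀ * m⁻¹ * b₀⁻¹ with hz
      have h2 : b₀ * r₀ * b₀⁻¹ * r₀⁻¹ ∈ B := hb₀.2 r₀ hr₀
      have h3 : m * (b₀ * r₀ * b₀⁻¹ * r₀⁻¹) * m⁻¹ = b₀ * r₀ * b₀⁻¹ * r₀⁻¹ := by
        rw [hmB _ h2, mul_inv_cancel_right]
      have h4 : m * (b₀ * r₀ * b₀⁻¹ * r₀⁻¹) * m⁻¹ = z * (b₀ * r₁ * b₀⁻¹ * z⁻¹) * r₁⁻¹ := by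
        rw [hz, hr₁]; group
      have h5 : b₀ * r₁ * b₀⁻¹ * z⁻¹ = z⁻¹ * (b₀ * r₁ * b₀⁻¹) := by
        have h6 : b₀ * r₁ * b₀⁻¹ = (b₀ * r₁ * b₀⁻¹ * r₁⁻¹) * r₁ := by group
        have h7 := H.commB (hb₀.2 r₁ hr₁R) (inv_mem hmb)
        have h8 := H.comm r₁ hr₁R z⁻¹ (H.B_le (inv_mem hmb))
        rw [h6, mul_assoc, h8, ← mul_assoc, h7, mul_assoc]
      rw [h5, h3] at h4
      have h6 : b₀ * r₀ * b₀⁻¹ * r₀⁻¹ = b₀ * r₁ * b₀⁻¹ * r₁⁻¹ := by rw [h4]; group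
      -- injectivity
      have h7 : b₀ * (r₁⁻¹ * r₀) = r₁⁻¹ * r₀ * b₀ := by
        have h8 := H.commR (inv_mem hr₁R) hr₀
        have h9 : b₀⁻¹ * r₀⁻¹ * r₁ * b₀ = r₀⁻¹ * r₁ := by
          calc b₀⁻¹ * r₀⁻¹ * r₁ * b₀ = r₀⁻¹ * b₀⁻¹ * (b₀ * r₀ * b₀⁻¹ * r₀⁻¹) * r₁ * b₀ := by group
            _ = r₀⁻¹ * b₀⁻¹ * (b₀ * r₁ * b₀⁻¹ * r₁⁻¹) * r₁ * b₀ := by rw [h6]
            _ = r₀⁻¹ * r₁ := by group
        calc b₀ * (r₁⁻¹ * r₀) = b₀ * (r₀⁻¹ * r₁)⁻¹ := by group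
          _ = b₀ * (b₀⁻¹ * r₀⁻¹ * r₁ * b₀)⁻¹ := by rw [h9]
          _ = r₁⁻¹ * r₀ * b₀ := by group
      have h8 : r₁⁻¹ * r₀ = 1 := by
        by_contra hne
        obtain ⟨r', hr', x, hx, h9⟩ := H.free hb₀ (mul_mem (inv_mem hr₁R) hr₀) hne h7
        exact hE ⟨r', hr', x, hx, h9⟩
      have h9 : r₁ = r₀ := inv_mul_eq_one.1 h8
      calc m * r₀ = m * r₀ * m⁻¹ * m := by group
        _ = r₀ * m := by rw [← hr₁, h9]
  obtain ⟨r, hr, hr1, hmr'⟩ := hfix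
  obtain ⟨x, hx, hx1⟩ := H.exists_neB
  obtain ⟨r', hr', y', hy', h5⟩ := H.mem_of_comm hr hr1 hx hx1 hmr' (hmB x hx)
  have h6 : n = p * (r' * y') := by rw [← h5, hm]; group
  rw [h6]
  exact mul_mem hp (H.mul_mem_PP hr' hy')

/-- `C_D(b₀ mod B) = P` -/
theorem mem_of_comm_mod [Finite G]
    (hmax : ∀ T : Subgroup G, T ≤ centralizer (B : Set G) → IsPGroup 2 T → PP R B ≤ T → T = PP R B)
    (hN : ∀ n, (∀ x ∈ B, n * x = x * n) → (∀ p ∈ PP R B, n * p * n⁻¹ ∈ PP R B) →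
      ∀ r ∈ R, ∃ s ∈ R, ∃ y ∈ B, n * r * n⁻¹ = s * y)
    {b₀ : G} (hb₀ : b₀ ∈ PP R B) (hb₀B : b₀ ∉ B) {d : G} (hd : ∀ x ∈ B, d * x = x * d)
    (hdb : d * b₀ * d⁻¹ * b₀⁻¹ ∈ B) : d ∈ PP R B := by
  have : Fact (Nat.Prime 2) := ⟨Nat.prime_two⟩
  -- the group `C` of all such `d`
  let C : Subgroup G :=
    { carrier := {d | (∀ x ∈ B, d * x = x * d) ∧ d * b₀ * d⁻¹ * b₀⁻¹ ∈ B}
      one_mem' := ⟨fun x _ => by rw [one_mul, mul_one], by
        rw [show (1 : G) * b₀ * 1⁻¹ * b₀⁻¹ = 1 by group]; exact B.one_mem⟩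
      mul_mem' := by
        rintro p q ⟨h1, h2⟩ ⟨h3, h4⟩
        refine ⟨fun x hx => by rw [mul_assoc, h3 x hx, ← mul_assoc, h1 x hx, mul_assoc], ?_⟩
        have e1 : p * q * b₀ * (p * q)⁻¹ * b₀⁻¹ = (p * (q * b₀ * q⁻¹ * b₀⁻¹) * p⁻¹) * (p * b₀ * p⁻¹ * b₀⁻¹) := by
          group
        rw [e1, h1 _ h4, mul_inv_cancel_right]
        exact B.mul_mem h4 h2
      inv_mem' := by
        rintro p ⟨h1, h2⟩
        have h1' : ∀ x ∈ B, p⁻¹ * x = x * p⁻¹ := by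
          intro x hx
          calc p⁻¹ * x = p⁻¹ * (x * p) * p⁻¹ := by group
            _ = x * p⁻¹ := by rw [← h1 x hx]; group
        refine ⟨h1', ?_⟩
        have e1 : p⁻¹ * b₀ * p⁻¹⁻¹ * b₀⁻¹ = p⁻¹ * (p * b₀ * p⁻¹ * b₀⁻¹)⁻¹ * p := by group
        rw [e1, h1' _ (B.inv_mem h2), inv_mul_cancel_right]
        exact B.inv_mem h2 }
  have memC : ∀ d, d ∈ C ↔ (∀ x ∈ B, d * x = x * d) ∧ d * b₀ * d⁻¹ * b₀⁻¹ ∈ B := fun d => Iff.rfl
  have hcommP : ∀ q ∈ PP R B, ∀ q' ∈ PP R B, q * q' * q⁻¹ * q'⁻¹ ∈ B := by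
    intro q hq q' hq'
    have h3 := H.sqPP (mul_mem hq hq')
    have h4 := H.sqPP hq
    have h5 := H.sqPP hq'
    have h6 : q * q' * q⁻¹ * q'⁻¹ = (q * q' * (q * q')) * (q'⁻¹ * (q * q)⁻¹ * q') * (q' * q')⁻¹ := by group
    rw [h6]
    have h7 : q'⁻¹ * (q * q)⁻¹ * q' = (q * q)⁻¹ := by
      have := hq'.1 _ (inv_mem h4)
      calc q'⁻¹ * (q * q)⁻¹ * q' = q'⁻¹ * ((q * q)⁻¹ * q') := by group
        _ = q'⁻¹ * (q' * (q * q)⁻¹) := by rw [this]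
        _ = _ := by group
    rw [h7]
    exact mul_mem (mul_mem h3 (inv_mem h4)) (inv_mem h5)
  have hPC : PP R B ≤ C := fun p hp => ⟨hp.1, hcommP p hp b₀ hb₀⟩
  have hBC : B ≤ C := H.B_le_PP.trans hPC
  -- `P` is a Sylow 2-subgroup of `C`
  have hP2 : IsPGroup 2 ((PP R B).subgroupOf C) := H.isPGroup_PP.of_injective
    (subgroupOfEquivOfLe hPC).toMonoidHom (subgroupOfEquivOfLe hPC).injective
  obtain ⟨S, hS⟩ := hP2.exists_le_sylow
  have hSP : ∀ x : C, x ∈ S ↔ (x : G) ∈ PP R B := by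
    have h1 : (S : Subgroup C).map C.subtype = PP R B := by
      apply hmax
      · rintro _ ⟨x, -, rfl⟩
        rw [mem_centralizer_iff]
        exact fun y hy => (((memC _).1 x.2).1 y hy).symm
      · exact S.isPGroup'.map _
      · intro p hp
        exact ⟨⟨p, hPC hp⟩, hS (mem_subgroupOf.2 hp), rfl⟩
    intro x
    constructor
    · intro hx
      rw [← h1]
      exact ⟨x, hx, rfl⟩
    · intro hx
      exact hS (mem_subgroupOf.2 hx)
  set Z : Subgroup C := B.subgroupOf C with hZ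
  have hnorm : Z.Normal := by
    refine ⟨fun z hz y => ?_⟩
    rw [hZ, mem_subgroupOf] at hz ⊢
    show (y : G) * z * (y : G)⁻¹ ∈ B
    rw [((memC _).1 y.2).1 _ hz, mul_inv_cancel_right]
    exact hz
  set π : C →* C ⧸ Z := QuotientGroup.mk' Z with hπ
  have hs : Function.Surjective π := QuotientGroup.mk'_surjective Z
  have hπ1 : ∀ y, π y = 1 ↔ (y : G) ∈ B := by
    intro y
    rw [hπ, QuotientGroup.mk'_apply, QuotientGroup.eq_one_iff, hZ, mem_subgroupOf]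
  set T : Sylow 2 (C ⧸ Z) := S.mapSurjective hs with hT
  have memT : ∀ x, x ∈ T ↔ ∃ s ∈ S, π s = x := by
    intro x
    show x ∈ (T : Subgroup (C ⧸ Z)) ↔ _
    rw [hT, Sylow.coe_mapSurjective]
    exact Iff.rfl
  have hlift : ∀ x : C, π x ∈ T → (x : G) ∈ PP R B := by
    intro x hx
    obtain ⟨s, hs, h1⟩ := (memT _).1 hx
    have h2 : ((s⁻¹ * x : C) : G) ∈ B := by
      rw [← hπ1, map_mul, map_inv, h1, inv_mul_cancel]
    have h3 : (x : G) = s * ((s⁻¹ * x : C) : G) := by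
      show (x : G) = s * ((s : G)⁻¹ * x)
      group
    rw [h3]
    exact mul_mem ((hSP s).1 hs) (H.B_le_PP h2)
  have hTab : ∀ x ∈ T, ∀ y ∈ T, x * y = y * x := by
    intro x hx y hy
    obtain ⟨s, hs, rfl⟩ := (memT _).1 hx
    obtain ⟨t, ht, rfl⟩ := (memT _).1 hy
    have h1 : π (s * t * s⁻¹ * t⁻¹) = 1 := (hπ1 _).2 (hcommP _ ((hSP s).1 hs) _ ((hSP t).1 ht))
    rw [map_mul, map_mul, map_mul, map_inv, map_inv] at h1
    calc π s * π t = (π s * π t * (π s)⁻¹ * (π t)⁻¹) * (π t * π s) := by group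
      _ = π t * π s := by rw [h1, one_mul]
  have hNT : normalizer ((T : Subgroup (C ⧸ Z)) : Set (C ⧸ Z)) ≤ centralizer ((T : Subgroup (C ⧸ Z)) : Set (C ⧸ Z)) := by
    intro x hx
    obtain ⟨n, rfl⟩ := hs x
    have hnP : ∀ p ∈ PP R B, (n : G) * p * (n : G)⁻¹ ∈ PP R B := by
      intro p hp
      apply hlift (n * ⟨p, hPC hp⟩ * n⁻¹)
      rw [map_mul, map_mul, map_inv]
      exact (mem_normalizer_iff.1 hx _).1 ((memT _).2 ⟨⟨p, hPC hp⟩, (hSP _).2 hp, rfl⟩)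
    have hnC := (memC _).1 n.2
    have h1 : (n : G) ∈ PP R B := mem_of_norm H hnC.1 (hN n hnC.1 hnP) hb₀ hb₀B hnC.2
    rw [mem_centralizer_iff]
    intro y hy
    exact hTab y hy _ ((memT _).2 ⟨n, (hSP n).2 h1, rfl⟩)
  -- Burnside transfer
  set O : Subgroup (C ⧸ Z) := (MonoidHom.transferSylow T hNT).ker with hO
  have hcompl : IsComplement' O (T : Subgroup (C ⧸ Z)) := MonoidHom.ker_transferSylow_isComplement' T hNT
  have hodd : Odd (Nat.card O) := by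
    have := MonoidHom.not_dvd_card_ker_transferSylow T hNT
    rw [Nat.odd_iff]
    rw [← hO] at this
    omega
  have hOn : O.Normal := by rw [hO]; infer_instance
  have hdisj : Disjoint O (T : Subgroup (C ⧸ Z)) := hcompl.disjoint
  -- `C_O(r) = 1`
  have hfix : ∀ r, ∀ hr : r ∈ R, r ≠ 1 → O ⊓ centralizer {π ⟨r, hPC (H.R_le_PP hr)⟩} ≤ ⊥ := by
    intro r hr hr1 o ho
    obtain ⟨y, rfl⟩ := hs o
    have h1 := mem_centralizer_singleton_iff.1 ho.2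
    have h2 : π (y * ⟨r, hPC (H.R_le_PP hr)⟩ * y⁻¹ * (⟨r, hPC (H.R_le_PP hr)⟩ : C)⁻¹) = 1 := by
      rw [map_mul, map_mul, map_mul, map_inv, map_inv, h1]; group
    have h3 : (y : G) ∈ PP R B := mem_of_comm_R H ((memC _).1 y.2).1 hr hr1 ((hπ1 _).1 h2)
    have h4 : π y ∈ (T : Subgroup (C ⧸ Z)) := (memT _).2 ⟨y, (hSP y).2 h3, rfl⟩
    exact hdisj.le_bot ⟨ho.1, h4⟩
  have hO1 : O ≤ ⊥ := by
    obtain ⟨r, hr, hr1⟩ := H.exists_neR
    obtain ⟨r', hr', hr'1, hne⟩ : ∃ r' ∈ R, r' ≠ 1 ∧ r' ≠ r := by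
      by_contra hcon
      push Not at hcon
      have h1 : (R : Set G) ⊆ {1, r} := by
        intro x hx
        by_cases hx1 : x = 1
        · exact Or.inl hx1
        · exact Or.inr (hcon x hx hx1)
      have h2 : Nat.card R ≤ 2 := by
        have h3 : (R : Set G).ncard ≤ ({1, r} : Set G).ncard := Set.ncard_le_ncard h1 (Set.toFinite _)
        have h4 : ({1, r} : Set G).ncard ≤ 2 := Set.ncard_insert_le _ _ |>.trans (by rw [Set.ncard_singleton])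
        have h5 : (R : Set G).ncard = Nat.card R := rfl
        omega
      rw [H.cardR] at h2
      norm_num at h2
    have hrr1 : r * r' ≠ 1 := by
      intro h1
      apply hne
      rw [← H.invR hr]
      exact (inv_eq_of_mul_eq_one_right h1).symm
    apply Lib.KleinGen.le_of_klein O ⊥ hodd (π ⟨r, hPC (H.R_le_PP hr)⟩) (π ⟨r', hPC (H.R_le_PP hr')⟩)
    · rw [← map_mul, ← map_one π]
      exact congrArg π (Subtype.ext (H.sqR r hr))
    · rw [← map_mul, ← map_one π]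
      exact congrArg π (Subtype.ext (H.sqR r' hr'))
    · rw [← map_mul, ← map_mul]
      exact congrArg π (Subtype.ext (H.commR hr hr'))
    · exact fun x hx => hOn.conj_mem x hx _
    · exact fun x hx => hOn.conj_mem x hx _
    · exact hfix r hr hr1
    · exact hfix r' hr' hr'1
    · rw [← map_mul]
      exact hfix (r * r') (mul_mem hr hr') hrr1
  have hOb : O = ⊥ := le_bot_iff.1 hO1
  rw [hOb] at hcompl
  have hTtop : (T : Subgroup (C ⧸ Z)) = ⊤ := isComplement'_bot_left.1 hcompl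
  have hdC : d ∈ C := ⟨hd, hdb⟩
  apply hlift ⟨d, hdC⟩
  show π ⟨d, hdC⟩ ∈ (T : Subgroup (C ⧸ Z))
  rw [hTtop]
  trivial

/-- **Lemma D**: if `P` is a Sylow 2-subgroup of `C(B)`, all involutions of `C(B)` lie in `P` -/
theorem lemDB [Finite G]
    (hmax : ∀ T : Subgroup G, T ≤ centralizer (B : Set G) → IsPGroup 2 T → PP R B ≤ T → T = PP R B)
    (hN : ∀ n, (∀ x ∈ B, n * x = x * n) → (∀ p ∈ PP R B, n * p * n⁻¹ ∈ PP R B) →
      ∀ r ∈ R, ∃ s ∈ R, ∃ y ∈ B, n * r * n⁻¹ = s * y)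
    {y : G} (hy : ∀ x ∈ B, y * x = x * y) (hyy : y * y = 1) : y ∈ PP R B := by
  -- an element of order 4 in `P`
  obtain ⟨d, hd, hdd⟩ : ∃ d ∈ PP R B, d * d ≠ 1 := by
    by_contra hcon
    push Not at hcon
    obtain ⟨r, hr, hr1⟩ := H.exists_neR
    obtain ⟨x, hx, hx1⟩ := H.exists_neB
    obtain ⟨p, hp, hpr⟩ := H.exists_PP hr hr1 hx
    have h1 := hcon (p * r) (mul_mem hp (H.R_le_PP hr))
    have h2 := hcon p hp
    have h3 := H.sqR r hr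
    apply hx1
    have hpi : p⁻¹ = p := inv_eq_of_mul_eq_one_left h2
    have h4 : p * r * p * r = 1 := by rw [← h1]; group
    rw [hpi] at hpr
    rw [hpr] at h4
    have h5 := H.comm r hr x (H.B_le hx)
    calc x = (r * r) * x := by rw [h3, one_mul]
      _ = r * (r * x) := by group
      _ = r * (x * r) := by rw [h5]
      _ = r * x * r := by group
      _ = 1 := h4
  by_cases hyB : y ∈ B
  · exact H.B_le_PP hyB
  set C : Subgroup G := centralizer (B : Set G) with hC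
  have memC : ∀ d, d ∈ C ↔ ∀ x ∈ B, d * x = x * d := by
    intro d
    rw [hC, mem_centralizer_iff]
    exact ⟨fun h x hx => (h x hx).symm, fun h x hx => (h x hx).symm⟩
  have hPC : PP R B ≤ C := fun p hp => (memC p).2 hp.1
  have hyC : y ∈ C := (memC y).2 hy
  set Z : Subgroup C := B.subgroupOf C with hZ
  have hnorm : Z.Normal := by
    refine ⟨fun z hz y => ?_⟩
    rw [hZ, mem_subgroupOf] at hz ⊢
    show (y : G) * z * (y : G)⁻¹ ∈ B
    rw [(memC _).1 y.2 _ hz, mul_inv_cancel_right]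
    exact hz
  set π : C →* C ⧸ Z := QuotientGroup.mk' Z with hπ
  have hs : Function.Surjective π := QuotientGroup.mk'_surjective Z
  have hπ1 : ∀ y, π y = 1 ↔ (y : G) ∈ B := by
    intro y
    rw [hπ, QuotientGroup.mk'_apply, QuotientGroup.eq_one_iff, hZ, mem_subgroupOf]
  set y' : C := ⟨y, hyC⟩ with hy'
  set d' : C := ⟨d, hPC hd⟩ with hd'
  have hyy' : π y' * π y' = 1 := by
    rw [← map_mul, show y' * y' = 1 from Subtype.ext hyy, map_one]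
  have hdd' : π d' * π d' = 1 := by
    rw [← map_mul, hπ1]
    exact H.sqPP hd
  have hdB : d ∉ B := fun h => hdd (H.sqB h)
  rcases Nat.even_or_odd' (orderOf (π d' * π y')) with ⟨k, hk | hk⟩
  · -- the central involution
    have hk0 : 0 < k := by
      have := orderOf_pos (π d' * π y')
      omega
    obtain ⟨z, hz⟩ := hs ((π d' * π y') ^ k)
    have hz1 : π z ≠ 1 := by
      rw [hz]
      intro h1
      have h2 := orderOf_dvd_of_pow_eq_one h1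
      have h3 := Nat.le_of_dvd hk0 h2
      omega
    have hzz : π z * π z = 1 := by
      rw [hz, ← pow_add, ← two_mul, ← hk, pow_orderOf_eq_one]
    obtain ⟨hzd, hzy⟩ := Count.Hyp.z_comm hdd' hyy' (z := π z) (by
      rw [hz]; exact ⟨(k : ℤ), by simp⟩) hzz
    have h1 : π (z * d' * z⁻¹ * d'⁻¹) = 1 := by
      rw [map_mul, map_mul, map_mul, map_inv, map_inv, hzd]; group
    have hzP : (z : G) ∈ PP R B :=
      mem_of_comm_mod H hmax hN hd hdB ((memC _).1 z.2) ((hπ1 _).1 h1)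
    have hzB : (z : G) ∉ B := fun h => hz1 ((hπ1 z).2 h)
    have h2 : π (y' * z * y'⁻¹ * z⁻¹) = 1 := by
      rw [map_mul, map_mul, map_mul, map_inv, map_inv, ← hzy]; group
    exact mem_of_comm_mod H hmax hN hzP hzB hy ((hπ1 _).1 h2)
  · exfalso
    obtain ⟨g, hg⟩ := Count.conj_of_odd hyy' hdd' (k := k) (by rw [← hk, pow_orderOf_eq_one])
    obtain ⟨c, rfl⟩ := hs g
    have h1 : π (y'⁻¹ * (c * d' * c⁻¹)) = 1 := by
      rw [map_mul, map_mul, map_mul, map_inv, map_inv, hg]; group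
    have h2 : y⁻¹ * ((c : G) * d * (c : G)⁻¹) ∈ B := (hπ1 _).1 h1
    set x := y⁻¹ * ((c : G) * d * (c : G)⁻¹) with hx
    have h3 : (c : G) * d * (c : G)⁻¹ = y * x := by rw [hx]; group
    apply hdd
    have h4 : (c : G) * (d * d) * (c : G)⁻¹ = 1 := by
      calc (c : G) * (d * d) * (c : G)⁻¹ = (c : G) * d * (c : G)⁻¹ * ((c : G) * d * (c : G)⁻¹) := by group
        _ = y * x * (y * x) := by rw [h3]
        _ = y * (x * y) * x := by group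
        _ = y * (y * x) * x := by rw [hy x h2]
        _ = (y * y) * (x * x) := by group
        _ = 1 := by rw [hyy, H.sqB h2, one_mul]
    calc d * d = (c : G)⁻¹ * ((c : G) * (d * d) * (c : G)⁻¹) * c := by group
      _ = 1 := by rw [h4]; group

/-- **Lemma D**: if `P` is a Sylow 2-subgroup, all involutions of `C(B)` lie in `P` -/
theorem lemD [Finite G] (hmax : ∀ T : Subgroup G, IsPGroup 2 T → PP R B ≤ T → T = PP R B)
    (hN : ∀ n, (∀ x ∈ B, n * x = x * n) → (∀ p ∈ PP R B, n * p * n⁻¹ ∈ PP R B) →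
      ∀ r ∈ R, ∃ s ∈ R, ∃ y ∈ B, n * r * n⁻¹ = s * y)
    {y : G} (hy : ∀ x ∈ B, y * x = x * y) (hyy : y * y = 1) : y ∈ PP R B :=
  lemDB H (fun T _ hT hPT => hmax T hT hPT) hN hy hyy

end Cfsg.Agent.StdG24.F.LemD
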