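import Cfsg.Agent.StdG24.F.Norm
import Cfsg.Agent.StdAlt.Five.Swap

/-!
# Lemma F: the subgroups `E`, `Q` of `P`, and a Sylow 2-subgroup over `P`
(helper393, blueprints/S1767-F.md)
-/

set_option autoImplicit false

namespace Cfsg.Agent.StdG24.F

open Subgroup Cfsg.Agent.J2Sylow.Model Cfsg.Agent.StdAlt.Five

section frame

variable {G : Type*} [Group G] {R B P : Subgroup G} {ρ : G} {ε : F4} {X Y Z : F4 → G}

theorem frame_ZX (D : Coord.Data R B P ρ) (F : Coord.Frame R B P ρ ε X Y Z) (a c : F4) :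
    Z c * X a = X a * Z c := (D.cent _ (D.R_le (F.X_mem a)) _ (F.Z_mem c)).symm

theorem frame_ZY (D : Coord.Data R B P ρ) (F : Coord.Frame R B P ρ ε X Y Z) (b c : F4) :
    Z c * Y b = Y b * Z c := (D.cent _ (F.Y_mem b) _ (F.Z_mem c)).symm

theorem frame_mul (D : Coord.Data R B P ρ) (F : Coord.Frame R B P ρ ε X Y Z)
    (b a c b' a' c' : F4) :
    (Y b * X a * Z c) * (Y b' * X a' * Z c') =
      Y (b + b') * X (a + a') * Z (c + c' + a * b' + ε * F4.fr (b * b')) := by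
  have h1 := frame_ZX D F
  have h2 := frame_ZY D F
  calc (Y b * X a * Z c) * (Y b' * X a' * Z c')
      = Y b * X a * (Z c * Y b') * X a' * Z c' := by group
    _ = Y b * (X a * Y b') * (Z c * X a') * Z c' := by rw [h2]; group
    _ = Y b * (Y b' * X a * Z (a * b')) * (X a' * Z c) * Z c' := by rw [F.X_Y, h1]
    _ = (Y b * Y b') * X a * (Z (a * b') * X a') * (Z c * Z c') := by group
    _ = (Y (b + b') * Z (ε * F4.fr (b * b'))) * X a * (X a' * Z (a * b')) * Z (c + c') := by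
        rw [F.Y_mul, h1, F.Z_add]
    _ = Y (b + b') * (Z (ε * F4.fr (b * b')) * X a) * X a' * (Z (a * b') * Z (c + c')) := by group
    _ = Y (b + b') * (X a * Z (ε * F4.fr (b * b'))) * X a' * Z (a * b' + (c + c')) := by
        rw [h1, ← F.Z_add]
    _ = Y (b + b') * X a * (Z (ε * F4.fr (b * b')) * X a') * Z (a * b' + (c + c')) := by group
    _ = Y (b + b') * X a * (X a' * Z (ε * F4.fr (b * b'))) * Z (a * b' + (c + c')) := by rw [h1]
    _ = Y (b + b') * (X a * X a') * (Z (ε * F4.fr (b * b')) * Z (a * b' + (c + c'))) := by group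
    _ = _ := by
        rw [← F.X_add, ← F.Z_add]
        congr 2
        ring

theorem frame_one (F : Coord.Frame R B P ρ ε X Y Z) : Y 0 * X 0 * Z 0 = 1 := by
  rw [F.X_zero, F.Y_zero, F.Z_zero]; simp

theorem frame_sq (D : Coord.Data R B P ρ) (F : Coord.Frame R B P ρ ε X Y Z) (b a c : F4) :
    (Y b * X a * Z c) * (Y b * X a * Z c) = Z ((a + ε) * b) := by
  rw [frame_mul D F]
  have h1 : b + b = 0 := F4.add_self b
  have h2 : a + a = 0 := F4.add_self a
  have h3 : c + c = 0 := F4.add_self c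
  rw [h1, h2, h3, F.X_zero, F.Y_zero]
  have h4 : ∀ b : F4, F4.fr (b * b) = b := by decide
  rw [h4, zero_add, one_mul, one_mul]
  congr 1
  ring

theorem frame_inv (D : Coord.Data R B P ρ) (F : Coord.Frame R B P ρ ε X Y Z) {b a c : F4}
    (h : (Y b * X a * Z c) * (Y b * X a * Z c) = 1) : b = 0 ∨ a = ε := by
  rw [frame_sq D F, ← F.Z_zero] at h
  have h1 := F.Z_inj h
  have h2 : ∀ x b : F4, x * b = 0 → b = 0 ∨ x = 0 := by decide
  rcases h2 _ _ h1 with h3 | h3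
  · exact Or.inl h3
  · right
    have h4 : ∀ a ε : F4, a + ε = 0 → a = ε := by decide
    exact h4 _ _ h3

/-- `X a Z c` commutes with `Y b X a' Z c'` only if `a b = 0` -/
theorem frame_comm (D : Coord.Data R B P ρ) (F : Coord.Frame R B P ρ ε X Y Z) {b a c a' c' : F4}
    (h : (Y 0 * X a * Z c) * (Y b * X a' * Z c') = (Y b * X a' * Z c') * (Y 0 * X a * Z c)) :
    a = 0 ∨ b = 0 := by
  rw [frame_mul D F, frame_mul D F] at h
  have h1 := (F.inj _ _ _ _ _ _ h).2.2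
  have h2 : ∀ a b c c' ε : F4, c + c' + a * b + ε * F4.fr (0 * b) =
    c' + c + 0 + ε * F4.fr (b * 0) → a = 0 ∨ b = 0 := by
    intro a b c c' ε
    rw [zero_mul, mul_zero]
    have h3 : F4.fr 0 = 0 := by decide
    rw [h3, mul_zero, add_zero, add_zero, add_zero]
    have h4 : ∀ a b c c' : F4, c + c' + a * b = c' + c → a = 0 ∨ b = 0 := by decide
    exact h4 a b c c'
  apply h2 a b c c' ε
  rw [h1]
  have h5 : a' * 0 = 0 := mul_zero _
  rw [h5]

/-- elementary abelian subgroups of order 16 of `P` -/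
theorem frame_elem (D : Coord.Data R B P ρ) (F : Coord.Frame R B P ρ ε X Y Z) {F0 : Subgroup G}
    (hF0 : F0 ≤ P) (hc : Nat.card F0 = 16) (hsq : ∀ f ∈ F0, f * f = 1) :
    (∀ f ∈ F0, ∃ r ∈ R, ∃ x ∈ B, f = r * x) ∨ (ε = 0 ∧ ∀ f ∈ F0, ∃ b c, f = Y b * Z c) := by
  by_cases hall : ∀ f ∈ F0, ∃ r ∈ R, ∃ x ∈ B, f = r * x
  · exact Or.inl hall
  right
  push Not at hall
  obtain ⟨f0, hf0, hf0n⟩ := hall
  obtain ⟨b0, a0, c0, hf0e⟩ := F.P_surj f0 (hF0 hf0)
  have hb0 : b0 ≠ 0 := by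
    intro h
    apply hf0n (X a0) (F.X_mem _) (Z c0) (F.Z_mem _)
    rw [hf0e, h, F.Y_zero, one_mul]
  have hinv : ∀ {b a c : F4}, Y b * X a * Z c ∈ F0 → b = 0 ∨ a = ε := fun h =>
    frame_inv D F (hsq _ h)
  have hzero : ∀ {a c : F4}, Y 0 * X a * Z c ∈ F0 → a = 0 := by
    intro a c h
    have hcom : ∀ f ∈ F0, ∀ g ∈ F0, f * g = g * f := by
      intro f hf g hg
      have i1 : f⁻¹ = f := by rw [inv_eq_iff_mul_eq_one]; exact hsq f hf
      have i2 : g⁻¹ = g := by rw [inv_eq_iff_mul_eq_one]; exact hsq g hg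
      calc f * g = (f * g)⁻¹ := by rw [eq_inv_iff_mul_eq_one]; exact hsq _ (F0.mul_mem hf hg)
        _ = g⁻¹ * f⁻¹ := by group
        _ = g * f := by rw [i1, i2]
    have h1 := hcom _ h _ hf0
    rw [hf0e] at h1
    rcases frame_comm D F h1 with h2 | h2
    · exact h2
    · exact absurd h2 hb0
  choose! β α γ hβ using F.P_surj
  have hinj : Function.Injective (fun f : F0 => (β f, γ f)) := by
    rintro ⟨f, hf⟩ ⟨g, hg⟩ h
    have h1 : β f = β g := congrArg Prod.fst h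
    have h2 : γ f = γ g := congrArg Prod.snd h
    have e1 := hβ f (hF0 hf)
    have e2 := hβ g (hF0 hg)
    have h3 : α f = α g := by
      have m1 : Y (β f) * X (α f) * Z (γ f) ∈ F0 := by rw [← e1]; exact hf
      have m2 : Y (β g) * X (α g) * Z (γ g) ∈ F0 := by rw [← e2]; exact hg
      by_cases hb : β f = 0
      · have hb' : β g = 0 := by rw [← h1]; exact hb
        rw [hb] at m1
        rw [hb'] at m2
        rw [hzero m1, hzero m2]
      · rcases hinv m1 with h4 | h4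
        · exact absurd h4 hb
        · rcases hinv m2 with h5 | h5
          · exact absurd (h1.trans h5) hb
          · rw [h4, h5]
    apply Subtype.ext
    change f = g
    rw [e1, e2, h1, h2, h3]
  have hbij := hinj.bijective_of_nat_card_le (by
    rw [hc, Nat.card_prod, Nat.card_eq_fintype_card]; decide)
  obtain ⟨⟨f1, hf1⟩, k1⟩ := hbij.2 (F4.e, 0)
  obtain ⟨⟨f2, hf2⟩, k2⟩ := hbij.2 (F4.w, 0)
  have k11 : β f1 = F4.e := congrArg Prod.fst k1
  have k21 : β f2 = F4.w := congrArg Prod.fst k2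
  have e1 := hβ f1 (hF0 hf1)
  have e2 := hβ f2 (hF0 hf2)
  rw [k11] at e1
  rw [k21] at e2
  have m1 : Y F4.e * X (α f1) * Z (γ f1) ∈ F0 := by rw [← e1]; exact hf1
  have m2 : Y F4.w * X (α f2) * Z (γ f2) ∈ F0 := by rw [← e2]; exact hf2
  have a1 : α f1 = ε := by
    rcases hinv m1 with h | h
    · exact absurd h (by decide)
    · exact h
  have a2 : α f2 = ε := by
    rcases hinv m2 with h | h
    · exact absurd h (by decide)
    · exact h
  have m3 := F0.mul_mem m1 m2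
  rw [frame_mul D F] at m3
  have hε : ε = 0 := by
    rcases hinv m3 with h | h
    · exact absurd h (by decide)
    · rw [a1, a2, F4.add_self] at h
      exact h.symm
  refine ⟨hε, fun f hf => ?_⟩
  have e3 := hβ f (hF0 hf)
  have m4 : Y (β f) * X (α f) * Z (γ f) ∈ F0 := by rw [← e3]; exact hf
  have a3 : α f = 0 := by
    by_cases hb : β f = 0
    · rw [hb] at m4; exact hzero m4
    · rcases hinv m4 with h | h
      · exact absurd h hb
      · rw [h, hε]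
  refine ⟨β f, γ f, ?_⟩
  conv_lhs => rw [e3, a3, F.X_zero, mul_one]

/-- the second elementary abelian subgroup of order 16 -/
def QQ (D : Coord.Data R B P ρ) (F : Coord.Frame R B P ρ 0 X Y Z) : Subgroup G where
  carrier := {g | ∃ b c, g = Y b * Z c}
  one_mem' := ⟨0, 0, by rw [F.Y_zero, F.Z_zero, one_mul]⟩
  mul_mem' := by
    rintro _ _ ⟨b, c, rfl⟩ ⟨b', c', rfl⟩
    refine ⟨b + b', c + c', ?_⟩
    have h := F.Y_mul b b'
    rw [zero_mul, F.Z_zero, mul_one] at h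
    calc Y b * Z c * (Y b' * Z c') = Y b * (Z c * Y b') * Z c' := by group
      _ = (Y b * Y b') * (Z c * Z c') := by rw [frame_ZY D F]; group
      _ = _ := by rw [h, F.Z_add]
  inv_mem' := by
    rintro _ ⟨b, c, rfl⟩
    refine ⟨b, c, ?_⟩
    have h := F.Y_mul b b
    rw [zero_mul, F.Z_zero, mul_one] at h
    have h1 : b + b = 0 := F4.add_self b
    have h2 : c + c = 0 := F4.add_self c
    rw [inv_eq_iff_mul_eq_one]
    calc Y b * Z c * (Y b * Z c) = Y b * (Z c * Y b) * Z c := by group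
      _ = (Y b * Y b) * (Z c * Z c) := by rw [frame_ZY D F]; group
      _ = 1 := by rw [h, ← F.Z_add, h1, h2, F.Y_zero, F.Z_zero, one_mul]

theorem card_QQ (D : Coord.Data R B P ρ) (F : Coord.Frame R B P ρ 0 X Y Z) :
    Nat.card (QQ D F) = 16 := by
  have hf : Function.Bijective (fun p : F4 × F4 => (⟨Y p.1 * Z p.2, p.1, p.2, rfl⟩ : QQ D F)) := by
    constructor
    · rintro ⟨b, c⟩ ⟨b', c'⟩ h
      have h1 : Y b * Z c = Y b' * Z c' := congrArg Subtype.val h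
      have h2 : Y b * X 0 * Z c = Y b' * X 0 * Z c' := by
        rw [F.X_zero, mul_one, mul_one]; exact h1
      obtain ⟨h3, -, h4⟩ := F.inj _ _ _ _ _ _ h2
      exact Prod.ext h3 h4
    · rintro ⟨_, b, c, rfl⟩
      exact ⟨(b, c), rfl⟩
  rw [← Nat.card_eq_of_bijective _ hf, Nat.card_prod, Nat.card_eq_fintype_card]
  decide

theorem QQ_le (D : Coord.Data R B P ρ) (F : Coord.Frame R B P ρ 0 X Y Z) : QQ D F ≤ P := by
  rintro _ ⟨b, c, rfl⟩
  exact P.mul_mem (F.Y_mem _) (D.B_le (F.Z_mem _))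

theorem sq_QQ (D : Coord.Data R B P ρ) (F : Coord.Frame R B P ρ 0 X Y Z) :
    ∀ f ∈ QQ D F, f * f = 1 := by
  rintro _ ⟨b, c, rfl⟩
  have h := frame_sq D F b 0 c
  rw [F.X_zero, mul_one, zero_add, zero_mul, F.Z_zero] at h
  exact h

/-- `E ∩ Q = B` -/
theorem mem_B_of_both (F : Coord.Frame R B P ρ ε X Y Z) {f : G}
    (h1 : ∃ r ∈ R, ∃ x ∈ B, f = r * x) (h2 : ∃ b c, f = Y b * Z c) : f ∈ B := by
  obtain ⟨r, hr, x, hx, rfl⟩ := h1
  obtain ⟨b, c, h⟩ := h2
  obtain ⟨a, rfl⟩ := F.X_surj r hr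
  obtain ⟨c', rfl⟩ := F.Z_surj x hx
  have h2 : Y 0 * X a * Z c' = Y b * X 0 * Z c := by
    rw [F.X_zero, F.Y_zero, one_mul, mul_one]; exact h
  rw [(F.inj _ _ _ _ _ _ h2).2.1, F.X_zero, one_mul]
  exact hx

/-- `g` swaps `E` and `Q` -/
structure Sw (R B : Subgroup G) (Y Z : F4 → G) (g : G) : Prop where
  RQ : ∀ r ∈ R, ∃ b c, g * r * g⁻¹ = Y b * Z c
  QE : ∀ b, ∃ r ∈ R, ∃ x ∈ B, g * Y b * g⁻¹ = r * x
  BB : ∀ x ∈ B, g * x * g⁻¹ ∈ B

end frame

namespace Hyp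

variable {G : Type*} [Group G] {R A B : Subgroup G} {ρ b : G} (H : Hyp R A B ρ b)

/-- `E = R B` -/
def EE (H : Hyp R A B ρ b) : Subgroup G where
  carrier := {g | ∃ r ∈ R, ∃ x ∈ B, g = r * x}
  one_mem' := ⟨1, R.one_mem, 1, B.one_mem, by simp⟩
  mul_mem' := by
    rintro _ _ ⟨r, hr, x, hx, rfl⟩ ⟨s, hs, y, hy, rfl⟩
    refine ⟨r * s, R.mul_mem hr hs, x * y, B.mul_mem hx hy, ?_⟩
    calc r * x * (s * y) = r * (x * s) * y := by group
      _ = r * s * (x * y) := by rw [← H.comm s hs x (H.B_le hx)]; group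
  inv_mem' := by
    rintro _ ⟨r, hr, x, hx, rfl⟩
    refine ⟨r⁻¹, R.inv_mem hr, x⁻¹, B.inv_mem hx, ?_⟩
    rw [mul_inv_rev, ← H.comm _ (R.inv_mem hr) _ (H.B_le (B.inv_mem hx))]

include H

theorem card_EE : Nat.card H.EE = 16 := by
  have hf : Function.Bijective (fun p : R × B =>
      (⟨(p.1 : G) * p.2, p.1, p.1.2, p.2, p.2.2, rfl⟩ : H.EE)) := by
    constructor
    · rintro ⟨r1, x1⟩ ⟨r2, x2⟩ h
      have h1 : (r1 : G) * x1 = r2 * x2 := congrArg Subtype.val h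
      obtain ⟨h2, h3⟩ := H.uniq r1.2 r2.2 (H.B_le x1.2) (H.B_le x2.2) h1
      exact Prod.ext (Subtype.ext h2) (Subtype.ext h3)
    · rintro ⟨_, r, hr, x, hx, rfl⟩
      exact ⟨(⟨r, hr⟩, ⟨x, hx⟩), rfl⟩
  rw [← Nat.card_eq_of_bijective _ hf, Nat.card_prod, H.cardR, H.cardB]

theorem EE_le : H.EE ≤ PP R B := by
  rintro _ ⟨r, hr, x, hx, rfl⟩
  exact H.mul_mem_PP hr hx

theorem sq_EE : ∀ f ∈ H.EE, f * f = 1 := by
  rintro _ ⟨r, hr, x, hx, rfl⟩
  calc r * x * (r * x) = r * (x * r) * x := by group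
    _ = (r * r) * (x * x) := by rw [← H.comm r hr x (H.B_le hx)]; group
    _ = 1 := by rw [H.sqR r hr, H.sqB hx, one_mul]

/-- conjugates of elementary abelian groups of order 16 inside `P` -/
theorem elem_conj {ε : F4} {X Y Z : F4 → G} (F : Coord.Frame R B (PP R B) ρ ε X Y Z)
    {F0 : Subgroup G} (hc : Nat.card F0 = 16) (hsq : ∀ f ∈ F0, f * f = 1) {g : G}
    (hg : ∀ f ∈ F0, g * f * g⁻¹ ∈ PP R B) :
    (∀ f ∈ F0, ∃ r ∈ R, ∃ x ∈ B, g * f * g⁻¹ = r * x) ∨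
      (ε = 0 ∧ ∀ f ∈ F0, ∃ b c, g * f * g⁻¹ = Y b * Z c) := by
  have h1 : F0.map (MulAut.conj g).toMonoidHom ≤ PP R B := by
    rintro _ ⟨f, hf, rfl⟩
    exact hg f hf
  have h2 : Nat.card (F0.map (MulAut.conj g).toMonoidHom) = 16 := by
    rw [← hc]
    exact Nat.card_congr (F0.equivMapOfInjective _ (MulAut.conj g).injective).symm.toEquiv
  have h3 : ∀ f ∈ F0.map (MulAut.conj g).toMonoidHom, f * f = 1 := by
    rintro _ ⟨f, hf, rfl⟩
    change g * f * g⁻¹ * (g * f * g⁻¹) = 1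
    calc g * f * g⁻¹ * (g * f * g⁻¹) = g * (f * f) * g⁻¹ := by group
      _ = 1 := by rw [hsq f hf]; group
  rcases frame_elem H.data F h1 h2 h3 with h | ⟨h0, h⟩
  · left
    intro f hf
    exact h _ ⟨f, hf, rfl⟩
  · right
    refine ⟨h0, fun f hf => h _ ⟨f, hf, rfl⟩⟩

theorem norm_or_swap [Finite G] {ε : F4} {X Y Z : F4 → G}
    (F : Coord.Frame R B (PP R B) ρ ε X Y Z) {T : Subgroup G} (hT : IsPGroup 2 T)
    (hPT : PP R B ≤ T) {g : G} (hg : g ∈ T) (hn : ∀ p ∈ PP R B, g * p * g⁻¹ ∈ PP R B) :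
    g ∈ PP R B ∨ (ε = 0 ∧ Sw R B Y Z g) := by
  rcases H.elem_conj F H.card_EE H.sq_EE (fun f hf => hn f (H.EE_le hf)) with h | ⟨h0, h⟩
  · left
    apply H.mem_PP_of_norm hT hPT hg
    · intro r hr
      exact h r ⟨r, hr, 1, B.one_mem, by simp⟩
    · intro x hx
      exact h x ⟨1, R.one_mem, x, hx, by simp⟩
  right
  subst h0
  refine ⟨rfl, ?_⟩
  have hEQ : ∀ q ∈ QQ H.data F, ∃ f ∈ H.EE, q = g * f * g⁻¹ := by
    have hinj : Function.Injective (fun f : H.EE => (⟨g * f * g⁻¹, h f f.2⟩ : QQ H.data F)) := by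
      intro f1 f2 h12
      have h3 : g * (f1 : G) * g⁻¹ = g * f2 * g⁻¹ := congrArg Subtype.val h12
      exact Subtype.ext (mul_left_cancel (mul_right_cancel h3))
    have hfin : Finite (QQ H.data F) := inferInstance
    have := hinj.bijective_of_nat_card_le (by rw [H.card_EE, card_QQ])
    intro q hq
    obtain ⟨f, hf⟩ := this.2 ⟨q, hq⟩
    exact ⟨f, f.2, (congrArg Subtype.val hf).symm⟩
  have hQE : ∀ q ∈ QQ H.data F, ∃ r ∈ R, ∃ x ∈ B, g * q * g⁻¹ = r * x := by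
    rcases H.elem_conj F (card_QQ H.data F) (sq_QQ H.data F)
      (fun f hf => hn f (QQ_le H.data F hf)) with h4 | ⟨-, h4⟩
    · exact h4
    · -- then `Q^g ≤ Q = E^g`, so `Q ≤ E`
      exfalso
      have h5 : F4.e = 0 := by
        obtain ⟨b, c, h6⟩ := h4 (Y F4.e) ⟨F4.e, 0, by rw [F.Z_zero, mul_one]⟩
        obtain ⟨f, hf, h7⟩ := hEQ (Y b * Z c) ⟨b, c, rfl⟩
        have h8 : Y F4.e = f := by
          rw [h7] at h6
          exact mul_left_cancel (mul_right_cancel h6)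
        obtain ⟨r, hr, x, hx, h9⟩ := hf
        obtain ⟨a, rfl⟩ := F.X_surj r hr
        obtain ⟨c', rfl⟩ := F.Z_surj x hx
        have h10 : Y F4.e * X 0 * Z 0 = Y 0 * X a * Z c' := by
          rw [F.X_zero, F.Y_zero, F.Z_zero, one_mul, mul_one, mul_one, h8, h9]
        exact (F.inj _ _ _ _ _ _ h10).1
      exact absurd h5 (by decide)
  refine ⟨fun r hr => h r ⟨r, hr, 1, B.one_mem, by simp⟩,
    fun b => hQE _ ⟨b, 0, by rw [F.Z_zero, mul_one]⟩, fun x hx => ?_⟩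
  apply mem_B_of_both F
  · obtain ⟨c, rfl⟩ := F.Z_surj x hx
    exact hQE _ ⟨0, c, by rw [F.Y_zero, one_mul]⟩
  · exact h x ⟨1, R.one_mem, x, hx, by simp⟩

/-- no element normalises `E` and swaps at the same time -/
theorem not_sw [Finite G] {ε : F4} {X Y Z : F4 → G} (F : Coord.Frame R B (PP R B) ρ ε X Y Z) {g : G}
    (hg : Sw R B Y Z g) (h : ∀ r ∈ R, ∃ s ∈ R, ∃ x ∈ B, g * r * g⁻¹ = s * x) : False := by
  obtain ⟨r, hr, hr1⟩ := H.exists_neR
  have h1 := mem_B_of_both F (h r hr) (hg.RQ r hr)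
  have h2 : g * r * g⁻¹ ≠ 1 := by
    intro h0
    apply hr1
    have : r = g⁻¹ * (g * r * g⁻¹) * g := by group
    rw [this, h0]; group
  exact H.not_both ((H.tt_R hr hr1).conj' g) (H.xt_B h1 h2)

theorem not_sw_mem [Finite G] {ε : F4} {X Y Z : F4 → G} (F : Coord.Frame R B (PP R B) ρ ε X Y Z)
    {g : G} (hg : Sw R B Y Z g) (h : g ∈ PP R B) : False := by
  apply H.not_sw F hg
  intro r hr
  refine ⟨r, hr, g * r * g⁻¹ * r⁻¹, h.2 r hr, ?_⟩
  have h1 := H.comm r hr _ (H.B_le (h.2 r hr))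
  rw [h1]; group

/-- two swaps differ by an element of `P` -/
theorem sw_mul [Finite G] {ε : F4} {X Y Z : F4 → G} (F : Coord.Frame R B (PP R B) ρ ε X Y Z)
    {T : Subgroup G} (hT : IsPGroup 2 T) (hPT : PP R B ≤ T) {g h : G} (hg : g ∈ T) (hh : h ∈ T)
    (hgn : ∀ p ∈ PP R B, g * p * g⁻¹ ∈ PP R B) (hhn : ∀ p ∈ PP R B, h * p * h⁻¹ ∈ PP R B)
    (hgP : g ∉ PP R B) (hhP : h ∉ PP R B) : g * h ∈ PP R B := by
  rcases H.norm_or_swap F hT hPT hg hgn with h1 | ⟨hε, h1⟩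
  · exact absurd h1 hgP
  rcases H.norm_or_swap F hT hPT hh hhn with h2 | ⟨-, h2⟩
  · exact absurd h2 hhP
  rcases H.norm_or_swap F hT hPT (T.mul_mem hg hh) (fun p hp => by
    have : g * h * p * (g * h)⁻¹ = g * (h * p * h⁻¹) * g⁻¹ := by group
    rw [this]
    exact hgn _ (hhn p hp)) with h3 | ⟨-, h3⟩
  · exact h3
  exfalso
  apply H.not_sw F h3
  intro r hr
  obtain ⟨b, c, h4⟩ := h2.RQ r hr
  obtain ⟨s, hs, x, hx, h5⟩ := h1.QE b
  refine ⟨s, hs, x * (g * Z c * g⁻¹), B.mul_mem hx (h1.BB _ (F.Z_mem c)), ?_⟩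
  calc g * h * r * (g * h)⁻¹ = g * (h * r * h⁻¹) * g⁻¹ := by group
    _ = (g * Y b * g⁻¹) * (g * Z c * g⁻¹) := by rw [h4]; group
    _ = _ := by rw [h5]; group

end Hyp

/-- normalisers grow -/
theorem exists_norm {G : Type*} [Group G] [Finite G] {S P : Subgroup G} (hS : IsPGroup 2 S)
    (hPS : P ≤ S) (hne : P ≠ S) : ∃ g ∈ S, g ∉ P ∧ ∀ p ∈ P, g * p * g⁻¹ ∈ P := by
  have : Fact (Nat.Prime 2) := ⟨Nat.prime_two⟩
  have h1 : Group.IsNilpotent S := hS.isNilpotent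
  have h2 := Group.normalizerCondition_of_isNilpotent (G := S)
  have h3 : P.subgroupOf S < ⊤ := by
    rw [lt_top_iff_ne_top]
    intro h
    rw [Subgroup.subgroupOf_eq_top] at h
    exact hne (le_antisymm hPS h)
  obtain ⟨g, hg, hgP⟩ := SetLike.exists_of_lt (h2 _ h3)
  refine ⟨g, g.2, fun h => hgP (Subgroup.mem_subgroupOf.2 h), fun p hp => ?_⟩
  have h4 := (Subgroup.mem_normalizer_iff.1 hg ⟨p, hPS hp⟩).1 (Subgroup.mem_subgroupOf.2 hp)
  exact Subgroup.mem_subgroupOf.1 h4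

namespace Hyp

variable {G : Type*} [Group G] {R A B : Subgroup G} {ρ b : G} (H : Hyp R A B ρ b)
include H

/-- a 2-group containing `P` normalises `P` -/
theorem norm_PP [Finite G] {ε : F4} {X Y Z : F4 → G} (F : Coord.Frame R B (PP R B) ρ ε X Y Z)
    {S : Subgroup G} (hS : IsPGroup 2 S) (hPS : PP R B ≤ S) :
    ∀ g ∈ S, ∀ p ∈ PP R B, g * p * g⁻¹ ∈ PP R B := by
  classical
  -- the normaliser in `S`
  let T : Subgroup G := S ⊓ Subgroup.normalizer (PP R B : Set G)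
  have hTn : ∀ g, g ∈ T ↔ g ∈ S ∧ ∀ p ∈ PP R B, g * p * g⁻¹ ∈ PP R B := by
    intro g
    constructor
    · rintro ⟨h1, h2⟩
      exact ⟨h1, fun p hp => (Subgroup.mem_normalizer_iff.1 h2 p).1 hp⟩
    · rintro ⟨h1, h2⟩
      refine ⟨h1, Subgroup.mem_normalizer_iff.2 ?_⟩
      have hinj : Function.Injective (fun p : PP R B => (⟨g * p * g⁻¹, h2 p p.2⟩ : PP R B)) := by
        intro p q h
        have h3 : g * (p : G) * g⁻¹ = g * q * g⁻¹ := congrArg Subtype.val h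
        exact Subtype.ext (mul_left_cancel (mul_right_cancel h3))
      have hsurj := Finite.injective_iff_surjective.1 hinj
      intro p
      refine ⟨fun hp => h2 p hp, fun hp => ?_⟩
      obtain ⟨q, hq⟩ := hsurj ⟨_, hp⟩
      have h3 : g * (q : G) * g⁻¹ = g * p * g⁻¹ := congrArg Subtype.val hq
      rw [← mul_left_cancel (mul_right_cancel h3)]
      exact q.2
  have hTS : T ≤ S := inf_le_left
  have hPT : PP R B ≤ T := by
    intro p hp
    rw [hTn]
    exact ⟨hPS hp, fun q hq => (PP R B).mul_mem ((PP R B).mul_mem hp hq) ((PP R B).inv_mem hp)⟩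
  have hT : IsPGroup 2 T := hS.to_le hTS
  by_cases hTeq : T = S
  · intro g hg
    rw [← hTeq] at hg
    exact ((hTn g).1 hg).2
  exfalso
  obtain ⟨g, hgS, hgT, hgn⟩ := exists_norm hS hTS hTeq
  -- a conjugate of `E` or `Q` is not in `P`
  have key : ∀ F0 : Subgroup G, Nat.card F0 = 16 → (∀ f ∈ F0, f * f = 1) → F0 ≤ T → F0 ≤ PP R B := by
    intro F0 hc hsq hF0T
    by_contra hcon
    obtain ⟨τ, hτ, hτP⟩ := SetLike.not_le_iff_exists.1 hcon
    have hτn := ((hTn τ).1 (hF0T hτ)).2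
    rcases H.norm_or_swap F hT hPT (hF0T hτ) hτn with h1 | ⟨hε, hSw⟩
    · exact hτP h1
    subst hε
    have hcom : ∀ f ∈ F0, ∀ g ∈ F0, f * g = g * f := by
      intro f hf g hg
      have i1 : f⁻¹ = f := by rw [inv_eq_iff_mul_eq_one]; exact hsq f hf
      have i2 : g⁻¹ = g := by rw [inv_eq_iff_mul_eq_one]; exact hsq g hg
      calc f * g = (f * g)⁻¹ := by rw [eq_inv_iff_mul_eq_one]; exact hsq _ (F0.mul_mem hf hg)
        _ = g⁻¹ * f⁻¹ := by group
        _ = g * f := by rw [i1, i2]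
    have hFB : ∀ f ∈ F0, f ∈ PP R B → f ∈ B := by
      intro f hf hfP
      have h2 : τ * f * τ⁻¹ = f := by rw [hcom τ hτ f hf]; group
      obtain ⟨b, a, c, hfe⟩ := F.P_surj f hfP
      have h3 : b = 0 ∨ a = 0 := by
        apply frame_inv H.data F (b := b) (a := a) (c := c)
        rw [← hfe]; exact hsq f hf
      rcases h3 with h3 | h3
      · have h4 : ∃ r ∈ R, ∃ x ∈ B, f = r * x :=
          ⟨X a, F.X_mem _, Z c, F.Z_mem _, by rw [hfe, h3, F.Y_zero, one_mul]⟩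
        apply mem_B_of_both F h4
        obtain ⟨b', c', h5⟩ := hSw.RQ (X a) (F.X_mem a)
        have h6 : τ * Z c * τ⁻¹ ∈ B := hSw.BB _ (F.Z_mem c)
        obtain ⟨c2, h7⟩ := F.Z_surj _ h6
        refine ⟨b', c' + c2, ?_⟩
        calc f = τ * f * τ⁻¹ := h2.symm
          _ = (τ * X a * τ⁻¹) * (τ * Z c * τ⁻¹) := by rw [hfe, h3, F.Y_zero]; group
          _ = _ := by rw [h5, ← h7, F.Z_add]; group
      · have h4 : ∃ b c, f = Y b * Z c := ⟨b, c, by rw [hfe, h3, F.X_zero, mul_one]⟩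
        refine mem_B_of_both F ?_ h4
        obtain ⟨r, hr, x, hx, h5⟩ := hSw.QE b
        have h6 : τ * Z c * τ⁻¹ ∈ B := hSw.BB _ (F.Z_mem c)
        refine ⟨r, hr, x * (τ * Z c * τ⁻¹), B.mul_mem hx h6, ?_⟩
        calc f = τ * f * τ⁻¹ := h2.symm
          _ = (τ * Y b * τ⁻¹) * (τ * Z c * τ⁻¹) := by rw [hfe, h3, F.X_zero]; group
          _ = _ := by rw [h5]; group
    have hτf : ∀ f ∈ F0, f ∉ PP R B → τ * f ∈ B := by
      intro f hf hfP
      exact hFB _ (F0.mul_mem hτ hf) (H.sw_mul F hT hPT (hF0T hτ) (hF0T hf) hτn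
        ((hTn f).1 (hF0T hf)).2 hτP hfP)
    have hinj : Function.Injective (fun f : F0 => if hf : (f : G) ∈ PP R B then
        ((⟨f, hFB f f.2 hf⟩ : B), true) else ((⟨τ * f, hτf f f.2 hf⟩ : B), false)) := by
      rintro ⟨f, hf⟩ ⟨f', hf'⟩ h
      apply Subtype.ext
      by_cases h1 : f ∈ PP R B <;> by_cases h2 : f' ∈ PP R B
      · simp only [h1, h2, dite_true, Prod.mk.injEq, Subtype.mk.injEq] at h
        exact h.1
      · simp [h1, h2] at h
      · simp [h1, h2] at h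
      · simp only [h1, h2, dite_false, Prod.mk.injEq, Subtype.mk.injEq] at h
        exact mul_left_cancel h.1
    have := H.finB
    have h7 := Nat.card_le_card_of_injective _ hinj
    rw [hc, Nat.card_prod, H.cardB] at h7
    have h8 : Nat.card Bool = 2 := by simp
    rw [h8] at h7
    omega
  -- `T ≠ P` since otherwise `g ∈ T`
  have hconj : ∀ F0 : Subgroup G, Nat.card F0 = 16 → (∀ f ∈ F0, f * f = 1) → F0 ≤ PP R B →
      ∀ f ∈ F0, g * f * g⁻¹ ∈ PP R B := by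
    intro F0 hc hsq hle f hf
    have h1 : F0.map (MulAut.conj g).toMonoidHom ≤ PP R B := by
      apply key
      · rw [← hc]
        exact Nat.card_congr (F0.equivMapOfInjective _ (MulAut.conj g).injective).symm.toEquiv
      · rintro _ ⟨f, hf, rfl⟩
        change g * f * g⁻¹ * (g * f * g⁻¹) = 1
        calc g * f * g⁻¹ * (g * f * g⁻¹) = g * (f * f) * g⁻¹ := by group
          _ = 1 := by rw [hsq f hf]; group
      · rintro _ ⟨f, hf, rfl⟩
        exact hgn f (hPT (hle hf))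
    exact h1 ⟨f, hf, rfl⟩
  have hE := hconj H.EE H.card_EE H.sq_EE H.EE_le
  -- `T > P`
  have hTP : T ≠ PP R B := by
    intro h
    apply hgT
    rw [hTn]
    refine ⟨hgS, fun p hp => ?_⟩
    rw [← h]
    exact hgn p (by rw [h]; exact hp)
  obtain ⟨h0, hh0T, hh0P, hh0n⟩ := exists_norm hT hPT hTP.symm
  have hε : ε = 0 := by
    rcases H.norm_or_swap F hT hPT hh0T hh0n with h | ⟨h, -⟩
    · exact absurd h hh0P
    · exact h
  subst hε
  have hQ := hconj (QQ H.data F) (card_QQ _ _) (sq_QQ _ _) (QQ_le _ _)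
  apply hgT
  rw [hTn]
  refine ⟨hgS, fun p hp => ?_⟩
  obtain ⟨b, a, c, rfl⟩ := F.P_surj p hp
  have h1 := hQ (Y b) ⟨b, 0, by rw [F.Z_zero, mul_one]⟩
  have h2 := hE (X a * Z c) ⟨X a, F.X_mem a, Z c, F.Z_mem c, rfl⟩
  have h3 : g * (Y b * X a * Z c) * g⁻¹ = (g * Y b * g⁻¹) * (g * (X a * Z c) * g⁻¹) := by group
  rw [h3]
  exact (PP R B).mul_mem h1 h2

/-- the alternative: `P` is Sylow, or `ε = 0` and everything outside `P` swaps `E` and `Q` -/
theorem syl_cases [Finite G] {ε : F4} {X Y Z : F4 → G} (F : Coord.Frame R B (PP R B) ρ ε X Y Z)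
    {S : Subgroup G} (hS : IsPGroup 2 S) (hPS : PP R B ≤ S) (hne : PP R B ≠ S) :
    ε = 0 ∧ (∃ g ∈ S, g ∉ PP R B) ∧ (∀ g ∈ S, g ∉ PP R B → Sw R B Y Z g) ∧
      ∀ g ∈ S, g ∉ PP R B → ∀ h ∈ S, h ∉ PP R B → g * h ∈ PP R B := by
  have hn := H.norm_PP F hS hPS
  obtain ⟨g, hg, hgP, -⟩ := exists_norm hS hPS hne
  have hsw : ∀ g ∈ S, g ∉ PP R B → ε = 0 ∧ Sw R B Y Z g := by
    intro g hg hgP
    rcases H.norm_or_swap F hS hPS hg (hn g hg) with h | h
    · exact absurd h hgP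
    · exact h
  refine ⟨(hsw g hg hgP).1, ⟨g, hg, hgP⟩, fun g hg hgP => (hsw g hg hgP).2,
    fun g hg hgP h hh hhP => H.sw_mul F hS hPS hg hh (hn g hg) (hn h hh) hgP hhP⟩

end Hyp

end Cfsg.Agent.StdG24.F
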