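import Mathlib
import Cfsg.Agent.StdG24.F.LemD
import Cfsg.Agent.StdG24.F.CountOf
import Cfsg.Agent.StdG24.F.Syl

/-!
# Lemma F, Case I: the count
-/

set_option autoImplicit false

namespace Cfsg.Agent.StdG24.F.CaseOne

open Subgroup

variable {G : Type*} [Group G] {R A B : Subgroup G} {ρ b : G} (H : Hyp R A B ρ b)
include H

/-- a 2-element commuting with `x ∈ B#` centralises `B` -/
theorem comm_B [Finite G] (hmax : ∀ T : Subgroup G, IsPGroup 2 T → PP R B ≤ T → T = PP R B)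
    (hnormal : ∀ x ∈ B, x ≠ 1 → ∀ g, g * x = x * g → ∀ y ∈ B, g * y * g⁻¹ ∈ B) {t x : G} (hx : x ∈ B)
    (hx1 : x ≠ 1) {k : ℕ} (ht : t ^ 2 ^ k = 1) (hc : t * x = x * t) : ∀ y ∈ B, t * y = y * t := by
  have hT : IsPGroup 2 (zpowers t) := by
    rintro ⟨s, hs⟩
    obtain ⟨i, rfl⟩ := mem_zpowers_iff.1 hs
    refine ⟨k, Subtype.ext ?_⟩
    show (t ^ i) ^ 2 ^ k = 1
    rw [← zpow_natCast, ← zpow_mul, mul_comm, zpow_mul, zpow_natCast, ht, one_zpow]
  have hPN : PP R B ≤ normalizer (B : Set G) := by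
    intro p hp
    rw [mem_normalizer_iff]
    intro y
    constructor
    · intro hy
      rw [hp.1 y hy, mul_inv_cancel_right]
      exact hy
    · intro hy
      have h1 := hp.1 _ hy
      have h2 : y = p * y * p⁻¹ := by
        calc y = p⁻¹ * (p * y * p⁻¹ * p) := by group
          _ = p⁻¹ * (p * (p * y * p⁻¹)) := by rw [h1]
          _ = p * y * p⁻¹ := by group
      rw [h2]
      exact hy
  have htN : zpowers t ≤ normalizer (B : Set G) := by
    rw [zpowers_le]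
    apply CountFive.mem_normalizer_of_forall
    exact hnormal x hx hx1 t hc
  obtain ⟨n, hn, hnt⟩ := exists_conj_le H.isPGroup_PP hmax hPN hT htN
  have h1 := hnt t (mem_zpowers t)
  intro y hy
  have h2 : n * y * n⁻¹ ∈ B := (mem_normalizer_iff.1 hn y).1 hy
  have h3 := h1.1 _ h2
  calc t * y = n⁻¹ * (n * t * n⁻¹ * (n * y * n⁻¹)) * n := by group
    _ = n⁻¹ * (n * y * n⁻¹ * (n * t * n⁻¹)) * n := by rw [h3]
    _ = y * t := by group

theorem omega_eq [Finite G] (hmax : ∀ T : Subgroup G, IsPGroup 2 T → PP R B ≤ T → T = PP R B)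
    (htt : ∀ p ∈ PP R B, TT R p → ∃ r ∈ R, ∃ x ∈ B, p = r * x)
    (hnormal : ∀ x ∈ B, x ≠ 1 → ∀ g, g * x = x * g → ∀ y ∈ B, g * y * g⁻¹ ∈ B)
    (hD : ∀ i, (∀ x ∈ B, i * x = x * i) → i * i = 1 → i ∈ PP R B) {x : G} (hx : x ∈ B) (hx1 : x ≠ 1) :
    Nat.card {c : G ⧸ normalizer (R : Set G) // Count.Rel R A c x} = 4 := by
  have hrel : ∀ c : G ⧸ normalizer (R : Set G), Count.Rel R A c x ↔
      c ∈ MulAction.orbit (PP R B) ((1 : G) : G ⧸ normalizer (R : Set G)) := by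
    intro c
    obtain ⟨g, rfl⟩ := QuotientGroup.mk_surjective c
    rw [(CountOf.hyp H).rel_iff, MulAction.mem_orbit_iff]
    constructor
    · intro hg
      have hgx : ∀ r ∈ R, g * r * g⁻¹ * x = x * (g * r * g⁻¹) := by
        intro r hr
        have h1 := H.comm r hr _ hg
        calc g * r * g⁻¹ * x = g * (r * (g⁻¹ * x * g)) * g⁻¹ := by group
          _ = g * (g⁻¹ * x * g * r) * g⁻¹ := by rw [h1]
          _ = x * (g * r * g⁻¹) := by group
      obtain ⟨r, hr, hr1⟩ := H.exists_neR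
      have h2 : g * r * g⁻¹ * (g * r * g⁻¹) = 1 := by
        rw [show g * r * g⁻¹ * (g * r * g⁻¹) = g * (r * r) * g⁻¹ by group, H.sqR r hr]; group
      have h3 : g * r * g⁻¹ ∈ PP R B := by
        apply hD _ _ h2
        exact comm_B H hmax hnormal hx hx1 (k := 1) (by rw [pow_one, pow_two]; exact h2) (hgx r hr)
      have h4 : TT R (g * r * g⁻¹) := (H.tt_R hr hr1).conj' g
      obtain ⟨r', hr', y, hy, h5⟩ := htt _ h3 h4
      have hr'1 : r' ≠ 1 := by
        rintro rfl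
        rw [one_mul] at h5
        have hy1 : y ≠ 1 := by
          rintro rfl
          apply hr1
          rw [show r = g⁻¹ * (g * r * g⁻¹) * g by group, h5]; group
        rw [h5] at h4
        exact H.not_both h4 (H.xt_B hy hy1)
      obtain ⟨p, hp, h6⟩ := H.exists_PP hr' hr'1 hy
      refine ⟨⟨p, hp⟩, ?_⟩
      show ((p * 1 : G) : G ⧸ normalizer (R : Set G)) = g
      rw [mul_one, QuotientGroup.eq]
      apply CountFive.mem_normalizer_of_forall
      apply H.TI hr hr1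
      rw [show p⁻¹ * g * r * (p⁻¹ * g)⁻¹ = p⁻¹ * (g * r * g⁻¹) * p by group, h5, ← h6,
        show p⁻¹ * (p * r' * p⁻¹) * p = r' by group]
      exact hr'
    · rintro ⟨p, hp⟩
      have h1 : ((p : G) : G ⧸ normalizer (R : Set G)) = g := by
        rw [← hp]
        show ((p : G) : G ⧸ normalizer (R : Set G)) = (((p : G) * 1 : G) : G ⧸ normalizer (R : Set G))
        rw [mul_one]
      rw [← (CountOf.hyp H).rel_iff, ← h1, (CountOf.hyp H).rel_iff]
      have h2 := p.2.1 x hx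
      rw [mul_assoc, ← h2, inv_mul_cancel_left]
      exact H.B_le hx
  have h1 : Nat.card {c : G ⧸ normalizer (R : Set G) // Count.Rel R A c x} =
      (MulAction.orbit (PP R B) ((1 : G) : G ⧸ normalizer (R : Set G))).ncard := by
    rw [← Nat.card_coe_set_eq]
    exact Nat.card_congr (Equiv.subtypeEquivRight hrel)
  rw [h1, ← MulAction.index_stabilizer]
  have h2 : MulAction.stabilizer (PP R B) ((1 : G) : G ⧸ normalizer (R : Set G)) = H.EE.subgroupOf (PP R B) := by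
    ext p
    rw [MulAction.mem_stabilizer_iff, mem_subgroupOf]
    have h3 : p • ((1 : G) : G ⧸ normalizer (R : Set G)) = (((p : G) * 1 : G) : G ⧸ normalizer (R : Set G)) := rfl
    rw [h3, mul_one, eq_comm, QuotientGroup.eq, inv_one, one_mul]
    constructor
    · intro h4
      obtain ⟨r, hr, hr1⟩ := H.exists_neR
      have h5 : (p : G) * r * (p : G)⁻¹ * r⁻¹ = 1 :=
        H.disjB (mul_mem ((mem_normalizer_iff.1 h4 r).1 hr) (inv_mem hr)) (p.2.2 r hr)
      obtain ⟨r', hr', y, hy, h6⟩ := H.free p.2 hr hr1 (by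
        calc (p : G) * r = (p * r * (p : G)⁻¹ * r⁻¹) * r * p := by group
          _ = r * p := by rw [h5, one_mul])
      exact ⟨r', hr', y, hy, h6⟩
    · rintro ⟨r, hr, y, hy, h6⟩
      apply CountFive.mem_normalizer_of_forall
      intro s hs
      have h7 : (p : G) * s = s * p := by
        rw [h6]
        calc r * y * s = r * (y * s) := by group
          _ = r * s * y := by rw [← H.comm s hs y (H.B_le hy)]; group
          _ = s * (r * y) := by rw [H.commR hr hs]; group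
      rw [h7, mul_inv_cancel_right]
      exact hs
  have h3 := card_mul_index (H.EE.subgroupOf (PP R B))
  rw [Nat.card_congr (subgroupOfEquivOfLe H.EE_le).toEquiv, H.card_EE, H.card_PP] at h3
  rw [h2]
  omega

/-- `r ↦ [r, x₁]` is onto `B` for `x₁ ∈ P - E` -/
theorem exists_r {x₁ y : G} (hx₁ : x₁ ∈ PP R B) (hE : ¬ ∃ r ∈ R, ∃ x ∈ B, x₁ = r * x) (hy : y ∈ B) :
    ∃ r ∈ R, r * x₁ * r⁻¹ = x₁ * y := by
  have hmem : ∀ r ∈ R, r * x₁ * r⁻¹ * x₁⁻¹ ∈ B := by
    intro r hr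
    have h1 := inv_mem (hx₁.2 r hr)
    rwa [show (x₁ * r * x₁⁻¹ * r⁻¹)⁻¹ = r * x₁ * r⁻¹ * x₁⁻¹ by group] at h1
  let f : R → B := fun r => ⟨r * x₁ * (r : G)⁻¹ * x₁⁻¹, hmem r r.2⟩
  have hinj : Function.Injective f := by
    intro r r' h1
    have h2 : (r : G) * x₁ * (r : G)⁻¹ * x₁⁻¹ = r' * x₁ * (r' : G)⁻¹ * x₁⁻¹ := congrArg Subtype.val h1
    have h3 : (r : G) * x₁ * (r : G)⁻¹ = r' * x₁ * (r' : G)⁻¹ := mul_right_cancel h2
    have h4 : x₁ * ((r' : G)⁻¹ * r) = (r' : G)⁻¹ * r * x₁ := by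
      calc x₁ * ((r' : G)⁻¹ * r) = (r' : G)⁻¹ * (r' * x₁ * (r' : G)⁻¹) * r := by group
        _ = (r' : G)⁻¹ * (r * x₁ * (r : G)⁻¹) * r := by rw [h3]
        _ = (r' : G)⁻¹ * r * x₁ := by group
    have h5 : (r' : G)⁻¹ * r = 1 := by
      by_contra hne
      exact hE (H.free hx₁ (mul_mem (inv_mem r'.2) r.2) hne h4)
    exact Subtype.ext (inv_mul_eq_one.1 h5).symm
  have := H.finR
  have := H.finB
  have hb : Function.Bijective f := hinj.bijective_of_nat_card_le (by rw [H.cardB, H.cardR])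
  obtain ⟨r, hr⟩ := hb.2 ⟨y, hy⟩
  have h1 : (r : G) * x₁ * (r : G)⁻¹ * x₁⁻¹ = y := congrArg Subtype.val hr
  refine ⟨r, r.2, ?_⟩
  rw [hx₁.1 y hy, ← h1]; group

theorem beta_cases [Finite G] (hmax : ∀ T : Subgroup G, IsPGroup 2 T → PP R B ≤ T → T = PP R B)
    (hnormal : ∀ x ∈ B, x ≠ 1 → ∀ g, g * x = x * g → ∀ y ∈ B, g * y * g⁻¹ ∈ B)
    (hD : ∀ i, (∀ x ∈ B, i * x = x * i) → i * i = 1 → i ∈ PP R B) {t x : G} (ht : t ∈ R) (ht1 : t ≠ 1)
    (hx : x ∈ B) (hx1 : x ≠ 1) :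
    Nat.card {x₁ : G // Count.IsX A x₁ ∧ x ∈ zpowers (t * x₁)} = 0 ∨
      Nat.card {x₁ : G // Count.IsX A x₁ ∧ x ∈ zpowers (t * x₁)} = 4 := by
  have htt := H.sqR t ht
  have hxx := H.sqB hx
  have htP := H.R_le_PP ht
  have hkey : ∀ x₁, (Count.IsX A x₁ ∧ x ∈ zpowers (t * x₁)) ↔
      (Count.IsX A x₁ ∧ x₁ ∈ PP R B ∧ t * x₁ * (t * x₁) = x) := by
    intro x₁
    constructor
    · rintro ⟨h1, h2⟩
      obtain ⟨-, h3⟩ := Count.Hyp.z_comm htt h1.sq h2 hxx
      have h4 : x₁ ∈ PP R B := by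
        apply hD _ _ h1.sq
        exact comm_B H hmax hnormal hx hx1 (k := 1) (by rw [pow_one, pow_two]; exact h1.sq) h3.symm
      refine ⟨h1, h4, ?_⟩
      have hq : t * x₁ * (t * x₁) ∈ B := H.sqPP (mul_mem htP h4)
      set q := t * x₁ * (t * x₁) with hqdef
      have hqq := H.sqB hq
      obtain ⟨i, hi⟩ := mem_zpowers_iff.1 h2
      rcases Int.even_or_odd' i with ⟨j, hj | hj⟩
      · rw [hj, zpow_mul, zpow_two, ← hqdef] at hi
        rcases Int.even_or_odd' j with ⟨l, hl | hl⟩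
        · exfalso
          rw [hl, zpow_mul, zpow_two, hqq, one_zpow] at hi
          exact hx1 hi.symm
        · rw [hl, zpow_add, zpow_mul, zpow_two, hqq, one_zpow, one_mul, zpow_one] at hi
          exact hi
      · exfalso
        rw [hj, zpow_add, zpow_mul, zpow_two, ← hqdef, zpow_one] at hi
        have h5 : x₁ = t * ((q ^ j)⁻¹ * x) := by
          have h6 : t * x₁ = (q ^ j)⁻¹ * x := by rw [← hi]; group
          rw [← h6, ← mul_assoc, htt, one_mul]
        have h6 : TT R x₁ := by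
          rw [h5]
          exact H.tt_E ht ht1 (mul_mem (inv_mem (zpow_mem hq j)) hx)
        exact H.not_both h6 ((CountOf.isX_iff H x₁).1 h1)
    · rintro ⟨h1, h2, h3⟩
      refine ⟨h1, ?_⟩
      rw [← h3]
      exact mem_zpowers_iff.2 ⟨2, by rw [zpow_two]⟩
  by_cases hne : ∃ x₁, Count.IsX A x₁ ∧ x₁ ∈ PP R B ∧ t * x₁ * (t * x₁) = x
  · right
    obtain ⟨x₁, h1, h2, h3⟩ := hne
    rw [← H.cardB]
    symm
    have hxE : ∀ x₂, Count.IsX A x₂ → x₂ ∈ PP R B → t * x₂ * (t * x₂) = x →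
        ¬ ∃ r ∈ R, ∃ y ∈ B, x₂ = r * y := by
      rintro x₂ h1 h2 h3 ⟨r, hr, y, hy, h4⟩
      have hr1 : r = 1 := by
        by_contra hr1
        have h5 : TT R x₂ := by rw [h4]; exact H.tt_E hr hr1 hy
        exact H.not_both h5 ((CountOf.isX_iff H x₂).1 h1)
      rw [hr1, one_mul] at h4
      rw [h4] at h3
      apply hx1
      rw [← h3]
      have h5 := H.comm t ht y (H.B_le hy)
      calc t * y * (t * y) = t * (y * t) * y := by group
        _ = t * (t * y) * y := by rw [h5]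
        _ = (t * t) * (y * y) := by group
        _ = 1 := by rw [htt, H.sqB hy, one_mul]
    have hmem : ∀ y ∈ B, Count.IsX A (x₁ * y) ∧ x ∈ zpowers (t * (x₁ * y)) := by
      intro y hy
      rw [hkey]
      refine ⟨?_, mul_mem h2 (H.B_le_PP hy), ?_⟩
      · obtain ⟨r, hr, h4⟩ := exists_r H h2 (hxE x₁ h1 h2 h3) hy
        rw [← h4]
        exact h1.conj r
      · have h5 := (mul_mem htP h2).1 y hy
        calc t * (x₁ * y) * (t * (x₁ * y)) = t * x₁ * (y * (t * x₁)) * y := by group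
          _ = t * x₁ * (t * x₁ * y) * y := by rw [h5]
          _ = (t * x₁ * (t * x₁)) * (y * y) := by group
          _ = x := by rw [h3, H.sqB hy, mul_one]
    refine Nat.card_congr (Equiv.ofBijective (fun y : B => ⟨x₁ * y, hmem y y.2⟩) ⟨?_, ?_⟩)
    · intro y y' h4
      have h5 : x₁ * (y : G) = x₁ * y' := congrArg Subtype.val h4
      exact Subtype.ext (mul_left_cancel h5)
    · rintro ⟨x₂, hx₂⟩
      obtain ⟨g1, g2, g3⟩ := (hkey x₂).1 hx₂
      have hi₁ : x₁⁻¹ = x₁ := inv_eq_of_mul_eq_one_left h1.sq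
      have hi₂ : x₂⁻¹ = x₂ := inv_eq_of_mul_eq_one_left g1.sq
      have e1 : x₁ * t * x₁ = x₂ * t * x₂ := by
        calc x₁ * t * x₁ = (t * t) * x₁ * t * x₁ := by rw [htt, one_mul]
          _ = t * (t * x₁ * (t * x₁)) := by group
          _ = t * (t * x₂ * (t * x₂)) := by rw [h3, g3]
          _ = (t * t) * x₂ * t * x₂ := by group
          _ = x₂ * t * x₂ := by rw [htt, one_mul]
      have e2 : x₁⁻¹ * x₂ * t = t * (x₁⁻¹ * x₂) := by
        rw [hi₁]
        calc x₁ * x₂ * t = x₁ * (x₂ * t * x₂) * x₂⁻¹ := by group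
          _ = x₁ * (x₁ * t * x₁) * x₂ := by rw [← e1, hi₂]
          _ = (x₁ * x₁) * t * (x₁ * x₂) := by group
          _ = t * (x₁ * x₂) := by rw [h1.sq, one_mul]
      obtain ⟨r', hr', y, hy, e3⟩ := H.free (mul_mem (inv_mem h2) g2) ht ht1 e2
      have e4 : x₂ = x₁ * (r' * y) := by rw [← e3]; group
      have hr'1 : r' = 1 := by
        by_contra hr'1
        apply hxE x₁ h1 h2 h3
        apply H.free h2 hr' hr'1
        have e5 := g1.sq
        rw [e4] at e5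
        have e6 := (mul_mem h2 (H.R_le_PP hr')).1 y hy
        have e7 : x₁ * r' * (x₁ * r') = 1 := by
          calc x₁ * r' * (x₁ * r') = x₁ * r' * (x₁ * r') * (y * y) := by rw [H.sqB hy, mul_one]
            _ = x₁ * r' * (x₁ * r' * y) * y := by group
            _ = x₁ * r' * (y * (x₁ * r')) * y := by rw [e6]
            _ = x₁ * (r' * y) * (x₁ * (r' * y)) := by group
            _ = 1 := e5
        calc x₁ * r' = (x₁ * r')⁻¹ := eq_inv_of_mul_eq_one_left e7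
          _ = r'⁻¹ * x₁⁻¹ := mul_inv_rev _ _
          _ = r' * x₁ := by rw [hi₁, H.invR hr']
      refine ⟨⟨y, hy⟩, Subtype.ext ?_⟩
      show x₁ * y = x₂
      rw [e4, hr'1, one_mul]
  · left
    have : IsEmpty {x₁ : G // Count.IsX A x₁ ∧ x ∈ zpowers (t * x₁)} :=
      ⟨fun x₁ => hne ⟨x₁, (hkey x₁).1 x₁.2⟩⟩
    exact Nat.card_of_isEmpty

/-- an element of order 5 of `A` -/
theorem exists_five : ∃ w ∈ A, w ≠ 1 ∧ w ^ 5 = 1 := by
  obtain ⟨e⟩ := H.eA
  obtain ⟨h1, h2, h3, h4, h5, h6, h7, -⟩ := AutA5.gcd_facts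
  obtain ⟨w, hw⟩ := AutA5.exists_emb e 1 AutA5.u0 h7
  refine ⟨w, w.2, ?_, ?_⟩
  · intro h8
    apply h1
    rw [← hw, show w = 1 from Subtype.ext h8, map_one]
  · have h8 : w ^ 5 = 1 := AutA5.emb_injective e 1 (by rw [map_pow, hw, h2, map_one])
    exact congrArg Subtype.val h8

/-- **Case I** -/
theorem caseOne_count [Finite G] (hmax : ∀ T : Subgroup G, IsPGroup 2 T → PP R B ≤ T → T = PP R B)
    (htt : ∀ p ∈ PP R B, TT R p → ∃ r ∈ R, ∃ x ∈ B, p = r * x)
    (hnormal : ∀ x ∈ B, x ≠ 1 → ∀ g, g * x = x * g → ∀ y ∈ B, g * y * g⁻¹ ∈ B)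
    (hD : ∀ i, (∀ x ∈ B, i * x = x * i) → i * i = 1 → i ∈ PP R B) : False := by
  obtain ⟨w, hw, w1, w5⟩ := exists_five H
  obtain ⟨t, ht, ht1⟩ := H.exists_neR
  obtain ⟨x, hx, hx1⟩ := H.exists_neB
  have h1 := (CountOf.hyp H).card_X ht ht1 (H.B_le hx) hx1 (H.sqB hx)
  have h2 := (CountOf.hyp H).card_pairs (H.B_le hx) hx1 (H.sqB hx)
  rw [omega_eq H hmax htt hnormal hD hx hx1] at h2
  have h3 := CountFive.index_mod (CountOf.hyp H) hw w1 w5
  rcases beta_cases H hmax hnormal hD ht ht1 hx hx1 with h4 | h4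
  · rw [h4] at h1
    rw [h1] at h2
    omega
  · rw [h4] at h1
    rw [h1] at h2
    omega

end Cfsg.Agent.StdG24.F.CaseOne
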