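import Mathlib
import Cfsg.Agent.StdG24.F.CaseI
import Cfsg.Agent.StdG24.F.CaseOne

/-!
# Lemma F: `P` is not a Sylow 2-subgroup
-/

set_option autoImplicit false

namespace Cfsg.Agent.StdG24.F.CaseOneEnd

open Subgroup

variable {G : Type*} [Group G] {R A B : Subgroup G} {ρ b : G} (H : Hyp R A B ρ b)
include H

/-- **Case I**: `P` is not a Sylow 2-subgroup of `G`. -/
theorem not_max [Finite G] (hmax : ∀ T : Subgroup G, IsPGroup 2 T → PP R B ≤ T → T = PP R B) : False := by
  refine CaseOne.caseOne_count H hmax (H.caseI_tt hmax) (H.caseI_normal hmax) (fun i hi hii => ?_)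
  refine LemD.lemD H hmax (fun n hn hnP r hr => ?_) hi hii
  exact H.caseI_noswap hmax n hnP r ⟨r, hr, 1, B.one_mem, by rw [mul_one]⟩

end Cfsg.Agent.StdG24.F.CaseOneEnd
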