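import Mathlib
import Cfsg.Agent.StdG24.F.CountOf
import Cfsg.Agent.StdG24.F.Syl

/-!
# Lemma F, Case II.1: the count (`P` acts on the 195 elements of type `x`)
-/

set_option autoImplicit false

namespace Cfsg.Agent.StdG24.F.CaseTwoOne

open Subgroup Cfsg.Agent.J2Sylow.Model Cfsg.Agent.StdAlt.Five

theorem count24 : Fintype.card {q : F4 × F4 × F4 // (q.1 = 0 ∨ q.2.1 = 0) ∧ ¬ (q.1 = 0 ∧ q.2.1 = 0)} = 24 := by
  decide +kernel

variable {G : Type*} [Group G] {R A B : Subgroup G} {ρ b : G} (H : Hyp R A B ρ b)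
include H

/-- `β = 0` -/
theorem beta_zero (hBx : ∀ x ∈ B, x ≠ 1 → ∀ i, XT B i → i * x = x * i → i ∈ B) {t x : G} (ht : t ∈ R)
    (ht1 : t ≠ 1) (hx : x ∈ B) (hx1 : x ≠ 1) : IsEmpty {x₁ : G // Count.IsX A x₁ ∧ x ∈ zpowers (t * x₁)} := by
  refine ⟨?_⟩
  rintro ⟨x₁, h1, h2⟩
  have htt := H.sqR t ht
  obtain ⟨-, h3⟩ := Count.Hyp.z_comm htt h1.sq h2 (H.sqB hx)
  have h4 := hBx x hx hx1 x₁ ((CountOf.isX_iff H x₁).1 h1) h3.symm
  have h5 : t * x₁ * (t * x₁) = 1 := by
    calc t * x₁ * (t * x₁) = t * (x₁ * t) * x₁ := by group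
      _ = t * (t * x₁) * x₁ := by rw [← H.comm t ht x₁ (H.B_le h4)]
      _ = (t * t) * (x₁ * x₁) := by group
      _ = 1 := by rw [htt, h1.sq, one_mul]
  obtain ⟨i, hi⟩ := mem_zpowers_iff.1 h2
  rcases Int.even_or_odd' i with ⟨j, hj | hj⟩
  · rw [hj, zpow_mul, zpow_two, h5, one_zpow] at hi
    exact hx1 hi.symm
  · rw [hj, zpow_add, zpow_mul, zpow_two, h5, one_zpow, one_mul, zpow_one] at hi
    have h6 : x * x₁ ∈ R := by
      rw [← hi]
      have : t * x₁ * x₁ = t := by rw [mul_assoc, h1.sq, mul_one]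
      rw [this]; exact ht
    have h7 := H.disjB h6 (mul_mem hx h4)
    apply ht1
    rw [← h7, ← hi, mul_assoc, h1.sq, mul_one]

theorem card_XT [Finite G] (hBx : ∀ x ∈ B, x ≠ 1 → ∀ i, XT B i → i * x = x * i → i ∈ B) :
    Nat.card {x : G // XT B x} = 195 := by
  obtain ⟨t, ht, ht1⟩ := H.exists_neR
  obtain ⟨x, hx, hx1⟩ := H.exists_neB
  have h1 := (CountOf.hyp H).card_X ht ht1 (H.B_le hx) hx1 (H.sqB hx)
  have := beta_zero H hBx ht ht1 hx hx1
  have h2 : Nat.card {x₁ : G // Count.IsX A x₁ ∧ x ∈ zpowers (t * x₁)} = 0 := Nat.card_of_isEmpty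
  rw [h2] at h1
  rw [← show 195 + 15 * 0 = 195 by norm_num, ← h1]
  exact Nat.card_congr (Equiv.subtypeEquivRight fun y => (CountOf.isX_iff H y).symm)

theorem fix_TT [Finite G] {g : G} (hg : TT R g) : Nat.card {x : G // XT B x ∧ g * x = x * g} = 15 := by
  obtain ⟨e⟩ := H.eA
  obtain ⟨r, hr, hr1, h1⟩ := hg
  obtain ⟨k, rfl⟩ := isConj_iff.1 h1
  have h2 : Nat.card {x : G // XT B x ∧ r * x = x * r} =
      Nat.card {x : G // XT B x ∧ k * r * k⁻¹ * x = x * (k * r * k⁻¹)} := by
    apply Count.Hyp.card_conj k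
    intro x
    apply and_congr
    · constructor
      · exact fun h => h.conj' k
      · intro h
        have h3 := h.conj' k⁻¹
        rwa [inv_inv, show k⁻¹ * (k * x * k⁻¹) * k = x by group] at h3
    · constructor
      · intro h
        calc k * r * k⁻¹ * (k * x * k⁻¹) = k * (r * x) * k⁻¹ := by group
          _ = k * (x * r) * k⁻¹ := by rw [h]
          _ = _ := by group
      · intro h
        calc r * x = k⁻¹ * (k * r * k⁻¹ * (k * x * k⁻¹)) * k := by group
          _ = k⁻¹ * (k * x * k⁻¹ * (k * r * k⁻¹)) * k := by rw [h]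
          _ = x * r := by group
  rw [← h2, ← A5Count.card_inv e]
  refine Nat.card_congr ⟨fun x => ⟨⟨x, ?_⟩, ?_, ?_⟩, fun y => ⟨(y : A), ?_, ?_⟩, fun x => rfl, fun y => rfl⟩
  · exact (CountOf.hyp H).mem_A_of_comm hr hr1 ((CountOf.isX_iff H x).2 x.2.1) x.2.2.symm
  · intro h3
    exact ((CountOf.isX_iff H x).2 x.2.1).ne_one (congrArg Subtype.val h3)
  · exact Subtype.ext ((CountOf.isX_iff H x).2 x.2.1).sq
  · exact H.xt_A (y : A).2 (fun h3 => y.2.1 (Subtype.ext h3)) (congrArg Subtype.val y.2.2)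
  · exact H.comm r hr (y : A) (y : A).2

theorem fix_else [Finite G] (hBx : ∀ x ∈ B, x ≠ 1 → ∀ i, XT B i → i * x = x * i → i ∈ B) {g x : G}
    (hg : g ∈ PP R B) (hx : x ∈ B) (hx1 : x ≠ 1) (hgx : ∀ y, g * y = y * g → x * y = y * x) :
    Nat.card {y : G // XT B y ∧ g * y = y * g} = 3 := by
  have h1 : Nat.card {y : G // XT B y ∧ g * y = y * g} = Nat.card {y : B // y ≠ 1} := by
    refine Nat.card_congr ⟨fun y => ⟨⟨y, ?_⟩, ?_⟩, fun y => ⟨(y : B), ?_, ?_⟩, fun y => rfl, fun y => rfl⟩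
    · exact hBx x hx hx1 y y.2.1 (hgx y y.2.2).symm
    · intro h3
      exact ((CountOf.isX_iff H y).2 y.2.1).ne_one (congrArg Subtype.val h3)
    · exact H.xt_B (y : B).2 (fun h3 => y.2 (Subtype.ext h3))
    · exact hg.1 (y : B) (y : B).2
  rw [h1]
  have := H.finB
  classical
  have := Fintype.ofFinite B
  have h2 : Nat.card {y : B // y ≠ 1} = Nat.card B - 1 := by
    rw [Nat.card_eq_fintype_card, Nat.card_eq_fintype_card]
    have h3 := Fintype.card_subtype_compl (fun y : B => y = 1)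
    rw [Fintype.card_subtype_eq] at h3
    exact h3
  rw [h2, H.cardB]

/-- the elements of type `t` of `P` -/
theorem card_TT [Finite G] {X Y Z : F4 → G} (F : Coord.Frame R B (PP R B) ρ 0 X Y Z)
    (hQ : ∀ b c, b ≠ 0 → TT R (Y b * Z c)) : Nat.card {p : PP R B // TT R (p : G)} = 24 := by
  have hiff : ∀ b a c, TT R (Y b * X a * Z c) ↔ (b = 0 ∨ a = 0) ∧ ¬ (b = 0 ∧ a = 0) := by
    intro b a c
    constructor
    · intro h1
      have h2 : (Y b * X a * Z c) * (Y b * X a * Z c) = 1 := by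
        obtain ⟨r, hr, hr1, h3⟩ := h1
        obtain ⟨k, hk⟩ := isConj_iff.1 h3
        rw [← hk, show k * r * k⁻¹ * (k * r * k⁻¹) = k * (r * r) * k⁻¹ by group, H.sqR r hr]; group
      have h3 := frame_inv H.data F h2
      refine ⟨h3, ?_⟩
      rintro ⟨rfl, rfl⟩
      rw [F.Y_zero, F.X_zero, one_mul, one_mul] at h1
      by_cases hc : Z c = 1
      · rw [hc] at h1
        obtain ⟨r, hr, hr1, h3⟩ := h1
        obtain ⟨k, hk⟩ := isConj_iff.1 h3
        apply hr1
        rw [show r = k⁻¹ * (k * r * k⁻¹) * k by group, hk]; group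
      · exact H.not_both h1 (H.xt_B (F.Z_mem c) hc)
    · rintro ⟨rfl | rfl, h2⟩
      · have ha : a ≠ 0 := fun h => h2 ⟨rfl, h⟩
        rw [F.Y_zero, one_mul]
        apply H.tt_E (F.X_mem a) _ (F.Z_mem c)
        intro h3
        apply ha
        have h4 : Y 0 * X a * Z 0 = Y 0 * X 0 * Z 0 := by rw [h3, F.X_zero]
        exact (F.inj _ _ _ _ _ _ h4).2.1
      · have hb : b ≠ 0 := fun h => h2 ⟨h, rfl⟩
        rw [F.X_zero, mul_one]
        exact hQ b c hb
  rw [← count24, ← Nat.card_eq_fintype_card]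
  symm
  refine Nat.card_congr (Equiv.ofBijective (fun q => ⟨⟨Y q.1.1 * X q.1.2.1 * Z q.1.2.2, ?_⟩, ?_⟩) ⟨?_, ?_⟩)
  · exact mul_mem (mul_mem (F.Y_mem _) (H.R_le_PP (F.X_mem _))) (H.B_le_PP (F.Z_mem _))
  · exact (hiff _ _ _).2 q.2
  · rintro ⟨⟨b, a, c⟩, h1⟩ ⟨⟨b', a', c'⟩, h1'⟩ h2
    have h3 : Y b * X a * Z c = Y b' * X a' * Z c' := congrArg (fun p : {p : PP R B // TT R (p : G)} => ((p : PP R B) : G)) h2
    obtain ⟨rfl, rfl, rfl⟩ := F.inj _ _ _ _ _ _ h3
    rfl
  · rintro ⟨⟨p, hp⟩, h1⟩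
    obtain ⟨b, a, c, rfl⟩ := F.P_surj p hp
    exact ⟨⟨⟨b, a, c⟩, (hiff b a c).1 h1⟩, rfl⟩

/-- **Case II.1** -/
theorem caseTwo_one [Finite G] {X Y Z : F4 → G} (F : Coord.Frame R B (PP R B) ρ 0 X Y Z)
    (hQ : ∀ b c, b ≠ 0 → TT R (Y b * Z c))
    (hBx : ∀ x ∈ B, x ≠ 1 → ∀ i, XT B i → i * x = x * i → i ∈ B) : False := by
  classical
  -- the fixed points
  have hfix : ∀ g : PP R B, Nat.card {x : G // XT B x ∧ (g : G) * x = x * g} =
      if g = 1 then 195 else if TT R (g : G) then 15 else 3 := by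
    intro g
    split_ifs with h1 h2
    · rw [h1, ← card_XT H hBx]
      exact Nat.card_congr (Equiv.subtypeEquivRight fun x => ⟨fun h => h.1, fun h => ⟨h, by
        show (1 : G) * x = x * 1
        rw [one_mul, mul_one]⟩⟩)
    · exact fix_TT H h2
    · by_cases hgg : (g : G) * g = 1
      · have hgB : (g : G) ∈ B := by
          obtain ⟨b, a, c, h3⟩ := F.P_surj g g.2
          rw [h3] at hgg h2
          rcases frame_inv H.data F hgg with rfl | rfl
          · have ha : a = 0 := by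
              by_contra ha
              apply h2
              rw [F.Y_zero, one_mul]
              apply H.tt_E (F.X_mem a) _ (F.Z_mem c)
              intro h4
              apply ha
              have h5 : Y 0 * X a * Z 0 = Y 0 * X 0 * Z 0 := by rw [h4, F.X_zero]
              exact (F.inj _ _ _ _ _ _ h5).2.1
            rw [h3, ha, F.Y_zero, F.X_zero, one_mul, one_mul]
            exact F.Z_mem c
          · have hb : b = 0 := by
              by_contra hb
              apply h2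
              rw [F.X_zero, mul_one]
              exact hQ b c hb
            rw [h3, hb, F.Y_zero, F.X_zero, one_mul, one_mul]
            exact F.Z_mem c
        exact fix_else H hBx g.2 hgB (fun h3 => h1 (Subtype.ext h3)) (fun y hy => hy)
      · refine fix_else H hBx g.2 (H.sqPP g.2) hgg (fun y hy => ?_)
        have h3 : Commute (g : G) y := hy
        exact (h3.mul_left h3).eq
  -- the action
  let Ω := {x : G // XT B x}
  let _ : MulAction (PP R B) Ω :=
    { smul := fun g x => ⟨(g : G) * x * (g : G)⁻¹, x.2.conj' g⟩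
      one_smul := fun x => Subtype.ext (by
        show ((1 : PP R B) : G) * (x : G) * ((1 : PP R B) : G)⁻¹ = x
        simp)
      mul_smul := fun g h x => Subtype.ext (by
        show ((g * h : PP R B) : G) * (x : G) * ((g * h : PP R B) : G)⁻¹ = g * (h * x * (h : G)⁻¹) * (g : G)⁻¹
        rw [Subgroup.coe_mul]; group) }
  have hsm : ∀ (g : PP R B) (x : Ω), ((g • x : Ω) : G) = g * x * (g : G)⁻¹ := fun g x => rfl
  have := Fintype.ofFinite (PP R B)
  have : Finite Ω := inferInstance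
  have hf : ∀ g : PP R B, Fintype (MulAction.fixedBy Ω g) := fun g => Fintype.ofFinite _
  have : Fintype (Quotient (MulAction.orbitRel (PP R B) Ω)) := Fintype.ofFinite _
  have hB := MulAction.sum_card_fixedBy_eq_card_orbits_mul_card_group (PP R B) Ω
  have h64 : Fintype.card (PP R B) = 64 := by rw [← Nat.card_eq_fintype_card, H.card_PP]
  have hfix' : ∀ g : PP R B, Fintype.card (MulAction.fixedBy Ω g) =
      if g = 1 then 195 else if TT R (g : G) then 15 else 3 := by
    intro g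
    rw [← hfix g, ← Nat.card_eq_fintype_card]
    refine Nat.card_congr ⟨fun x => ⟨(x : Ω), (x : Ω).2, ?_⟩, fun x => ⟨⟨x, x.2.1⟩, ?_⟩, fun x => rfl, fun x => rfl⟩
    · have h1 : g • (x : Ω) = x := x.2
      have h2 := congrArg (fun y : Ω => (y : G)) h1
      simp only [hsm] at h2
      exact mul_inv_eq_iff_eq_mul.1 h2
    · show g • (⟨(x : G), x.2.1⟩ : Ω) = ⟨x, x.2.1⟩
      apply Subtype.ext
      rw [hsm]
      show (g : G) * x * (g : G)⁻¹ = x
      rw [x.2.2, mul_inv_cancel_right]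
  rw [Finset.sum_congr rfl (fun g _ => hfix' g), h64] at hB
  have hsum : ∑ g : PP R B, (if g = 1 then 195 else if TT R (g : G) then 15 else 3) = 672 := by
    have h1 : ∀ g : PP R B, (if g = 1 then 195 else if TT R (g : G) then 15 else 3) =
        3 + (if TT R (g : G) then 12 else 0) + (if g = 1 then 192 else 0) := by
      intro g
      by_cases h1 : g = 1
      · have h2 : ¬ TT R (g : G) := by
          rw [h1]
          rintro ⟨r, hr, hr1, h3⟩
          obtain ⟨k, hk⟩ := isConj_iff.1 h3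
          apply hr1
          rw [show r = k⁻¹ * (k * r * k⁻¹) * k by group, hk]
          simp
        rw [if_pos h1, if_neg h2, if_pos h1]
      · rw [if_neg h1, if_neg h1]
        split_ifs <;> rfl
    rw [Finset.sum_congr rfl (fun g _ => h1 g), Finset.sum_add_distrib, Finset.sum_add_distrib, Finset.sum_const,
      Finset.card_univ, h64, Finset.sum_ite_eq' Finset.univ (1 : PP R B), ← Finset.sum_filter, Finset.sum_const]
    have h2 : (Finset.univ.filter fun g : PP R B => TT R (g : G)).card = 24 := by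
      rw [← card_TT H F hQ, Nat.card_eq_fintype_card, Fintype.card_subtype]
    rw [h2]
    simp
  rw [hsum] at hB
  omega

end Cfsg.Agent.StdG24.F.CaseTwoOne
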