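import Cfsg.Agent.J2Sylow.Model

/-!
# Lemma F, case II.3: facts about the group `T` of order 128
-/

set_option autoImplicit false

namespace Cfsg.Agent.StdG24.F.M3

open Cfsg.Agent.J2Sylow.Model Cfsg.Agent.J2Sylow.Model.T

theorem conj_Q : ∀ t u : T, t.b = F4.fr t.a → u.b = F4.fr u.a →
    t * u * t⁻¹ = u ∨ t * u * t⁻¹ = u * z := by decide +kernel

theorem v_conj : ∃ g : T, g * v * g⁻¹ = v * z := by decide +kernel

theorem z_comm₂ : ∃ c1 c2 : T, c1 * tau = tau * c1 ∧ c2 * tau = tau * c2 ∧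
    c1 * c2 * c1⁻¹ * c2⁻¹ = z := by decide +kernel

theorem sq_ne : ∃ g : T, (g * tau * g⁻¹ * tau⁻¹) * (g * tau * g⁻¹ * tau⁻¹) ≠ 1 := by
  decide +kernel

theorem count10 : Fintype.card {t : T // t ≠ 1 ∧ t ≠ z ∧ (t ∈ U ∨ (t.s = true ∧ t * t = 1))} = 10 := by
  rw [Fintype.card_subtype]
  decide +kernel

theorem dec : ∀ a b c : F4, ∃ c' : F4, (⟨a, b, c, false⟩ : T) =
    ⟨a, F4.o, F4.o, false⟩ * (tau * ⟨F4.fr b, F4.o, F4.o, false⟩ * tau) * ⟨F4.o, F4.o, c', false⟩ := by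
  decide +kernel

theorem zc : ∀ c : F4, (⟨F4.o, F4.o, c, false⟩ : T) =
    (tau * ⟨F4.e, F4.o, F4.o, false⟩ * tau) * ⟨c, F4.o, F4.o, false⟩ *
      (tau * ⟨F4.e, F4.o, F4.o, false⟩ * tau)⁻¹ * (⟨c, F4.o, F4.o, false⟩ : T)⁻¹ := by
  decide +kernel

theorem dec2 : ∀ t : T, t.s = true → t = ⟨t.a, t.b, t.c, false⟩ * tau := by decide +kernel

theorem dec_U : ∀ t : T, t ∈ U → t = ⟨F4.o, F4.o, t.c, false⟩ := by decide +kernel

theorem z_ne : (z : T) ≠ 1 := by decide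
theorem v_ne : (v : T) ≠ 1 := by decide
theorem z_mem : z ∈ U := by decide
theorem tau_sq : tau * tau = (1 : T) := by decide
theorem U_Q : ∀ t : T, t ∈ U → t.b = F4.fr t.a := by decide +kernel

end Cfsg.Agent.StdG24.F.M3
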