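import Cfsg.Agent.StdG24.F.CaseII
import Cfsg.Agent.StdG24.F.CaseThreeModel
import Cfsg.Agent.StdAlt.Five.Swap

/-!
# Lemma F, case II.3: the semilinear swap
(blueprints/S1767-F.md, helper393)
-/

set_option autoImplicit false

namespace Cfsg.Agent.StdG24.F

open Subgroup Cfsg.Agent.J2Sylow.Model Cfsg.Agent.StdAlt.Five

/-- data of case II.3 -/
structure Three {G : Type*} [Group G] (R A B : Subgroup G) (ρ b : G) (S : Subgroup G)
    (X Y Z : F4 → G) (φ : T →* G) : Prop where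
  two : Two R A B ρ b S X Y Z
  inj : Function.Injective φ
  mem : ∀ t, φ t ∈ S
  surj : ∀ g ∈ S, ∃ t, φ t = g
  memP : ∀ t : T, φ t ∈ PP R B ↔ t.s = false
  memB : ∀ t : T, φ t ∈ B ↔ t ∈ T.U
  xt : XT B (φ T.tau)

theorem XT.sq {G : Type*} [Group G] {R A B : Subgroup G} {ρ b : G} (H : Hyp R A B ρ b) {g : G}
    (h : XT B g) : g * g = 1 := by
  obtain ⟨x, hx, hx1, hc⟩ := h
  obtain ⟨k, rfl⟩ := isConj_iff.1 hc
  calc k * x * k⁻¹ * (k * x * k⁻¹) = k * (x * x) * k⁻¹ := by group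
    _ = 1 := by rw [H.sqB hx]; group

theorem XT.ne_one {G : Type*} [Group G] {B : Subgroup G} {g : G} (h : XT B g) : g ≠ 1 := by
  rintro rfl
  obtain ⟨x, hx, hx1, hc⟩ := h
  exact hx1 (isConj_one_left.1 hc)

theorem Two.exists_three {G : Type*} [Group G] [Finite G] {R A B : Subgroup G} {ρ b : G}
    {S : Subgroup G} {X Y Z : F4 → G} (W : Two R A B ρ b S X Y Z) {s : G} (hs : s ∈ S)
    (hsP : s ∉ PP R B) (hxt : XT B s) (hsB : ¬ ∀ x ∈ B, s * x = x * s) :
    ∃ φ : T →* G, Three R A B ρ b S X Y Z φ := by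
  have H := W.hyp
  have hsq : s * s = 1 := XT.sq H hxt
  have hsi : s⁻¹ = s := inv_eq_of_mul_eq_one_left hsq
  have hsw := W.sw s hs hsP
  have SW : Swap.IsSwap R B X Y Z s :=
    { sq := hsq
      tX := fun a => by
        obtain ⟨b', c, h⟩ := hsw.RQ _ (W.frame.X_mem a)
        rw [hsi] at h
        exact ⟨b', c, h⟩
      tY := fun b' => by
        obtain ⟨r, hr, x, hx, h⟩ := hsw.QE b'
        obtain ⟨a, rfl⟩ := W.frame.X_surj r hr
        obtain ⟨c, rfl⟩ := W.frame.Z_surj x hx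
        rw [hsi] at h
        exact ⟨a, c, h⟩
      tZ := fun c => by
        have h := hsw.BB _ (W.frame.Z_mem c)
        rw [hsi] at h
        obtain ⟨c', hc'⟩ := W.frame.Z_surj _ h
        exact ⟨c', hc'.symm⟩ }
  have hne : ∃ c, s * Z c * s ≠ Z c := by
    by_contra hcon
    push Not at hcon
    apply hsB
    intro x hx
    obtain ⟨c, rfl⟩ := W.frame.Z_surj x hx
    have := hcon c
    calc s * Z c = s * Z c * (s * s) := by rw [hsq, mul_one]
      _ = (s * Z c * s) * s := by group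
      _ = Z c * s := by rw [this]
  obtain ⟨φ, hinj, hrange, htau, hX, hBs⟩ := Swap.exists_hom H.data W.frame SW hne
  have hp : ∀ a, s * X a * s ∈ PP R B := by
    intro a
    have := W.nP s hs _ (H.R_le_PP (W.frame.X_mem a))
    rwa [hsi] at this
  have hBf : ∀ c : F4, φ ⟨F4.o, F4.o, c, false⟩ ∈ B := by
    intro c
    rw [M3.zc c, map_mul, map_mul, map_mul, map_inv, map_inv, map_mul, map_mul, htau]
    have e1 : φ ⟨F4.e, F4.o, F4.o, false⟩ = X F4.e := hX F4.e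
    have e2 : φ ⟨c, F4.o, F4.o, false⟩ = X c := hX c
    rw [e1, e2]
    exact (hp F4.e).2 _ (W.frame.X_mem c)
  have hPf : ∀ a b c : F4, φ ⟨a, b, c, false⟩ ∈ PP R B := by
    intro a b' c
    obtain ⟨c', hc'⟩ := M3.dec a b' c
    rw [hc', map_mul, map_mul, map_mul, map_mul, htau]
    have e1 : φ ⟨F4.fr b', F4.o, F4.o, false⟩ = X (F4.fr b') := hX _
    have e2 : φ ⟨a, F4.o, F4.o, false⟩ = X a := hX a
    rw [e1, e2]
    exact (PP R B).mul_mem ((PP R B).mul_mem (H.R_le_PP (W.frame.X_mem a)) (hp _))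
      (H.B_le_PP (hBf c'))
  refine ⟨φ, W, hinj, ?_, ?_, ?_, ?_, by rw [htau]; exact hxt⟩
  · intro t
    rcases (hrange (φ t)).1 ⟨t, rfl⟩ with h | h
    · exact W.le h
    · have h1 := S.mul_mem (W.le h) hs
      rwa [mul_assoc, hsq, mul_one] at h1
  · intro g hg
    by_cases h : g ∈ PP R B
    · exact (hrange g).2 (Or.inl h)
    · exact (hrange g).2 (Or.inr (W.idx g hg h s hs hsP))
  · intro t
    constructor
    · intro h
      by_contra hs'
      have hs2 : t.s = true := by simpa using hs'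
      have h1 := M3.dec2 t hs2
      rw [h1, map_mul, htau] at h
      apply hsP
      have h2 := (PP R B).mul_mem ((PP R B).inv_mem (hPf t.a t.b t.c)) h
      rwa [inv_mul_cancel_left] at h2
    · intro h
      have h1 : t = ⟨t.a, t.b, t.c, false⟩ := by
        obtain ⟨a, b', c, s'⟩ := t
        change s' = false at h
        rw [h]
      rw [h1]
      exact hPf _ _ _
  · intro t
    constructor
    · intro h
      obtain ⟨c, hc⟩ := hBs _ h
      rw [← hinj hc]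
      exact ⟨rfl, rfl, rfl⟩
    · intro h
      rw [M3.dec_U t h]
      exact hBf _

/-- conjugates of Sylow 2-subgroups -/
theorem max_conj {G : Type*} [Group G] {S : Subgroup G}
    (hmax : ∀ T : Subgroup G, IsPGroup 2 T → S ≤ T → T = S) (k : G) :
    ∀ T : Subgroup G, IsPGroup 2 T → S.map (MulAut.conj k).toMonoidHom ≤ T →
      T = S.map (MulAut.conj k).toMonoidHom := by
  intro T hT hle
  have h1 := hmax (T.map (MulAut.conj k⁻¹).toMonoidHom) (hT.map _) (by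
    intro p hp
    refine ⟨k * p * k⁻¹, hle ⟨p, hp, rfl⟩, ?_⟩
    change k⁻¹ * (k * p * k⁻¹) * k⁻¹⁻¹ = p
    group)
  apply le_antisymm _ hle
  intro t ht
  refine ⟨k⁻¹ * t * k, ?_, ?_⟩
  · rw [← h1]
    exact ⟨t, ht, by change k⁻¹ * t * k⁻¹⁻¹ = _; group⟩
  · change k * (k⁻¹ * t * k) * k⁻¹ = t
    group

theorem F4_aux : ∀ c0 c d : F4, c0 ≠ 0 → c ≠ 0 → c ≠ c0 → d ≠ 0 → d ≠ c0 → d = c ∨ d = c + c0 := by
  decide +kernel

/-- the group of all `g` with `[g,x] = 1` and `[g,y] ∈ ⟨x⟩` -/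
def MX {G : Type*} [Group G] (x y : G) (hx : x * x = 1) : Subgroup G where
  carrier := {g | g * x = x * g ∧ (g * y * g⁻¹ = y ∨ g * y * g⁻¹ = y * x)}
  one_mem' := ⟨by simp, Or.inl (by simp)⟩
  mul_mem' := by
    rintro g h ⟨hg1, hg2⟩ ⟨hh1, hh2⟩
    refine ⟨?_, ?_⟩
    · calc g * h * x = g * (h * x) := by group
        _ = g * x * h := by rw [hh1]; group
        _ = x * (g * h) := by rw [hg1]; group
    · have e : ∀ u, g * h * u * (g * h)⁻¹ = g * (h * u * h⁻¹) * g⁻¹ := fun u => by group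
      have e2 : g * (y * x) * g⁻¹ = (g * y * g⁻¹) * x := by
        calc g * (y * x) * g⁻¹ = (g * y * g⁻¹) * (g * x) * g⁻¹ := by group
          _ = (g * y * g⁻¹) * x := by rw [hg1]; group
      rw [e]
      rcases hh2 with h2 | h2 <;> rw [h2]
      · exact hg2
      · rw [e2]
        rcases hg2 with h3 | h3 <;> rw [h3]
        · exact Or.inr rfl
        · left; rw [mul_assoc, hx, mul_one]
  inv_mem' := by
    rintro g ⟨hg1, hg2⟩
    have hg3 : g⁻¹ * x = x * g⁻¹ := by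
      calc g⁻¹ * x = g⁻¹ * (x * g) * g⁻¹ := by group
        _ = x * g⁻¹ := by rw [← hg1]; group
    refine ⟨hg3, ?_⟩
    rcases hg2 with h | h
    · left
      calc g⁻¹ * y * g⁻¹⁻¹ = g⁻¹ * (g * y * g⁻¹) * g⁻¹⁻¹ := by rw [h]
        _ = y := by group
    · right
      have h1 : g⁻¹ * y * g * x = y := by
        calc g⁻¹ * y * g * x = g⁻¹ * y * (g * x) := by group
          _ = g⁻¹ * (y * x) * g := by rw [hg1]; group
          _ = g⁻¹ * (g * y * g⁻¹) * g := by rw [h]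
          _ = y := by group
      calc g⁻¹ * y * g⁻¹⁻¹ = g⁻¹ * y * g * (x * x) := by rw [hx, mul_one, inv_inv]
        _ = g⁻¹ * y * g * x * x := by group
        _ = y * x := by rw [h1]

theorem mem_MX {G : Type*} [Group G] {x y : G} {hx : x * x = 1} {g : G} :
    g ∈ MX x y hx ↔ g * x = x * g ∧ (g * y * g⁻¹ = y ∨ g * y * g⁻¹ = y * x) := Iff.rfl

/-- the group generated by the elements of type x in `S` -/
def RR {G : Type*} [Group G] (S B : Subgroup G) : Subgroup G := closure {g | g ∈ S ∧ XT B g}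

namespace Three

variable {G : Type*} [Group G] [Finite G] {R A B : Subgroup G} {ρ b : G} {S : Subgroup G}
  {X Y Z : F4 → G} {φ : T →* G} (K : Three R A B ρ b S X Y Z φ)
include K

theorem xt_iff (t : T) : XT B (φ t) ↔ t ≠ 1 ∧ (t ∈ T.U ∨ (t.s = true ∧ t * t = 1)) := by
  constructor
  · intro h
    have hsq : φ t * φ t = 1 := XT.sq K.two.hyp h
    have ht1 : t ≠ 1 := by
      rintro rfl
      exact h.ne_one (map_one φ)
    refine ⟨ht1, ?_⟩
    by_cases hs : t.s = false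
    · left
      exact (K.memB t).1 (K.two.xt_P ((K.memP t).2 hs) h)
    · right
      have hs' : t.s = true := by simpa using hs
      refine ⟨hs', K.inj ?_⟩
      rw [map_mul, map_one, hsq]
  · rintro ⟨h1, h | ⟨h2, h3⟩⟩
    · exact K.two.hyp.xt_B ((K.memB t).2 h) (fun h4 => h1 (K.inj (by rw [h4, map_one])))
    · obtain ⟨g, hg⟩ := T.tau_conj t h2 h3
      have h5 := K.xt.conj' (φ g)⁻¹
      have h4 : φ t = (φ g)⁻¹ * φ T.tau * (φ g)⁻¹⁻¹ := by
        rw [← hg]; simp only [map_mul, map_inv]; group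
      rw [h4]; exact h5

theorem x_mem : φ T.z ∈ B := (K.memB _).2 M3.z_mem

theorem x_ne : φ T.z ≠ 1 := fun h => M3.z_ne (K.inj (by rw [h, map_one]))

theorem x_sq : φ T.z * φ T.z = 1 := K.two.hyp.sqB K.x_mem

theorem x_comm {g : G} (hg : g ∈ S) : g * φ T.z = φ T.z * g := by
  obtain ⟨t, rfl⟩ := K.surj g hg
  rw [← map_mul, ← map_mul, T.z_comm]

/-- `s` does not centralise `B` -/
theorem tau_ncomm : ¬ ∀ x ∈ B, φ T.tau * x = x * φ T.tau := by
  intro h
  have h1 := h (φ T.v) ((K.memB _).2 (by decide))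
  rw [← map_mul, ← map_mul] at h1
  have h2 := K.inj h1
  revert h2
  decide +kernel

/-- elements of `S` centralising `B` are in `P` -/
theorem mem_P_of_comm {g : G} (hg : g ∈ S) (h : ∀ x ∈ B, g * x = x * g) : g ∈ PP R B := by
  by_contra hgP
  have hP : φ T.tau ∉ PP R B := by
    intro h1
    have := (K.memP _).1 h1
    revert this
    decide
  have h1 := K.two.idx g hg hgP _ (K.mem _) hP
  apply K.tau_ncomm
  intro x hx
  have h2 := h1.1 x hx
  have h3 := h x hx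
  have h4 : g * (φ T.tau * x) = g * (x * φ T.tau) := by
    calc g * (φ T.tau * x) = g * φ T.tau * x := by group
      _ = x * g * φ T.tau := by rw [h2]; group
      _ = g * (x * φ T.tau) := by rw [← h3]; group
  exact mul_left_cancel h4

/-- the action on `B` -/
theorem act {g y : G} (hg : g * φ T.z = φ T.z * g) (hy : y ∈ B) (h : g * y * g⁻¹ ∈ B) :
    g * y * g⁻¹ = y ∨ g * y * g⁻¹ = y * φ T.z := by
  obtain ⟨c0, hc0⟩ := K.two.frame.Z_surj _ K.x_mem
  obtain ⟨c, rfl⟩ := K.two.frame.Z_surj _ hy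
  obtain ⟨d, hd⟩ := K.two.frame.Z_surj _ h
  by_cases h1 : c = 0
  · left
    rw [h1, K.two.frame.Z_zero]; group
  by_cases h2 : c = c0
  · left
    rw [h2, hc0, hg]; group
  have h3 : c0 ≠ 0 := by
    intro h3
    apply K.x_ne
    rw [← hc0, h3, K.two.frame.Z_zero]
  have h4 : d ≠ 0 := by
    intro h4
    apply h1
    apply K.two.frame.Z_inj
    rw [h4, K.two.frame.Z_zero] at hd
    rw [K.two.frame.Z_zero]
    have : Z c = g⁻¹ * (g * Z c * g⁻¹) * g := by group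
    rw [this, ← hd]; group
  have h5 : d ≠ c0 := by
    intro h5
    apply h2
    apply K.two.frame.Z_inj
    rw [h5, hc0] at hd
    rw [hc0]
    have : Z c = g⁻¹ * (g * Z c * g⁻¹) * g := by group
    rw [this, ← hd, mul_assoc, ← hg]; group
  rcases F4_aux c0 c d h3 h1 h2 h4 h5 with h6 | h6
  · left; rw [← hd, h6]
  · right; rw [← hd, h6, K.two.frame.Z_add, hc0]

theorem not_normal : ¬ ∀ c, c * φ T.z = φ T.z * c → ∀ y ∈ B, c * y * c⁻¹ ∈ B := by
  intro hn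
  have H := K.two.hyp
  -- normal for all elements of `B#`
  have hn' : ∀ w ∈ B, w ≠ 1 → ∀ c, c * w = w * c → ∀ y ∈ B, c * y * c⁻¹ ∈ B := by
    intro w hw hw1 c hc y hy
    obtain ⟨k, hk1, hk2, hk3⟩ := H.exists_k K.x_mem K.x_ne hw hw1
    have h1 : (k⁻¹ * c * k) * φ T.z = φ T.z * (k⁻¹ * c * k) := by
      have : φ T.z = k⁻¹ * w * k := by rw [← hk3]; group
      rw [this]
      calc k⁻¹ * c * k * (k⁻¹ * w * k) = k⁻¹ * (c * w) * k := by group
        _ = k⁻¹ * w * k * (k⁻¹ * c * k) := by rw [hc]; group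
    have h2 := hn _ h1 _ (hk2 y hy)
    have h3 := hk1 _ h2
    have h4 : k * (k⁻¹ * c * k * (k⁻¹ * y * k) * (k⁻¹ * c * k)⁻¹) * k⁻¹ = c * y * c⁻¹ := by group
    rwa [h4] at h3
  -- `s = k x k⁻¹`
  obtain ⟨k, hk⟩ : ∃ k : G, k * φ T.z * k⁻¹ = φ T.tau := by
    obtain ⟨w, hw, hw1, hc⟩ := K.xt
    obtain ⟨k0, hk0⟩ := isConj_iff.1 hc
    obtain ⟨k1, -, -, hk1⟩ := H.exists_k K.x_mem K.x_ne hw hw1
    refine ⟨k0 * k1, ?_⟩
    rw [← hk0, ← hk1]; group
  obtain ⟨n, hn1, hn2⟩ := exists_conj_le (N := Subgroup.centralizer ({φ T.tau} : Set G))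
    (S := S.map (MulAut.conj k).toMonoidHom) (K.two.pS.map _) (max_conj K.two.max k)
    (by
      rintro _ ⟨p, hp, rfl⟩
      rw [Subgroup.mem_centralizer_singleton_iff]
      change k * p * k⁻¹ * φ T.tau = φ T.tau * (k * p * k⁻¹)
      rw [← hk]
      have := K.x_comm hp
      calc k * p * k⁻¹ * (k * φ T.z * k⁻¹) = k * (p * φ T.z) * k⁻¹ := by group
        _ = k * φ T.z * k⁻¹ * (k * p * k⁻¹) := by rw [this]; group)
    (T := S ⊓ Subgroup.centralizer ({φ T.tau} : Set G)) (K.two.pS.to_le inf_le_left) inf_le_right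
  rw [Subgroup.mem_centralizer_singleton_iff] at hn1
  obtain ⟨d, hd⟩ : ∃ d, d = n⁻¹ * k := ⟨_, rfl⟩
  have hdx : d * φ T.z * d⁻¹ = φ T.tau := by
    rw [hd]
    calc n⁻¹ * k * φ T.z * (n⁻¹ * k)⁻¹ = n⁻¹ * (k * φ T.z * k⁻¹) * n := by group
      _ = n⁻¹ * (φ T.tau * n) := by rw [hk]; group
      _ = φ T.tau := by rw [← hn1]; group
  have hd2 : ∀ g ∈ S, g * φ T.tau = φ T.tau * g → d⁻¹ * g * d ∈ S := by
    intro g hg hgt
    obtain ⟨p, hp, hp2⟩ := hn2 g ⟨hg, Subgroup.mem_centralizer_singleton_iff.2 hgt⟩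
    have h1 : k * p * k⁻¹ = n * g * n⁻¹ := hp2
    have h2 : d⁻¹ * g * d = p := by
      rw [hd]
      calc (n⁻¹ * k)⁻¹ * g * (n⁻¹ * k) = k⁻¹ * (n * g * n⁻¹) * k := by group
        _ = p := by rw [← h1]; group
    rw [h2]; exact hp
  have hcx : ∀ c, c * φ T.tau = φ T.tau * c → (d⁻¹ * c * d) * φ T.z = φ T.z * (d⁻¹ * c * d) := by
    intro c hc
    have : φ T.z = d⁻¹ * φ T.tau * d := by rw [← hdx]; group
    rw [this]
    calc d⁻¹ * c * d * (d⁻¹ * φ T.tau * d) = d⁻¹ * (c * φ T.tau) * d := by group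
      _ = d⁻¹ * φ T.tau * d * (d⁻¹ * c * d) := by rw [hc]; group
  obtain ⟨c1, c2, e1, e2, e3⟩ := M3.z_comm₂
  have f1 : φ c1 * φ T.tau = φ T.tau * φ c1 := by rw [← map_mul, e1, map_mul]
  have f2 : φ c2 * φ T.tau = φ T.tau * φ c2 := by rw [← map_mul, e2, map_mul]
  obtain ⟨g1, hg1⟩ : ∃ g1, g1 = d⁻¹ * φ c1 * d := ⟨_, rfl⟩
  obtain ⟨g2, hg2⟩ : ∃ g2, g2 = d⁻¹ * φ c2 * d := ⟨_, rfl⟩
  have hg1x : g1 * φ T.z = φ T.z * g1 := by rw [hg1]; exact hcx _ f1
  have hg2x : g2 * φ T.z = φ T.z * g2 := by rw [hg2]; exact hcx _ f2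
  have hcomm : g1 * g2 * g1⁻¹ * g2⁻¹ = d⁻¹ * φ T.z * d := by
    rw [← e3, hg1, hg2]; simp only [map_mul, map_inv]; group
  have hact : ∀ y ∈ B, (g1 * g2) * y * (g1 * g2)⁻¹ = (g2 * g1) * y * (g2 * g1)⁻¹ := by
    intro y hy
    have a1 := K.act hg1x hy (hn _ hg1x y hy)
    have a2 := K.act hg2x hy (hn _ hg2x y hy)
    have q1 : g1 * (y * φ T.z) * g1⁻¹ = (g1 * y * g1⁻¹) * φ T.z := by
      calc g1 * (y * φ T.z) * g1⁻¹ = (g1 * y * g1⁻¹) * (g1 * φ T.z) * g1⁻¹ := by group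
        _ = _ := by rw [hg1x]; group
    have q2 : g2 * (y * φ T.z) * g2⁻¹ = (g2 * y * g2⁻¹) * φ T.z := by
      calc g2 * (y * φ T.z) * g2⁻¹ = (g2 * y * g2⁻¹) * (g2 * φ T.z) * g2⁻¹ := by group
        _ = _ := by rw [hg2x]; group
    have r1 : (g1 * g2) * y * (g1 * g2)⁻¹ = g1 * (g2 * y * g2⁻¹) * g1⁻¹ := by group
    have r2 : (g2 * g1) * y * (g2 * g1)⁻¹ = g2 * (g1 * y * g1⁻¹) * g2⁻¹ := by group
    rw [r1, r2]
    rcases a1 with a1 | a1 <;> rcases a2 with a2 | a2 <;> rw [a1, a2]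
    · rw [a1]
    · rw [q1, a1]
    · rw [q2, a1, a2]
    · rw [q1, q2, a1, a2]
  obtain ⟨x2, hx2⟩ : ∃ x2, x2 = d⁻¹ * φ T.z * d := ⟨_, rfl⟩
  have hx2B : ∀ y ∈ B, x2 * y = y * x2 := by
    intro y' hy'
    have hg21 : (g2 * g1)⁻¹ * φ T.z = φ T.z * (g2 * g1)⁻¹ := by
      have h1 : (g2 * g1) * φ T.z = φ T.z * (g2 * g1) := by
        rw [mul_assoc, hg1x, ← mul_assoc, hg2x, mul_assoc]
      calc (g2 * g1)⁻¹ * φ T.z = (g2 * g1)⁻¹ * (φ T.z * (g2 * g1)) * (g2 * g1)⁻¹ := by group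
        _ = _ := by rw [← h1]; group
    have hy := hn _ hg21 y' hy'
    have h1 := hact _ hy
    have h2 : (g2 * g1) * ((g2 * g1)⁻¹ * y' * (g2 * g1)⁻¹⁻¹) * (g2 * g1)⁻¹ = y' := by group
    rw [h2] at h1
    rw [hx2, ← hcomm]
    calc g1 * g2 * g1⁻¹ * g2⁻¹ * y' =
        ((g1 * g2) * ((g2 * g1)⁻¹ * y' * (g2 * g1)⁻¹⁻¹) * (g1 * g2)⁻¹) * (g1 * g2 * g1⁻¹ * g2⁻¹) := by
          group
      _ = _ := by rw [h1]
  have hx2S : x2 ∈ S := by
    rw [hx2]
    exact hd2 _ (K.mem _) (K.x_comm (K.mem _)).symm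
  have hx2xt : XT B x2 := by
    have := (H.xt_B K.x_mem K.x_ne).conj' d⁻¹
    rwa [inv_inv, ← hx2] at this
  have hx2mem : x2 ∈ B := K.two.xt_P (K.mem_P_of_comm hx2S hx2B) hx2xt
  obtain ⟨g0, hg0⟩ := M3.sq_ne
  apply hg0
  apply K.inj
  have h1 : (d⁻¹ * φ g0 * d) * x2 = x2 * (d⁻¹ * φ g0 * d) := by
    rw [hx2]
    have := K.x_comm (K.mem g0)
    calc d⁻¹ * φ g0 * d * (d⁻¹ * φ T.z * d) = d⁻¹ * (φ g0 * φ T.z) * d := by group
      _ = _ := by rw [this]; group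
  have h2 := hn' x2 hx2mem hx2xt.ne_one _ h1 _ K.x_mem
  have h3 := B.mul_mem h2 (B.inv_mem K.x_mem)
  have h4 := H.sqB h3
  rw [map_one, map_mul, map_mul, map_mul, map_mul, map_inv, map_inv]
  have h5 : φ g0 * φ T.tau * (φ g0)⁻¹ * (φ T.tau)⁻¹ =
      d * (d⁻¹ * φ g0 * d * φ T.z * (d⁻¹ * φ g0 * d)⁻¹ * (φ T.z)⁻¹) * d⁻¹ := by
    rw [← hdx]; group
  rw [h5]
  calc _ = d * ((d⁻¹ * φ g0 * d * φ T.z * (d⁻¹ * φ g0 * d)⁻¹ * (φ T.z)⁻¹) *
        (d⁻¹ * φ g0 * d * φ T.z * (d⁻¹ * φ g0 * d)⁻¹ * (φ T.z)⁻¹)) * d⁻¹ := by group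
    _ = 1 := by rw [h4]; group

theorem exists_c : ∃ c y, c * φ T.z = φ T.z * c ∧ y ∈ B ∧ c * y * c⁻¹ ∈ S ∧ c * y * c⁻¹ ∉ B := by
  by_contra hcon
  push Not at hcon
  exact K.not_normal (K.two.hyp.normal_of_iso K.two.pS K.two.max K.two.le K.x_mem K.x_ne
    (fun s hs => K.x_comm hs) fun c hc y hy h => hcon c y hc hy h)

theorem mem_Q {g : G} (hg : g ∈ RR S B) : ∃ t : T, t.b = F4.fr t.a ∧ φ t = g := by
  have h1 : RR S B ≤ T.Q.map φ := by
    rw [RR, closure_le]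
    rintro g ⟨hg, hx⟩
    obtain ⟨t, rfl⟩ := K.surj g hg
    refine ⟨t, ?_, rfl⟩
    rcases ((K.xt_iff t).1 hx).2 with h | ⟨h1, h2⟩
    · exact T.U_le_Q h
    · exact T.mem_Q_of_inv_not_R t h1 h2
  obtain ⟨t, ht, rfl⟩ := h1 hg
  exact ⟨t, ht, rfl⟩

theorem RR_le : RR S B ≤ S := by
  rw [RR, closure_le]
  exact fun g hg => hg.1

theorem conj_RR {g : G} (hg : g ∈ RR S B) {u : T} (hu : u.b = F4.fr u.a) :
    g * φ u * g⁻¹ = φ u ∨ g * φ u * g⁻¹ = φ u * φ T.z := by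
  obtain ⟨t, ht, rfl⟩ := K.mem_Q hg
  rcases M3.conj_Q t u ht hu with h | h
  · left; rw [← map_inv, ← map_mul, ← map_mul, h]
  · right; rw [← map_inv, ← map_mul, ← map_mul, h, map_mul]

theorem weak {h : G} (hx : ∀ r ∈ RR S B, h * r * h⁻¹ ∈ S) :
    ∀ r ∈ RR S B, h * r * h⁻¹ ∈ RR S B := by
  have h1 : RR S B ≤ (RR S B).comap (MulAut.conj h).toMonoidHom := by
    nth_rewrite 1 [RR]
    rw [closure_le]
    intro g hg
    change h * g * h⁻¹ ∈ RR S B
    exact subset_closure ⟨hx g (subset_closure hg), hg.2.conj' h⟩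
  intro r hr
  exact h1 hr

theorem exists_n : ∃ n y, n * φ T.z = φ T.z * n ∧ n ∈ normalizer (RR S B : Set G) ∧ y ∈ B ∧
    n * y * n⁻¹ ∈ S ∧ n * y * n⁻¹ ∉ PP R B := by
  obtain ⟨c, y, hc, hy, hyS, hyB⟩ := K.exists_c
  have H := K.two.hyp
  have hy1 : y ≠ 1 := by
    rintro rfl
    apply hyB
    have : c * 1 * c⁻¹ = 1 := by group
    rw [this]; exact B.one_mem
  obtain ⟨y1, hy1'⟩ : ∃ y1, y1 = c * y * c⁻¹ := ⟨_, rfl⟩
  rw [← hy1'] at hyS hyB
  have hxt : XT B y1 := by rw [hy1']; exact (H.xt_B hy hy1).conj' c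
  have hyP : y1 ∉ PP R B := fun h => hyB (K.two.xt_P h hxt)
  obtain ⟨u, hu⟩ := K.surj y1 hyS
  have huQ : u.b = F4.fr u.a := by
    have hxt2 : XT B (φ u) := by rw [hu]; exact hxt
    rcases ((K.xt_iff u).1 hxt2).2 with h | ⟨h1, h2⟩
    · exact T.U_le_Q h
    · exact T.mem_Q_of_inv_not_R u h1 h2
  obtain ⟨u', hu'⟩ := K.surj y (K.two.B_le hy)
  have hu'U : u' ∈ T.U := (K.memB u').1 (by rw [hu']; exact hy)
  have hRM : RR S B ≤ MX (φ T.z) y1 K.x_sq := by
    intro g hg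
    refine ⟨K.x_comm (K.RR_le hg), ?_⟩
    rw [← hu]
    exact K.conj_RR hg huQ
  have hcRM : (RR S B).map (MulAut.conj c).toMonoidHom ≤ MX (φ T.z) y1 K.x_sq := by
    rintro _ ⟨g, hg, rfl⟩
    change c * g * c⁻¹ ∈ MX (φ T.z) y1 K.x_sq
    have h1 := K.x_comm (K.RR_le hg)
    have hc' : φ T.z = c * φ T.z * c⁻¹ := by rw [hc]; group
    refine ⟨?_, ?_⟩
    · calc c * g * c⁻¹ * φ T.z = c * g * c⁻¹ * (c * φ T.z * c⁻¹) := by rw [← hc']
        _ = c * (g * φ T.z) * c⁻¹ := by group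
        _ = (c * φ T.z * c⁻¹) * (c * g * c⁻¹) := by rw [h1]; group
        _ = φ T.z * (c * g * c⁻¹) := by rw [← hc']
    · rw [hy1']
      have h2 := K.conj_RR hg (M3.U_Q u' hu'U)
      rw [hu'] at h2
      have h3 : c * g * c⁻¹ * (c * y * c⁻¹) * (c * g * c⁻¹)⁻¹ = c * (g * y * g⁻¹) * c⁻¹ := by group
      rw [h3]
      rcases h2 with h2 | h2
      · left; rw [h2]
      · right
        rw [h2]
        calc c * (y * φ T.z) * c⁻¹ = c * y * c⁻¹ * (c * φ T.z * c⁻¹) := by group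
          _ = _ := by rw [← hc']
  have hRp : IsPGroup 2 (RR S B) := K.two.pS.to_le K.RR_le
  obtain ⟨U2, hU1, hU2, hU3, hU4⟩ := exists_max hRM hRp
  obtain ⟨m, hm1, hm2⟩ := exists_conj_le' hU3 hU4 hU2 (hRp.map _) hcRM
  obtain ⟨g', hg1, hg2⟩ := exists_conj_le (N := Subgroup.centralizer ({φ T.z} : Set G)) K.two.pS
    K.two.max (fun s hs => Subgroup.mem_centralizer_singleton_iff.2 (K.x_comm hs)) hU3
    (fun g hg => Subgroup.mem_centralizer_singleton_iff.2 (hU2 hg).1)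
  rw [Subgroup.mem_centralizer_singleton_iff] at hg1
  have w1 := K.weak (h := g') (fun r hr => hg2 r (hU1 hr))
  have w2 := K.weak (h := g' * m * c) (fun r hr => by
    have h1 := hg2 _ (hm2 (c * r * c⁻¹) ⟨r, hr, rfl⟩)
    have h2 : g' * m * c * r * (g' * m * c)⁻¹ = g' * (m * (c * r * c⁻¹) * m⁻¹) * g'⁻¹ := by group
    rw [h2]; exact h1)
  have n1 := mem_norm_of w1
  have n2 := mem_norm_of w2
  refine ⟨m * c, y, ?_, ?_, hy, ?_⟩
  · rw [mul_assoc, hc, ← mul_assoc, hm1.1, mul_assoc]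
  · have h3 := (normalizer (RR S B : Set G)).mul_mem ((normalizer (RR S B : Set G)).inv_mem n1) n2
    have h4 : g'⁻¹ * (g' * m * c) = m * c := by group
    rwa [h4] at h3
  · have h5 : m * c * y * (m * c)⁻¹ = m * y1 * m⁻¹ := by rw [hy1']; group
    rw [h5]
    rcases hm1.2 with h6 | h6
    · rw [h6]; exact ⟨hyS, hyP⟩
    · rw [h6]
      refine ⟨S.mul_mem hyS (K.mem _), fun h7 => hyP ?_⟩
      have h8 := (PP R B).mul_mem h7 ((PP R B).inv_mem (H.B_le_PP K.x_mem))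
      rwa [mul_inv_cancel_right] at h8

theorem five_dvd : 5 ∣ Nat.card (Subgroup.centralizer ({φ T.z} : Set G)) := by
  obtain ⟨n, y, hn1, hn2, hy, hnS, hnP⟩ := K.exists_n
  have H := K.two.hyp
  set N0 : Subgroup G := Subgroup.centralizer ({φ T.z} : Set G) ⊓ normalizer (RR S B : Set G) with hN0
  have memN0 : ∀ g, g ∈ N0 ↔ g * φ T.z = φ T.z * g ∧ g ∈ normalizer (RR S B : Set G) := by
    intro g
    rw [hN0, Subgroup.mem_inf, Subgroup.mem_centralizer_singleton_iff]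
  have hSN : ∀ g ∈ S, g ∈ N0 := by
    intro g hg
    refine (memN0 g).2 ⟨K.x_comm hg, mem_norm_of (K.weak fun r hr => ?_)⟩
    exact S.mul_mem (S.mul_mem hg (K.RR_le hr)) (S.inv_mem hg)
  let _ : MulAction N0 G :=
    { smul := fun t k => (t : G) * k * (t : G)⁻¹
      one_smul := fun k => by
        change ((1 : N0) : G) * k * ((1 : N0) : G)⁻¹ = k
        simp
      mul_smul := fun s t k => by
        change ((s * t : N0) : G) * k * ((s * t : N0) : G)⁻¹ = (s : G) * ((t : G) * k * (t : G)⁻¹) * (s : G)⁻¹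
        rw [Subgroup.coe_mul]; group }
  have hsm : ∀ (t : N0) (k : G), t • k = (t : G) * k * (t : G)⁻¹ := fun _ _ => rfl
  have hvU : T.v ∈ T.U := by decide
  have horb : MulAction.orbit N0 (φ T.v) =
      φ '' {t : T | t ≠ 1 ∧ t ≠ T.z ∧ (t ∈ T.U ∨ (t.s = true ∧ t * t = 1))} := by
    apply Set.Subset.antisymm
    · rintro _ ⟨h, rfl⟩
      change (h • φ T.v) ∈ _
      rw [hsm]
      obtain ⟨h1, h2⟩ := (memN0 h).1 h.2
      have hvx : XT B (φ T.v) := H.xt_B ((K.memB _).2 hvU) (fun h3 => M3.v_ne (K.inj (by rw [h3, map_one])))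
      have hvR : φ T.v ∈ RR S B := subset_closure ⟨K.mem _, hvx⟩
      have h3 : (h : G) * φ T.v * (h : G)⁻¹ ∈ RR S B := (Subgroup.mem_normalizer_iff.1 h2 _).1 hvR
      obtain ⟨t, ht⟩ := K.surj _ (K.RR_le h3)
      have h4 : XT B (φ t) := by rw [ht]; exact hvx.conj' _
      obtain ⟨h5, h6⟩ := (K.xt_iff t).1 h4
      refine ⟨t, ⟨h5, ?_, h6⟩, ht⟩
      intro h7
      have h8 : φ T.v = φ T.z := by
        rw [h7] at ht
        calc φ T.v = (h : G)⁻¹ * ((h : G) * φ T.v * (h : G)⁻¹) * h := by group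
          _ = (h : G)⁻¹ * (φ T.z * h) := by rw [← ht]; group
          _ = φ T.z := by rw [← h1]; group
      have h9 := K.inj h8
      revert h9
      decide
    · -- all elements are in the orbit
      have key : ∀ k, k ∈ MulAction.orbit N0 (φ T.v) → ∀ g ∈ N0, g * k * g⁻¹ ∈ MulAction.orbit N0 (φ T.v) := by
        intro k hk g hg
        have := MulAction.mem_orbit_of_mem_orbit (⟨g, hg⟩ : N0) hk
        rwa [hsm] at this
      have hU : ∀ t : T, t ∈ T.U → t ≠ 1 → t ≠ T.z → φ t ∈ MulAction.orbit N0 (φ T.v) := by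
        intro t ht h1 h2
        rcases T.U_cases t ht with h | h | h | h
        · exact absurd h h1
        · exact absurd h h2
        · rw [h]; exact MulAction.mem_orbit_self _
        · obtain ⟨g, hg⟩ := M3.v_conj
          rw [h, ← hg, map_mul, map_mul, map_inv]
          exact key _ (MulAction.mem_orbit_self _) _ (hSN _ (K.mem g))
      have htau : φ T.tau ∈ MulAction.orbit N0 (φ T.v) := by
        obtain ⟨u, hu⟩ := K.surj y (K.two.B_le hy)
        have huU : u ∈ T.U := (K.memB u).1 (by rw [hu]; exact hy)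
        have hu1 : u ≠ 1 := by
          rintro rfl
          apply hnP
          rw [← hu, map_one, mul_one, mul_inv_cancel]
          exact (PP R B).one_mem
        have hu2 : u ≠ T.z := by
          rintro rfl
          apply hnP
          rw [← hu, hn1, mul_inv_cancel_right]
          exact H.B_le_PP K.x_mem
        have h1 := key _ (hU u huU hu1 hu2) n ((memN0 n).2 ⟨hn1, hn2⟩)
        rw [hu] at h1
        obtain ⟨t, ht⟩ := K.surj _ hnS
        have h2 : XT B (φ t) := by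
          rw [ht]
          exact (H.xt_B hy (fun h => hu1 (K.inj (by rw [hu, h, map_one])))).conj' n
        have h3 : t.s = true := by
          by_contra h3
          have h4 : t.s = false := by simpa using h3
          apply hnP
          rw [← ht]
          exact (K.memP t).2 h4
        have h5 : t * t = 1 := K.inj (by rw [map_mul, map_one]; exact XT.sq H h2)
        obtain ⟨g, hg⟩ := T.tau_conj t h3 h5
        rw [← hg, map_mul, map_mul, map_inv]
        apply key _ _ _ (hSN _ (K.mem g))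
        rw [ht]; exact h1
      rintro _ ⟨t, ⟨h1, h2, h3 | ⟨h3, h4⟩⟩, rfl⟩
      · exact hU t h3 h1 h2
      · obtain ⟨g, hg⟩ := T.tau_conj t h3 h4
        have h5 : φ t = (φ g)⁻¹ * φ T.tau * (φ g)⁻¹⁻¹ := by
          rw [← hg]; simp only [map_mul, map_inv]; group
        rw [h5]
        exact key _ htau _ (N0.inv_mem (hSN _ (K.mem g)))
  have hcard : (MulAction.orbit N0 (φ T.v)).ncard = 10 := by
    rw [horb, Set.ncard_image_of_injective _ K.inj]
    rw [← Nat.card_coe_set_eq]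
    change Nat.card {t : T // t ≠ 1 ∧ t ≠ T.z ∧ (t ∈ T.U ∨ (t.s = true ∧ t * t = 1))} = 10
    rw [Nat.card_eq_fintype_card, M3.count10]
  have h1 : 10 ∣ Nat.card N0 := by
    rw [← hcard, ← MulAction.index_stabilizer]
    exact Subgroup.index_dvd_card _
  have h2 : Nat.card N0 ∣ Nat.card (Subgroup.centralizer ({φ T.z} : Set G)) :=
    Subgroup.card_dvd_of_le inf_le_left
  exact (show 5 ∣ 10 by norm_num).trans (h1.trans h2)

end Three

/-- case II.3 -/
theorem Two.caseThree {G : Type*} [Group G] [Finite G] {R A B : Subgroup G} {ρ b : G}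
    {S : Subgroup G} {X Y Z : F4 → G} (W : Two R A B ρ b S X Y Z) {s : G} (hs : s ∈ S)
    (hsP : s ∉ PP R B) (hxt : XT B s) (hsB : ¬ ∀ x ∈ B, s * x = x * s) :
    ∃ x ∈ B, x ≠ 1 ∧ 5 ∣ Nat.card (Subgroup.centralizer ({x} : Set G)) := by
  obtain ⟨φ, K⟩ := W.exists_three hs hsP hxt hsB
  exact ⟨φ T.z, K.x_mem, K.x_ne, K.five_dvd⟩

end Cfsg.Agent.StdG24.F
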