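import Mathlib
import Cfsg.Agent.StdG24.F.CountOf
import Cfsg.Agent.SmallSimple.SelfCentPrime

/-!
# Lemma F: the end (`5 ∣ |C(x)|` implies that `R` is not normal in `C(w)`)
-/

set_option autoImplicit false

namespace Cfsg.Agent.StdG24.F.End

open Subgroup

variable {G : Type*} [Group G] {R A B : Subgroup G} {ρ b : G} (H : Hyp R A B ρ b)
include H

/-- `|G| = |x^G| |C(x)|` -/
theorem card_mul [Finite G] {x : G} (hx : x ∈ B) (hx1 : x ≠ 1) :
    Nat.card G = Nat.card {y : G // XT B y} * Nat.card (centralizer ({x} : Set G)) := by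
  have h1 : Nat.card {y : G // XT B y} = (ConjClasses.mk x).carrier.ncard := by
    rw [← Nat.card_coe_set_eq]
    refine Nat.card_congr (Equiv.subtypeEquivRight fun y => ?_)
    rw [ConjClasses.mem_carrier_iff_mk_eq, ConjClasses.mk_eq_mk_iff_isConj]
    constructor
    · rintro ⟨z, hz, hz1, hzy⟩
      obtain ⟨c, -, hc⟩ := H.conjB hx hx1 hz hz1
      exact ((isConj_iff.2 ⟨c, hc⟩ : IsConj x z).trans hzy).symm
    · intro h
      exact ⟨x, hx, hx1, h.symm⟩
  rw [h1, ← Nat.card_coe_set_eq, SmallSimple.SelfCentPrime.card_carrier_mul_card_centralizer]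

/-- `5 ∣ |C(x)|` implies `25 ∣ |G|` -/
theorem dvd_card [Finite G] {x : G} (hx : x ∈ B) (hx1 : x ≠ 1)
    (h5 : 5 ∣ Nat.card (centralizer ({x} : Set G))) : 25 ∣ Nat.card G := by
  obtain ⟨t, ht, ht1⟩ := H.exists_neR
  have h1 := (CountOf.hyp H).card_X ht ht1 (H.B_le hx) hx1 (H.sqB hx)
  have h2 : Nat.card {y : G // XT B y} = Nat.card {y : G // Count.IsX A y} :=
    Nat.card_congr (Equiv.subtypeEquivRight fun y => (CountOf.isX_iff H y).symm)
  rw [card_mul H hx hx1, h2, h1]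
  have h3 : 5 ∣ 195 + 15 * Nat.card {x_1 : G // Count.IsX A x_1 ∧ x ∈ zpowers (t * x_1)} := by omega
  exact mul_dvd_mul h3 h5

/-- **Lemma F (iii)** from `5 ∣ |C(x)|` -/
theorem moves [Finite G] {x : G} (hx : x ∈ B) (hx1 : x ≠ 1)
    (h5 : 5 ∣ Nat.card (centralizer ({x} : Set G))) {w : G} (hw : w ∈ A) (w1 : w ≠ 1) (w5 : w ^ 5 = 1) :
    Nat.card (centralizer ({w} : Set G)) = 300 ∧ ∃ g, g * w = w * g ∧ ∃ r ∈ R, g * r * g⁻¹ ∉ R := by
  have h25 := dvd_card H hx hx1 h5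
  exact ⟨CountFive.card_cent (CountOf.hyp H) hw w1 w5 h25,
    CountFive.exists_moves (CountOf.hyp H) hw w1 w5 h25⟩

end Cfsg.Agent.StdG24.F.End
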