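import Cfsg.Agent.StdG24.F.CaseII

/-!
# Lemma F: `P` is a Sylow 2-subgroup of `C(B)` if some 2-element over `P` moves `B`
(helper393, blueprints/S1767-F.md)
-/

set_option autoImplicit false

namespace Cfsg.Agent.StdG24.F

open Subgroup Cfsg.Agent.J2Sylow.Model Cfsg.Agent.StdAlt.Five

namespace Two

variable {G : Type*} [Group G] [Finite G] {R A B : Subgroup G} {ρ b : G} {S : Subgroup G}
  {X Y Z : F4 → G} (W : Two R A B ρ b S X Y Z)
include W

/-- the centre of `S` is in `B` -/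
theorem center_le {z : G} (hz : z ∈ S) (hc : ∀ s ∈ S, z * s = s * z) : z ∈ B := by
  have H := W.hyp
  by_cases hzP : z ∈ PP R B
  · obtain ⟨r, hr, hr1⟩ := H.exists_neR
    obtain ⟨s, hs, x, hx, h⟩ := H.free hzP hr hr1 (hc r (W.le (H.R_le_PP hr)))
    obtain ⟨a, ha⟩ := W.frame.X_surj s hs
    obtain ⟨c, hc'⟩ := W.frame.Z_surj x hx
    have h1 := hc (Y F4.e) (W.le (W.frame.Y_mem _))
    have h2 : (Y 0 * X a * Z c) * (Y F4.e * X 0 * Z 0) = (Y F4.e * X 0 * Z 0) * (Y 0 * X a * Z c) := by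
      rw [W.frame.X_zero, W.frame.Y_zero, W.frame.Z_zero, one_mul, mul_one, mul_one, ha, hc', ← h]
      exact h1
    rcases frame_comm H.data W.frame h2 with h3 | h3
    · rw [h, ← ha, h3, W.frame.X_zero, one_mul]
      exact hx
    · exact absurd h3 (by decide)
  · exfalso
    obtain ⟨r, hr, hr1⟩ := H.exists_neR
    have h1 := hc r (W.le (H.R_le_PP hr))
    have h2 := (W.sw z hz hzP).RQ r hr
    rw [h1, mul_inv_cancel_right] at h2
    have h3 := mem_B_of_both W.frame ⟨r, hr, 1, B.one_mem, by rw [mul_one]⟩ h2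
    exact hr1 (H.disjB hr h3)

/-- `P` is a Sylow 2-subgroup of `C(B)` -/
theorem maxB {s : G} (hs : s ∈ S) (hsB : ¬ ∀ x ∈ B, s * x = x * s) (T : Subgroup G)
    (hTB : T ≤ centralizer (B : Set G)) (hT : IsPGroup 2 T) (hPT : PP R B ≤ T) :
    T = PP R B := by
  by_contra hne
  have H := W.hyp
  have : Fact (Nat.Prime 2) := ⟨Nat.prime_two⟩
  obtain ⟨S', hS1, -, hS2, hS3⟩ := exists_max (le_top (a := T)) hT
  have hPS' : PP R B ≤ S' := hPT.trans hS1
  obtain ⟨t, ht, htP⟩ : ∃ t ∈ T, t ∉ PP R B := by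
    by_contra hcon
    push Not at hcon
    exact hne (le_antisymm hcon hPT)
  have htB : ∀ x ∈ B, t * x = x * t := fun x hx => (Subgroup.mem_centralizer_iff.1 (hTB ht) x hx).symm
  have hne' : PP R B ≠ S' := by
    intro h
    exact htP (by rw [h]; exact hS1 ht)
  obtain ⟨-, h1, h2, h3⟩ := H.syl_cases W.frame hS2 hPS' hne'
  -- `S'` centralises `B`
  have hS'B : ∀ g ∈ S', ∀ x ∈ B, g * x = x * g := by
    intro g hg x hx
    by_cases hgP : g ∈ PP R B
    · exact hgP.1 x hx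
    · have h4 := (h3 g hg hgP t (hS1 ht) htP).1 x hx
      have h5 := htB x hx
      have h6 : g * x * t = x * g * t := by
        calc g * x * t = g * (t * x) := by rw [h5, mul_assoc]
          _ = x * g * t := by rw [← mul_assoc, h4]; group
      exact mul_right_cancel h6
  -- `S'` is conjugate to `S`
  obtain ⟨n, -, hn⟩ := exists_conj_le (N := ⊤) hS2 (fun T hT hle => hS3 T le_top hT hle) le_top
    W.pS le_top
  -- `n S n⁻¹ = S'`
  have hcard : ∀ g ∈ S', n⁻¹ * g * n ∈ S := by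
    have h4 := W.max (S'.map (MulAut.conj n⁻¹).toMonoidHom) (hS2.map _) (by
      intro s hs
      refine ⟨n * s * n⁻¹, hn s hs, ?_⟩
      change n⁻¹ * (n * s * n⁻¹) * n⁻¹⁻¹ = s
      group)
    intro g hg
    rw [← h4]
    exact ⟨g, hg, by change n⁻¹ * g * n⁻¹⁻¹ = _; rw [inv_inv]⟩
  have hBn : ∀ x ∈ B, n⁻¹ * x * n⁻¹⁻¹ ∈ B := by
    intro x hx
    rw [inv_inv]
    apply W.center_le (hcard x (hPS' (H.B_le_PP hx)))
    intro u hu
    have h4 := hS'B _ (hn u hu) x hx
    calc n⁻¹ * x * n * u = n⁻¹ * (x * (n * u * n⁻¹)) * n := by group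
      _ = u * (n⁻¹ * x * n) := by rw [← h4]; group
  apply hsB
  intro x hx
  have h5 := H.norm_inv hBn x hx
  rw [inv_inv] at h5
  have h6 := hS'B _ (hn s hs) _ h5
  calc s * x = n⁻¹ * ((n * s * n⁻¹) * (n * x * n⁻¹)) * n := by group
    _ = x * s := by rw [h6]; group

/-- no element of `C(B) ∩ N(P)` swaps -/
theorem noswapB {s : G} (hs : s ∈ S) (hsB : ¬ ∀ x ∈ B, s * x = x * s) (g : G)
    (hgB : ∀ x ∈ B, g * x = x * g) (hn : ∀ p ∈ PP R B, g * p * g⁻¹ ∈ PP R B) :
    ∀ r ∈ R, ∃ s ∈ R, ∃ y ∈ B, g * r * g⁻¹ = s * y := by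
  have H := W.hyp
  have F := W.frame
  rcases H.elem_conj F H.card_EE H.sq_EE (fun f hf => hn f (H.EE_le hf)) with h | ⟨h0, h⟩
  · exact fun r hr => h r ⟨r, hr, 1, B.one_mem, by rw [mul_one]⟩
  exfalso
  have hsw := H.sw_of_conj F hn h
  -- odd powers of `g` swap
  have hn' : ∀ k : ℕ, ∀ p ∈ PP R B, g ^ k * p * (g ^ k)⁻¹ ∈ PP R B := by
    intro k
    induction k with
    | zero => intro p hp; simpa using hp
    | succ k ih =>
      intro p hp
      have : g ^ (k + 1) * p * (g ^ (k + 1))⁻¹ = g * (g ^ k * p * (g ^ k)⁻¹) * g⁻¹ := by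
        rw [pow_succ']; group
      rw [this]
      exact hn _ (ih p hp)
  have hodd : ∀ k : ℕ, Sw R B Y Z (g ^ (2 * k + 1)) := by
    intro k
    induction k with
    | zero => simpa using hsw
    | succ k ih =>
      apply H.sw_of_conj F (hn' _)
      have e1 : g ^ (2 * (k + 1) + 1) = g * (g * g ^ (2 * k + 1)) := by
        rw [← pow_succ', ← pow_succ']; congr 1
      rw [e1]
      exact fun f hf => H.sw_ee hsw F (H.sw_sw hsw ih F) f hf
  -- a 2-element
  obtain ⟨n, m, hm, hnm⟩ := Nat.exists_eq_two_pow_mul_odd (n := orderOf g) (orderOf_pos g).ne'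
  obtain ⟨k, rfl⟩ := hm
  have h2 : IsPGroup 2 (zpowers (g ^ (2 * k + 1))) := by
    apply isPGroup_zpowers_of_pow (n := n)
    rw [← pow_mul, mul_comm, ← hnm, pow_orderOf_eq_one]
  have hcen : g ∈ centralizer (B : Set G) :=
    Subgroup.mem_centralizer_iff.2 fun x hx => (hgB x hx).symm
  obtain ⟨c, hc1, hc2⟩ := exists_conj_le'
    (N := Subgroup.normalizer (PP R B : Set G) ⊓ centralizer (B : Set G))
    H.isPGroup_PP (fun T hT h1 h2 => W.maxB hs hsB T (hT.trans inf_le_right) h1 h2)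
    (le_inf Subgroup.le_normalizer (fun p hp => Subgroup.mem_centralizer_iff.2
      fun x hx => (hp.1 x hx).symm)) h2 (by
      rw [Subgroup.zpowers_le]
      exact ⟨mem_norm_of (hn' _), Subgroup.pow_mem _ hcen _⟩)
  have h3 := hc2 _ (Subgroup.mem_zpowers _)
  have h4 : g ^ (2 * k + 1) ∈ PP R B := (Subgroup.mem_normalizer_iff.1 hc1.1 _).2 h3
  exact H.not_sw_mem F (hodd k) h4

end Two

end Cfsg.Agent.StdG24.F
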