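import Cfsg.Agent.StdG24.F.Kappa
import Cfsg.Agent.StdG24.F.MaxB
import Cfsg.Agent.StdG24.F.LemD
import Cfsg.Agent.StdG24.F.CaseOneEnd
import Cfsg.Agent.StdG24.F.CaseTwoOne
import Cfsg.Agent.StdG24.F.CaseTwoThree
import Cfsg.Agent.StdG24.F.End

/-!
# Lemma F
(helper393, helper897, helper748; blueprints/S1767-F.md)
-/

set_option autoImplicit false

namespace Cfsg.Agent.StdG24.F

open Subgroup

/-- **Lemma F.** -/
theorem lemmaF {G : Type*} [Group G] [Finite G] {R A B : Subgroup G} {ρ b : G}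
    (H : Hyp R A B ρ b) :
    (∃ x ∈ B, x ≠ 1 ∧ 5 ∣ Nat.card (centralizer ({x} : Set G))) ∧ 25 ∣ Nat.card G ∧
    (∃ k : G, (∀ r ∈ R, k * r * k⁻¹ ∈ R) ∧ (∀ r ∈ R, k * r * k⁻¹ = r → r = 1) ∧
      ∀ x ∈ B, k * x = x * k) ∧
    (∀ w ∈ A, w ≠ 1 → w ^ 5 = 1 → Nat.card (centralizer ({w} : Set G)) = 300 ∧
      ∃ g, g * w = w * g ∧ ∃ r ∈ R, g * r * g⁻¹ ∉ R) ∧
    (∀ y, (∀ x ∈ B, y * x = x * y) → y * y = 1 → y ∈ PP R B) := by
  rcases H.cases with hI | ⟨S, X, Y, Z, W⟩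
  · exact (CaseOneEnd.not_max H hI).elim
  by_cases h1 : ∃ s ∈ S, s ∉ PP R B ∧ XT B s
  · obtain ⟨s, hs, hsP, hxt⟩ := h1
    by_cases hsB : ∀ x ∈ B, s * x = x * s
    · exact (W.caseTwo hs hsP hxt hsB).elim
    obtain ⟨x, hx, hx1, h5⟩ := W.caseThree hs hsP hxt hsB
    exact ⟨⟨x, hx, hx1, h5⟩, End.dvd_card H hx hx1 h5, W.kappa,
      fun w hw hw1 hw5 => End.moves H hx hx1 h5 hw hw1 hw5,
      fun y hy hyy => LemD.lemDB H (W.maxB hs hsB) (W.noswapB hs hsB) hy hyy⟩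
  · push Not at h1
    exact (CaseTwoOne.caseTwo_one H W.frame (fun b c hb => W.tt_Q hb c)
      (fun x hx hx1 i hi hix => W.caseOne h1 x hx hx1 i hix hi)).elim

end Cfsg.Agent.StdG24.F
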