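import Cfsg.Agent.StdG24.F.Quot
import Cfsg.Agent.StdG24.F.Main

/-!
# Lemma F in `C(d)/<d>`: the conclusions
-/

set_option autoImplicit false

namespace Cfsg.Agent.StdG24.F.Quot.DHyp

open Subgroup

variable {Γ : Type*} [Group Γ] {d : Γ} {R A B : Subgroup Γ} {b : Γ}

/-- **(ii)** -/
theorem exists_rho [Finite Γ] (H : DHyp d R A B b) :
    ∃ k : Γ, k * d = d * k ∧ (∀ r ∈ R, k * r * k⁻¹ ∈ R) ∧ (∀ r ∈ R, k * r * k⁻¹ = r → r = 1) ∧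
      ∀ x ∈ B, k * x = x * k := by
  obtain ⟨ρ, H'⟩ := H.exists_hyp
  exact H.kappa (lemmaF H').2.2.1

/-- **(iv)** -/
theorem pow_four_mem [Finite Γ] (H : DHyp d R A B b) {k : Γ}
    (hk : k ∈ closure {y : Γ | y * y = 1 ∧ y * d = d * y ∧ ∀ x ∈ B, y * x = x * y}) :
    k ^ 4 ∈ zpowers d := by
  obtain ⟨ρ, H'⟩ := H.exists_hyp
  exact H.pow_four (lemmaF H').2.2.2.2 hk

end Cfsg.Agent.StdG24.F.Quot.DHyp
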