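import Cfsg.Agent.StdG24.F.A5Fin

/-!
# Facts on subgroups isomorphic to the alternating group of degree five
-/

set_option autoImplicit false

namespace Cfsg.Agent.StdG24.F

open Subgroup

namespace A5

variable {G : Type*} [Group G] {A : Subgroup G} (e : A ≃* Alt5)
include e

theorem val_pow {a : G} (ha : a ∈ A) (n : ℕ) : (e ⟨a, ha⟩) ^ n = 1 ↔ a ^ n = 1 := by
  rw [← map_pow, ← map_one e, e.injective.eq_iff, Subtype.ext_iff]
  simp

theorem val_one {a : G} (ha : a ∈ A) : e ⟨a, ha⟩ = 1 ↔ a = 1 := by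
  rw [← map_one e, e.injective.eq_iff, Subtype.ext_iff]
  simp

theorem val_sq {a : G} (ha : a ∈ A) : e ⟨a, ha⟩ * e ⟨a, ha⟩ = 1 ↔ a * a = 1 := by
  rw [← map_mul, ← map_one e, e.injective.eq_iff, Subtype.ext_iff]
  simp

theorem val_comm {a c : G} (ha : a ∈ A) (hc : c ∈ A) :
    e ⟨c, hc⟩ * e ⟨a, ha⟩ = e ⟨a, ha⟩ * e ⟨c, hc⟩ ↔ c * a = a * c := by
  rw [← map_mul, ← map_mul, e.injective.eq_iff, Subtype.ext_iff]
  simp

/-- 2-elements of `A` are involutions -/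
theorem sq_of_pow_four {a : G} (ha : a ∈ A) (h : a ^ 4 = 1) : a * a = 1 :=
  (val_sq e ha).1 (f1 _ ((val_pow e ha 4).2 h))

theorem pow_thirty {a : G} (ha : a ∈ A) : a ^ 30 = 1 := (val_pow e ha 30).1 (f8 _)

theorem sq_of_comm {a : G} (ha : a ∈ A) (h1 : a ≠ 1) (h2 : a * a = 1) {c : G} (hc : c ∈ A)
    (hac : c * a = a * c) : c * c = 1 :=
  (val_sq e hc).1 (f2 _ (fun h => h1 ((val_one e ha).1 h)) ((val_sq e ha).2 h2) _
    ((val_comm e ha hc).2 hac))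

theorem card_comm {a : G} (ha : a ∈ A) (h1 : a ≠ 1) (h2 : a * a = 1) :
    Nat.card {c : G // c ∈ A ∧ c * a = a * c} = 4 := by
  rw [← f3 _ (fun h => h1 ((val_one e ha).1 h)) ((val_sq e ha).2 h2), ← Nat.card_eq_fintype_card]
  apply Nat.card_congr
  refine ⟨fun c => ⟨e ⟨c.1, c.2.1⟩, (val_comm e ha c.2.1).2 c.2.2⟩,
    fun c => ⟨(e.symm c.1).1, (e.symm c.1).2, ?_⟩, fun c => ?_, fun c => ?_⟩
  · have h := c.2
    have h3 := (val_comm e ha (e.symm c.1).2).1 (by simpa using h)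
    exact h3
  · apply Subtype.ext
    simp
  · apply Subtype.ext
    simp

theorem exists_conj {a c : G} (ha : a ∈ A) (h1 : a ≠ 1) (h2 : a * a = 1) (hc : c ∈ A) (h3 : c ≠ 1)
    (h4 : c * c = 1) : ∃ g ∈ A, g * a * g⁻¹ = c := by
  obtain ⟨g, hg⟩ := f4 _ (fun h => h1 ((val_one e ha).1 h)) ((val_sq e ha).2 h2) _
    ((val_sq e hc).2 h4) (fun h => h3 ((val_one e hc).1 h))
  refine ⟨(e.symm g).1, (e.symm g).2, ?_⟩
  have h5 : e (e.symm g * ⟨a, ha⟩ * (e.symm g)⁻¹) = e ⟨c, hc⟩ := by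
    rw [map_mul, map_mul, map_inv, e.apply_symm_apply, hg]
  exact congrArg Subtype.val (e.injective h5)

theorem exists_three {a c : G} (ha : a ∈ A) (h1 : a ≠ 1) (h2 : a * a = 1) (hc : c ∈ A) (h3 : c ≠ 1)
    (h4 : c * c = 1) (h5 : c * a = a * c) (h6 : c ≠ a) :
    ∃ g ∈ A, g ^ 3 = 1 ∧ g * a * g⁻¹ = c ∧ g * c * g⁻¹ = a * c := by
  obtain ⟨g, hg3, hg, hg'⟩ := f5 _ (fun h => h1 ((val_one e ha).1 h)) ((val_sq e ha).2 h2) _
    ((val_sq e hc).2 h4) (fun h => h3 ((val_one e hc).1 h)) ((val_comm e ha hc).2 h5)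
    (fun h => h6 (congrArg Subtype.val (e.injective h)))
  refine ⟨(e.symm g).1, (e.symm g).2, ?_, ?_, ?_⟩
  · have h7 : (e.symm g) ^ 3 = 1 := by
      apply e.injective
      rw [map_pow, e.apply_symm_apply, hg3, map_one]
    exact congrArg Subtype.val h7
  · have h7 : e (e.symm g * ⟨a, ha⟩ * (e.symm g)⁻¹) = e ⟨c, hc⟩ := by
      rw [map_mul, map_mul, map_inv, e.apply_symm_apply, hg]
    exact congrArg Subtype.val (e.injective h7)
  · have h7 : e (e.symm g * ⟨c, hc⟩ * (e.symm g)⁻¹) = e (⟨a, ha⟩ * ⟨c, hc⟩) := by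
      rw [map_mul, map_mul, map_inv, e.apply_symm_apply, hg', map_mul]
    exact congrArg Subtype.val (e.injective h7)

theorem card_odd {a : G} (ha : a ∈ A) (h1 : a ≠ 1) (h2 : a * a = 1) :
    Nat.card {c : G // c ∈ A ∧ c ≠ 1 ∧ c * c = 1 ∧ (a * c) ^ 15 = 1} = 13 := by
  rw [← f6 _ (fun h => h1 ((val_one e ha).1 h)) ((val_sq e ha).2 h2), ← Nat.card_eq_fintype_card]
  apply Nat.card_congr
  have key : ∀ c (hc : c ∈ A), (e ⟨a, ha⟩ * e ⟨c, hc⟩) ^ 15 = 1 ↔ (a * c) ^ 15 = 1 := by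
    intro c hc
    rw [← map_mul, ← val_pow e (mul_mem ha hc)]
    rfl
  refine ⟨fun c => ⟨e ⟨c.1, c.2.1⟩, fun h => c.2.2.1 ((val_one e c.2.1).1 h),
      (val_sq e c.2.1).2 c.2.2.2.1, (key _ c.2.1).2 c.2.2.2.2⟩,
    fun c => ⟨(e.symm c.1).1, (e.symm c.1).2, ?_, ?_, ?_⟩, fun c => ?_, fun c => ?_⟩
  · intro h
    apply c.2.1
    rw [← (val_one e (e.symm c.1).2)] at h
    simpa using h
  · exact (val_sq e (e.symm c.1).2).1 (by simpa using c.2.2.1)
  · exact (key _ (e.symm c.1).2).1 (by simpa using c.2.2.2)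
  · apply Subtype.ext
    simp
  · apply Subtype.ext
    simp

theorem pow_five_of_comm {w c : G} (hw : w ∈ A) (h5 : w ^ 5 = 1) (h1 : w ≠ 1) (hc : c ∈ A)
    (h : c * w = w * c) : c ^ 5 = 1 :=
  (val_pow e hc 5).1 (f7 _ ((val_pow e hw 5).2 h5) (fun h => h1 ((val_one e hw).1 h)) _
    ((val_comm e hw hc).2 h))

theorem card_inv : Nat.card {c : G // c ∈ A ∧ c ≠ 1 ∧ c * c = 1} = 15 := by
  rw [← f9, ← Nat.card_eq_fintype_card]
  apply Nat.card_congr
  refine ⟨fun c => ⟨e ⟨c.1, c.2.1⟩, fun h => c.2.2.1 ((val_one e c.2.1).1 h),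
      (val_sq e c.2.1).2 c.2.2.2⟩,
    fun c => ⟨(e.symm c.1).1, (e.symm c.1).2, ?_, ?_⟩, fun c => ?_, fun c => ?_⟩
  · intro h
    apply c.2.1
    rw [← (val_one e (e.symm c.1).2)] at h
    simpa using h
  · exact (val_sq e (e.symm c.1).2).1 (by simpa using c.2.2)
  · apply Subtype.ext
    simp
  · apply Subtype.ext
    simp

theorem card_A : Nat.card A = 60 := by
  rw [Nat.card_congr e.toEquiv, Nat.card_eq_fintype_card, f10]

/-- `A` is centerless -/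
theorem center_trivial {a : G} (ha : a ∈ A) (h : ∀ c ∈ A, a * c = c * a) : a = 1 := by
  by_contra h1
  have key : ∀ a : Alt5, (∀ c : Alt5, a * c = c * a) → a = 1 := by
    intro a hc
    have := alternatingGroup.center_eq_bot (α := Fin 5) (by simp)
    have h2 : a ∈ center Alt5 := mem_center_iff.2 fun g => (hc g).symm
    rw [this, mem_bot] at h2
    exact h2
  apply h1
  rw [← val_one e ha]
  apply key
  intro c
  have h2 := (val_comm e (e.symm c).2 ha).2 (h _ (e.symm c).2)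
  simpa using h2

end A5

end Cfsg.Agent.StdG24.F
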