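import Mathlib

/-!
# Finite checks in the alternating group of degree five
-/

set_option autoImplicit false

namespace Cfsg.Agent.StdG24.F

open Subgroup

namespace A5

abbrev Alt5 := alternatingGroup (Fin 5)

set_option maxRecDepth 100000 in
theorem f1 : ∀ a : Alt5, a ^ 4 = 1 → a * a = 1 := by decide +kernel

set_option maxRecDepth 100000 in
theorem f2 : ∀ a : Alt5, a ≠ 1 → a * a = 1 → ∀ c : Alt5, c * a = a * c → c * c = 1 := by decide +kernel

set_option maxRecDepth 100000 in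
theorem f3 : ∀ a : Alt5, a ≠ 1 → a * a = 1 → Fintype.card {c : Alt5 // c * a = a * c} = 4 := by
  decide +kernel

set_option maxRecDepth 100000 in
theorem f4 : ∀ a : Alt5, a ≠ 1 → a * a = 1 → ∀ c : Alt5, c * c = 1 → c ≠ 1 → ∃ g : Alt5, g * a * g⁻¹ = c := by
  decide +kernel

set_option maxRecDepth 100000 in
theorem f5 : ∀ a : Alt5, a ≠ 1 → a * a = 1 → ∀ c : Alt5, c * c = 1 → c ≠ 1 → c * a = a * c → c ≠ a →
    ∃ g : Alt5, g ^ 3 = 1 ∧ g * a * g⁻¹ = c ∧ g * c * g⁻¹ = a * c := by decide +kernel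

set_option maxRecDepth 100000 in
theorem f6 : ∀ a : Alt5, a ≠ 1 → a * a = 1 →
    Fintype.card {c : Alt5 // c ≠ 1 ∧ c * c = 1 ∧ (a * c) ^ 15 = 1} = 13 := by decide +kernel

set_option maxRecDepth 100000 in
theorem f7 : ∀ w : Alt5, w ^ 5 = 1 → w ≠ 1 → ∀ c : Alt5, c * w = w * c → c ^ 5 = 1 := by decide +kernel

set_option maxRecDepth 100000 in
theorem f8 : ∀ a : Alt5, a ^ 30 = 1 := by decide +kernel

set_option maxRecDepth 100000 in
theorem f9 : Fintype.card {c : Alt5 // c ≠ 1 ∧ c * c = 1} = 15 := by decide +kernel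

set_option maxRecDepth 100000 in
theorem f10 : Fintype.card Alt5 = 60 := by decide +kernel

end A5

end Cfsg.Agent.StdG24.F
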