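import Cfsg.Agent.StdG24.F.A5
import Cfsg.Agent.StdAlt.Five.Coord

/-!
# Lemma F: the setting and the group `P` of order 64
(helper393, blueprints/S1767-F.md)
-/

set_option autoImplicit false

namespace Cfsg.Agent.StdG24.F

open Subgroup Cfsg.Agent.J2Sylow.Model Cfsg.Agent.StdAlt.Five

variable {G : Type*} [Group G]

/-- The setting of Lemma F: `R` is a four-group, `A ≅ A₅`, `C(r) = R × A` for all `r ∈ R#`, `B` is a
Sylow 2-subgroup of `A`, `ρ` an element of order 3 of `A` acting on `B`, and `b R b⁻¹ ≤ R B`,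
`b R b⁻¹ ≠ R`, `B ≤ b A b⁻¹`. -/
structure Hyp (R A B : Subgroup G) (ρ b : G) : Prop where
  cardR : Nat.card R = 4
  sqR : ∀ r ∈ R, r * r = 1
  comm : ∀ r ∈ R, ∀ a ∈ A, r * a = a * r
  cent : ∀ r ∈ R, r ≠ 1 → ∀ g, g * r = r * g → ∃ r' ∈ R, ∃ a ∈ A, g = r' * a
  eA : Nonempty (A ≃* A5.Alt5)
  B_le : B ≤ A
  cardB : Nat.card B = 4
  ρA : ρ ∈ A
  ρ3 : ρ ^ 3 = 1
  ρB : ∀ x ∈ B, ρ * x * ρ⁻¹ ∈ B
  ρfix : ∀ x ∈ B, ρ * x * ρ⁻¹ = x → x = 1
  bR : ∀ r ∈ R, ∃ r' ∈ R, ∃ x ∈ B, b * r * b⁻¹ = r' * x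
  bn : ∃ r ∈ R, b * r * b⁻¹ ∉ R
  bB : ∀ x ∈ B, b⁻¹ * x * b ∈ A

/-- `{p ∈ C(B) : [p, R] ≤ B}` -/
def PP (R B : Subgroup G) : Subgroup G where
  carrier := {p | (∀ x ∈ B, p * x = x * p) ∧ ∀ r ∈ R, p * r * p⁻¹ * r⁻¹ ∈ B}
  one_mem' := by
    refine ⟨fun x _ => by group, fun r _ => ?_⟩
    have : (1 : G) * r * 1⁻¹ * r⁻¹ = 1 := by group
    rw [this]; exact B.one_mem
  mul_mem' := by
    rintro p q ⟨h1, h2⟩ ⟨h3, h4⟩
    refine ⟨fun x hx => by rw [mul_assoc, h3 x hx, ← mul_assoc, h1 x hx, mul_assoc], fun r hr => ?_⟩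
    have e1 : p * q * r * (p * q)⁻¹ * r⁻¹ = (p * (q * r * q⁻¹ * r⁻¹) * p⁻¹) * (p * r * p⁻¹ * r⁻¹) := by
      group
    rw [e1, h1 _ (h4 r hr), mul_inv_cancel_right]
    exact B.mul_mem (h4 r hr) (h2 r hr)
  inv_mem' := by
    rintro p ⟨h1, h2⟩
    have h1' : ∀ x ∈ B, p⁻¹ * x = x * p⁻¹ := by
      intro x hx
      calc p⁻¹ * x = p⁻¹ * (x * p) * p⁻¹ := by group
        _ = x * p⁻¹ := by rw [← h1 x hx]; group
    refine ⟨h1', fun r hr => ?_⟩
    have e1 : p⁻¹ * r * p⁻¹⁻¹ * r⁻¹ = p⁻¹ * (p * r * p⁻¹ * r⁻¹)⁻¹ * p := by group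
    rw [e1, h1' _ (B.inv_mem (h2 r hr)), inv_mul_cancel_right]
    exact B.inv_mem (h2 r hr)

theorem mem_PP {R B : Subgroup G} {p : G} : p ∈ PP R B ↔
    (∀ x ∈ B, p * x = x * p) ∧ ∀ r ∈ R, p * r * p⁻¹ * r⁻¹ ∈ B := Iff.rfl

namespace Hyp

variable {R A B : Subgroup G} {ρ b : G} (H : Hyp R A B ρ b)
include H

theorem finR : Finite R := Nat.finite_of_card_ne_zero (by rw [H.cardR]; norm_num)

theorem finB : Finite B := Nat.finite_of_card_ne_zero (by rw [H.cardB]; norm_num)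

theorem invR {r : G} (hr : r ∈ R) : r⁻¹ = r := by
  rw [inv_eq_iff_mul_eq_one]; exact H.sqR r hr

theorem commR {r s : G} (hr : r ∈ R) (hs : s ∈ R) : r * s = s * r := by
  have h := H.sqR _ (R.mul_mem hr hs)
  calc r * s = (r * s)⁻¹ := by rw [eq_inv_iff_mul_eq_one]; exact h
    _ = s⁻¹ * r⁻¹ := by group
    _ = s * r := by rw [H.invR hr, H.invR hs]

theorem disj {r : G} (hr : r ∈ R) (ha : r ∈ A) : r = 1 := by
  obtain ⟨e⟩ := H.eA
  exact A5.center_trivial e ha fun c hc => H.comm r hr c hc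

theorem uniq {r r' a a' : G} (hr : r ∈ R) (hr' : r' ∈ R) (ha : a ∈ A) (ha' : a' ∈ A)
    (h : r * a = r' * a') : r = r' ∧ a = a' := by
  have h1 : r'⁻¹ * r = a' * a⁻¹ := by
    rw [eq_mul_inv_iff_mul_eq, mul_assoc, h]; group
  have h2 : r'⁻¹ * r = 1 := by
    apply H.disj (R.mul_mem (R.inv_mem hr') hr)
    rw [h1]
    exact A.mul_mem ha' (A.inv_mem ha)
  have h3 : r = r' := by
    rw [inv_mul_eq_one] at h2; exact h2.symm
  refine ⟨h3, ?_⟩
  rw [h3] at h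
  exact mul_left_cancel h

theorem sqB {x : G} (hx : x ∈ B) : x * x = 1 := by
  obtain ⟨e⟩ := H.eA
  apply A5.sq_of_pow_four e (H.B_le hx)
  have h : (⟨x, hx⟩ : B) ^ Nat.card B = 1 := pow_card_eq_one'
  rw [H.cardB] at h
  exact congrArg Subtype.val h

theorem invB {r : G} (hr : r ∈ B) : r⁻¹ = r := by
  rw [inv_eq_iff_mul_eq_one]; exact H.sqB hr

theorem commB {r s : G} (hr : r ∈ B) (hs : s ∈ B) : r * s = s * r := by
  have h := H.sqB (B.mul_mem hr hs)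
  calc r * s = (r * s)⁻¹ := by rw [eq_inv_iff_mul_eq_one]; exact h
    _ = s⁻¹ * r⁻¹ := by group
    _ = s * r := by rw [H.invB hr, H.invB hs]

theorem disjB {r : G} (hr : r ∈ R) (ha : r ∈ B) : r = 1 := H.disj hr (H.B_le ha)

/-- the centralizer in `A` of an involution of `B` is `B` -/
theorem mem_B_of_comm {x a : G} (hx : x ∈ B) (hx1 : x ≠ 1) (ha : a ∈ A) (h : a * x = x * a) :
    a ∈ B := by
  classical
  obtain ⟨e⟩ := H.eA
  have h1 := A5.card_comm e (H.B_le hx) hx1 (H.sqB hx)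
  haveI := H.finB
  haveI : Finite {c : G // c ∈ A ∧ c * x = x * c} :=
    Nat.finite_of_card_ne_zero (by rw [h1]; norm_num)
  let f : B → {c : G // c ∈ A ∧ c * x = x * c} := fun y => ⟨y, H.B_le y.2, H.commB y.2 hx⟩
  have hf : Function.Injective f := by
    intro y y' hyy
    have h2 : (f y).1 = (f y').1 := by rw [hyy]
    exact Subtype.ext h2
  have hb := hf.bijective_of_nat_card_le (by rw [h1, H.cardB])
  obtain ⟨y, hy⟩ := hb.2 ⟨a, ha, h⟩
  have : (y : G) = a := congrArg Subtype.val hy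
  rw [← this]
  exact y.2

/-- `C(R) ∩ C(B) = R B` in the strong form -/
theorem mem_of_comm {r x g : G} (hr : r ∈ R) (hr1 : r ≠ 1) (hx : x ∈ B) (hx1 : x ≠ 1)
    (h1 : g * r = r * g) (h2 : g * x = x * g) : ∃ r' ∈ R, ∃ y ∈ B, g = r' * y := by
  obtain ⟨r', hr', a, ha, rfl⟩ := H.cent r hr hr1 g h1
  refine ⟨r', hr', a, ?_, rfl⟩
  apply H.mem_B_of_comm hx hx1 ha
  have h3 := H.comm r' hr' x (H.B_le hx)
  calc a * x = r'⁻¹ * (r' * a * x) := by group
    _ = r'⁻¹ * (x * r' * a) := by rw [h2]; group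
    _ = r'⁻¹ * (r' * x * a) := by rw [← h3]
    _ = x * a := by group

theorem exists_neR : ∃ r ∈ R, r ≠ 1 := by
  haveI := H.finR
  haveI : Nontrivial R := (Finite.one_lt_card_iff_nontrivial).mp (by rw [H.cardR]; norm_num)
  obtain ⟨⟨r, hr⟩, hrn⟩ := exists_ne (1 : R)
  exact ⟨r, hr, fun h => hrn (Subtype.ext h)⟩

theorem exists_neB : ∃ r ∈ B, r ≠ 1 := by
  haveI := H.finB
  haveI : Nontrivial B := (Finite.one_lt_card_iff_nontrivial).mp (by rw [H.cardB]; norm_num)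
  obtain ⟨⟨r, hr⟩, hrn⟩ := exists_ne (1 : B)
  exact ⟨r, hr, fun h => hrn (Subtype.ext h)⟩

/-- `b R b⁻¹ ∩ R = 1` -/
theorem inf_bR {r : G} (hr : r ∈ R) (h : b * r * b⁻¹ ∈ R) : r = 1 := by
  by_contra hr1
  -- `s = b r b⁻¹`, `C(s) = R A = b R A b⁻¹`
  set s := b * r * b⁻¹ with hs
  have hs1 : s ≠ 1 := by
    intro h0
    apply hr1
    have : r = b⁻¹ * s * b := by rw [hs]; group
    rw [this, h0]; group
  obtain ⟨r0, hr0, hr0n⟩ := H.bn
  apply hr0n
  -- `u = b r0 b⁻¹` commutes with `s`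
  have hus : b * r0 * b⁻¹ * s = s * (b * r0 * b⁻¹) := by
    rw [hs]
    calc b * r0 * b⁻¹ * (b * r * b⁻¹) = b * (r0 * r) * b⁻¹ := by group
      _ = b * (r * r0) * b⁻¹ := by rw [H.commR hr0 hr]
      _ = _ := by group
  obtain ⟨r', hr', a, ha, hu⟩ := H.cent s h hs1 _ hus
  have ha1 : a = 1 := by
    obtain ⟨e⟩ := H.eA
    apply A5.center_trivial e ha
    intro c hc
    -- `c ∈ C(s) = b (R A) b⁻¹`
    have hcs : b⁻¹ * c * b * r = r * (b⁻¹ * c * b) := by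
      have h1 := (H.comm s h c hc).symm
      calc b⁻¹ * c * b * r = b⁻¹ * (c * s) * b := by rw [hs]; group
        _ = b⁻¹ * (s * c) * b := by rw [h1]
        _ = r * (b⁻¹ * c * b) := by rw [hs]; group
    obtain ⟨r2, hr2, a2, ha2, hc2⟩ := H.cent r hr hr1 _ hcs
    have h2 : b⁻¹ * c * b * r0 = r0 * (b⁻¹ * c * b) := by
      rw [hc2]
      calc r2 * a2 * r0 = r2 * (a2 * r0) := by group
        _ = r2 * r0 * a2 := by rw [← H.comm r0 hr0 a2 ha2]; group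
        _ = r0 * (r2 * a2) := by rw [H.commR hr2 hr0]; group
    have h3 : c * (b * r0 * b⁻¹) = b * r0 * b⁻¹ * c := by
      calc c * (b * r0 * b⁻¹) = b * (b⁻¹ * c * b * r0) * b⁻¹ := by group
        _ = b * r0 * b⁻¹ * c := by rw [h2]; group
    rw [hu] at h3
    have h4 := H.comm r' hr' c hc
    have h5 : r' * (c * a) = r' * (a * c) := by
      calc r' * (c * a) = (r' * c) * a := by group
        _ = c * (r' * a) := by rw [h4]; group
        _ = r' * (a * c) := by rw [h3]; group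
    exact (mul_left_cancel h5).symm
  rw [hu, ha1, mul_one]
  exact hr'

/-- every element of `R` is `b`-congruent to an element of `R` modulo `B` -/
theorem exists_lift {r : G} (hr : r ∈ R) : ∃ s ∈ R, ∃ x ∈ B, b * s * b⁻¹ = r * x := by
  classical
  haveI := H.finR
  choose f hf g hg hfg using H.bR
  let F : R → R := fun r => ⟨f r r.2, hf r r.2⟩
  have hF : Function.Injective F := by
    intro r s hrs
    have h1 : f r r.2 = f s s.2 := congrArg Subtype.val hrs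
    have h2 := hfg r r.2
    have h3 := hfg s s.2
    -- `b (r s) b⁻¹ ∈ B`
    have h4 : b * (r * s : G) * b⁻¹ = g r r.2 * g s s.2 := by
      calc b * ((r : G) * s) * b⁻¹ = (b * r * b⁻¹) * (b * s * b⁻¹) := by group
        _ = (f r r.2 * g r r.2) * (f r r.2 * g s s.2) := by rw [h2, h3, h1]
        _ = (g r r.2 * f r r.2) * (f r r.2 * g s s.2) := by
            rw [H.comm _ (hf r r.2) _ (H.B_le (hg r r.2))]
        _ = g r r.2 * (f r r.2 * f r r.2) * g s s.2 := by group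
        _ = _ := by rw [H.sqR _ (hf r r.2), mul_one]
    have h5 : (r : G) * s ∈ A := by
      have h6 : (r : G) * s = b⁻¹ * (g r r.2 * g s s.2) * b := by rw [← h4]; group
      rw [h6]
      exact H.bB _ (B.mul_mem (hg r r.2) (hg s s.2))
    have h7 := H.disj (R.mul_mem r.2 s.2) h5
    apply Subtype.ext
    rw [mul_eq_one_iff_eq_inv, H.invR s.2] at h7
    exact h7
  obtain ⟨s, hs⟩ := (Finite.injective_iff_surjective.1 hF) ⟨r, hr⟩
  refine ⟨s, s.2, g s s.2, hg s s.2, ?_⟩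
  rw [hfg s s.2]
  have : f s s.2 = r := congrArg Subtype.val hs
  rw [this]

/-- an element acting on `B` with order 3 and centralizing `b R b⁻¹`, with the same action as `ρ` -/
theorem exists_rho1 : ∃ τ : G, (∀ x ∈ B, τ * x * τ⁻¹ = ρ * x * ρ⁻¹) ∧
    ∀ r ∈ R, τ * (b * r * b⁻¹) = b * r * b⁻¹ * τ := by
  obtain ⟨e⟩ := H.eA
  obtain ⟨x, hx, hx1⟩ := H.exists_neB
  set y := ρ * x * ρ⁻¹ with hy
  have hyB : y ∈ B := H.ρB x hx
  have hyx : y ≠ x := fun h => hx1 (H.ρfix x hx h)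
  have hy1 : y ≠ 1 := by
    intro h
    apply hx1
    have : x = ρ⁻¹ * y * ρ := by rw [hy]; group
    rw [this, h]; group
  -- transport to `A` by `b`
  have hx' := H.bB x hx
  have hy' := H.bB y hyB
  have t1 : ∀ z : G, b⁻¹ * z * b = 1 → z = 1 := by
    intro z h
    have : z = b * (b⁻¹ * z * b) * b⁻¹ := by group
    rw [this, h]; group
  have hx2 := H.sqB hx
  have hy2 := H.sqB hyB
  have hxy := H.commB hyB hx
  obtain ⟨g, hg, hg3, hgx, hgy⟩ := A5.exists_three e hx' (fun h => hx1 (t1 _ h))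
    (by calc b⁻¹ * x * b * (b⁻¹ * x * b) = b⁻¹ * (x * x) * b := by group
          _ = 1 := by rw [hx2]; group) hy' (fun h => hy1 (t1 _ h))
    (by calc b⁻¹ * y * b * (b⁻¹ * y * b) = b⁻¹ * (y * y) * b := by group
          _ = 1 := by rw [hy2]; group)
    (by calc b⁻¹ * y * b * (b⁻¹ * x * b) = b⁻¹ * (y * x) * b := by group
          _ = b⁻¹ * (x * y) * b := by rw [hxy]
          _ = b⁻¹ * x * b * (b⁻¹ * y * b) := by group)
    (by
      intro h
      apply hyx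
      calc y = b * (b⁻¹ * y * b) * b⁻¹ := by group
        _ = x := by rw [h]; group)
  refine ⟨b * g * b⁻¹, ?_, ?_⟩
  · -- the action on `B`
    have e1 : b * g * b⁻¹ * x * (b * g * b⁻¹)⁻¹ = y := by
      calc b * g * b⁻¹ * x * (b * g * b⁻¹)⁻¹ = b * (g * (b⁻¹ * x * b) * g⁻¹) * b⁻¹ := by group
        _ = y := by rw [hgx]; group
    have e2 : b * g * b⁻¹ * y * (b * g * b⁻¹)⁻¹ = x * y := by
      calc b * g * b⁻¹ * y * (b * g * b⁻¹)⁻¹ = b * (g * (b⁻¹ * y * b) * g⁻¹) * b⁻¹ := by group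
        _ = x * y := by rw [hgy]; group
    -- `ρ y ρ⁻¹ = x y`
    have hz : ρ * y * ρ⁻¹ ∈ B := H.ρB y hyB
    have key : ∀ z ∈ B, z = 1 ∨ z = x ∨ z = y ∨ z = x * y := by
      classical
      intro z hz
      by_contra hcon
      push Not at hcon
      obtain ⟨c1, c2, c3, c4⟩ := hcon
      haveI := H.finB
      have hxyB := B.mul_mem hx hyB
      have n1 : x * y ≠ 1 := by
        intro h
        apply hyx
        rw [mul_eq_one_iff_eq_inv, H.invB hyB] at h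
        exact h.symm
      have n2 : x * y ≠ x := fun h => hy1 (by simpa using h)
      have n3 : x * y ≠ y := fun h => hx1 (by simpa using h)
      have hc : ({⟨1, B.one_mem⟩, ⟨x, hx⟩, ⟨y, hyB⟩, ⟨x * y, hxyB⟩, ⟨z, hz⟩} : Finset B).card ≤
          Nat.card B := by
        haveI := Fintype.ofFinite B
        rw [Nat.card_eq_fintype_card]
        exact Finset.card_le_univ _
      rw [H.cardB] at hc
      rw [Finset.card_insert_of_notMem, Finset.card_insert_of_notMem, Finset.card_insert_of_notMem,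
        Finset.card_insert_of_notMem, Finset.card_singleton] at hc
      · omega
      · simp only [Finset.mem_singleton, Subtype.mk.injEq]
        exact fun h => c4 h.symm
      · simp only [Finset.mem_insert, Finset.mem_singleton, Subtype.mk.injEq, not_or]
        exact ⟨fun h => n3 h.symm, fun h => c3 h.symm⟩
      · simp only [Finset.mem_insert, Finset.mem_singleton, Subtype.mk.injEq, not_or]
        exact ⟨fun h => hyx h.symm, fun h => n2 h.symm, fun h => c2 h.symm⟩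
      · simp only [Finset.mem_insert, Finset.mem_singleton, Subtype.mk.injEq, not_or]
        exact ⟨fun h => hx1 h.symm, fun h => hy1 h.symm, fun h => n1 h.symm, fun h => c1 h.symm⟩
    have hρy : ρ * y * ρ⁻¹ = x * y := by
      rcases key _ hz with h | h | h | h
      · exfalso
        apply hy1
        have : y = ρ⁻¹ * (ρ * y * ρ⁻¹) * ρ := by group
        rw [this, h]; group
      · exfalso
        -- `ρ³ = 1` would give `ρ x ρ⁻¹ = x`-type contradiction: `ρ² x ρ⁻² = x` so `ρ x ρ⁻¹ = x`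
        apply hyx
        have h3 := H.ρ3
        have h4 : ρ ^ 3 * x * (ρ ^ 3)⁻¹ = y := by
          calc ρ ^ 3 * x * (ρ ^ 3)⁻¹ = ρ * (ρ * (ρ * x * ρ⁻¹) * ρ⁻¹) * ρ⁻¹ := by
                rw [pow_succ, pow_two]; group
            _ = y := by rw [← hy, h]
        rw [h3] at h4
        rw [← h4]; group
      · exact absurd (H.ρfix y hyB h) hy1
      · exact h
    intro z hz
    rcases key z hz with rfl | rfl | rfl | rfl
    · group
    · exact e1
    · rw [e2, hρy]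
    · calc b * g * b⁻¹ * (x * y) * (b * g * b⁻¹)⁻¹
          = (b * g * b⁻¹ * x * (b * g * b⁻¹)⁻¹) * (b * g * b⁻¹ * y * (b * g * b⁻¹)⁻¹) := by group
        _ = (ρ * x * ρ⁻¹) * (ρ * y * ρ⁻¹) := by rw [e1, e2, hρy]
        _ = _ := by group
  · intro r hr
    have h := H.comm r hr g hg
    calc b * g * b⁻¹ * (b * r * b⁻¹) = b * (g * r) * b⁻¹ := by group
      _ = b * (r * g) * b⁻¹ := by rw [h]
      _ = _ := by group

/-- a translation -/
theorem exists_trans : ∃ p ∈ PP R B, ∀ r ∈ R, r ≠ 1 → p * r ≠ r * p := by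
  obtain ⟨τ, hτB, hτR⟩ := H.exists_rho1
  have key : ∀ r ∈ R, ∃ s ∈ R, ∃ x ∈ B, b * s * b⁻¹ = r * x ∧
      (τ * ρ⁻¹) * r * (τ * ρ⁻¹)⁻¹ * r⁻¹ = x * (ρ * x * ρ⁻¹)⁻¹ := by
    intro r hr
    obtain ⟨s, hs, x, hx, h⟩ := H.exists_lift hr
    refine ⟨s, hs, x, hx, h, ?_⟩
    have h1 : r = b * s * b⁻¹ * x⁻¹ := by rw [h]; group
    have h2 : ρ⁻¹ * r * ρ = r := by
      rw [mul_assoc, H.comm r hr ρ H.ρA]; group
    have h3 := hτR s hs
    have h4 := hτB x hx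
    have h5 : (ρ * x * ρ⁻¹)⁻¹ ∈ B := B.inv_mem (H.ρB x hx)
    have h6 := H.comm r hr _ (H.B_le h5)
    calc (τ * ρ⁻¹) * r * (τ * ρ⁻¹)⁻¹ * r⁻¹ = τ * (ρ⁻¹ * r * ρ) * τ⁻¹ * r⁻¹ := by group
      _ = τ * (b * s * b⁻¹ * x⁻¹) * τ⁻¹ * r⁻¹ := by rw [h2, ← h1]
      _ = (τ * (b * s * b⁻¹)) * τ⁻¹ * (τ * x * τ⁻¹)⁻¹ * r⁻¹ := by group
      _ = (b * s * b⁻¹) * (ρ * x * ρ⁻¹)⁻¹ * r⁻¹ := by rw [h3, h4]; group
      _ = x * (r * (ρ * x * ρ⁻¹)⁻¹) * r⁻¹ := by
          rw [h, H.comm r hr x (H.B_le hx)]; group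
      _ = x * (ρ * x * ρ⁻¹)⁻¹ := by rw [h6]; group
  refine ⟨τ * ρ⁻¹, ⟨?_, ?_⟩, ?_⟩
  · intro x hx
    have h1 : ρ⁻¹ * x * ρ ∈ B := by
      have h2 := H.ρ3
      have h3 : ρ⁻¹ = ρ * ρ := by
        rw [inv_eq_iff_mul_eq_one, ← mul_assoc, ← pow_three', h2]
      have h4 : ρ⁻¹ * x * ρ = ρ * (ρ * x * ρ⁻¹) * ρ⁻¹ := by
        calc ρ⁻¹ * x * ρ = ρ⁻¹ * x * ρ⁻¹⁻¹ := by group
          _ = (ρ * ρ) * x * (ρ * ρ)⁻¹ := by rw [h3]
          _ = _ := by group
      rw [h4]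
      exact H.ρB _ (H.ρB _ hx)
    have h2 := hτB _ h1
    calc τ * ρ⁻¹ * x = (τ * (ρ⁻¹ * x * ρ) * τ⁻¹) * (τ * ρ⁻¹) := by group
      _ = x * (τ * ρ⁻¹) := by rw [h2]; group
  · intro r hr
    obtain ⟨s, hs, x, hx, -, h⟩ := key r hr
    rw [h]
    exact B.mul_mem hx (B.inv_mem (H.ρB x hx))
  · intro r hr hr1 hc
    obtain ⟨s, hs, x, hx, h, h'⟩ := key r hr
    have h2 : (τ * ρ⁻¹) * r * (τ * ρ⁻¹)⁻¹ * r⁻¹ = 1 := by rw [hc]; group
    rw [h2] at h'
    have h3 : x = 1 := by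
      apply H.ρfix x hx
      rw [eq_comm, mul_inv_eq_one] at h'
      exact h'.symm
    rw [h3, mul_one] at h
    have h4 : s = 1 := H.inf_bR hs (by rw [h]; exact hr)
    rw [h4] at h
    apply hr1
    rw [← h]; group

end Hyp

end Cfsg.Agent.StdG24.F
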