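import Cfsg.Agent.StdG24.F.CaseI

/-!
# Lemma F, case II: `P` is not a Sylow 2-subgroup
(helper393, blueprints/S1767-F.md)
-/

set_option autoImplicit false

namespace Cfsg.Agent.StdG24.F

open Subgroup Cfsg.Agent.J2Sylow.Model Cfsg.Agent.StdAlt.Five

/-- maximal 2-subgroups of `N` -/
theorem exists_max {G : Type*} [Group G] [Finite G] {Q N : Subgroup G} (h : Q ≤ N)
    (h2 : IsPGroup 2 Q) : ∃ U : Subgroup G, Q ≤ U ∧ U ≤ N ∧ IsPGroup 2 U ∧
      ∀ T : Subgroup G, T ≤ N → IsPGroup 2 T → U ≤ T → T = U := by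
  have : Fact (Nat.Prime 2) := ⟨Nat.prime_two⟩
  obtain ⟨W, hW⟩ := (h2.comap_of_injective N.subtype N.subtype_injective).exists_le_sylow
  refine ⟨(W : Subgroup N).map N.subtype, ?_, Subgroup.map_subtype_le _, W.isPGroup'.map _, ?_⟩
  · intro q hq
    exact ⟨⟨q, h hq⟩, hW (Subgroup.mem_comap.2 hq), rfl⟩
  · intro T hTN hT hle
    have h3 := W.is_maximal' (hT.comap_of_injective N.subtype N.subtype_injective) (by
      intro w hw
      rw [Subgroup.mem_comap]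
      exact hle ⟨w, hw, rfl⟩)
    rw [← h3]
    ext t
    constructor
    · intro ht
      exact ⟨⟨t, hTN ht⟩, ht, rfl⟩
    · rintro ⟨⟨s, hs⟩, hs', rfl⟩
      exact hs'

/-- the data of case II -/
structure Two {G : Type*} [Group G] (R A B : Subgroup G) (ρ b : G) (S : Subgroup G)
    (X Y Z : F4 → G) : Prop where
  hyp : Hyp R A B ρ b
  frame : Coord.Frame R B (PP R B) ρ 0 X Y Z
  pS : IsPGroup 2 S
  max : ∀ T : Subgroup G, IsPGroup 2 T → S ≤ T → T = S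
  le : PP R B ≤ S
  ex : ∃ g ∈ S, g ∉ PP R B
  sw : ∀ g ∈ S, g ∉ PP R B → Sw R B Y Z g
  idx : ∀ g ∈ S, g ∉ PP R B → ∀ h ∈ S, h ∉ PP R B → g * h ∈ PP R B
  nP : ∀ g ∈ S, ∀ p ∈ PP R B, g * p * g⁻¹ ∈ PP R B

/-- either `P` is Sylow or we have the data of case II -/
theorem Hyp.cases {G : Type*} [Group G] [Finite G] {R A B : Subgroup G} {ρ b : G}
    (H : Hyp R A B ρ b) : (∀ T : Subgroup G, IsPGroup 2 T → PP R B ≤ T → T = PP R B) ∨
      ∃ S X Y Z, Two R A B ρ b S X Y Z := by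
  by_cases h : ∀ T : Subgroup G, IsPGroup 2 T → PP R B ≤ T → T = PP R B
  · exact Or.inl h
  right
  push Not at h
  obtain ⟨T, hT, hPT, hne⟩ := h
  obtain ⟨S, hS1, -, hS2, hS3⟩ := exists_max (le_top (a := T)) hT
  obtain ⟨ε, X, Y, Z, hε, F⟩ := H.data.exists_frame
  have hPS := hPT.trans hS1
  have hne' : PP R B ≠ S := by
    intro h
    apply hne
    apply le_antisymm _ hPT
    rw [h]; exact hS1
  obtain ⟨h0, h1, h2, h3⟩ := H.syl_cases F hS2 hPS hne'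
  subst h0
  exact ⟨S, X, Y, Z, H, F, hS2, fun T hT hle => hS3 T le_top hT hle, hPS, h1, h2, h3,
    H.norm_PP F hS2 hPS⟩

namespace Hyp

variable {G : Type*} [Group G] {R A B : Subgroup G} {ρ b : G} (H : Hyp R A B ρ b)
include H

theorem exists_k {x z : G} (hx : x ∈ B) (hx1 : x ≠ 1) (hz : z ∈ B) (hz1 : z ≠ 1) :
    ∃ k : G, (∀ y ∈ B, k * y * k⁻¹ ∈ B) ∧ (∀ y ∈ B, k⁻¹ * y * k ∈ B) ∧ k * x * k⁻¹ = z := by
  rcases H.fourB hx hx1 z hz with h | h | h | h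
  · exact absurd h hz1
  · exact ⟨1, by simp, by simp, by rw [h]; simp⟩
  · exact ⟨ρ, H.ρB, fun y hy => H.invρ hy, h.symm⟩
  · refine ⟨ρ⁻¹, fun y hy => by rw [inv_inv]; exact H.invρ hy,
      fun y hy => by rw [inv_inv]; exact H.ρB y hy, ?_⟩
    rw [inv_inv]
    have h2 := H.ρ3
    have h3 : ρ⁻¹ = ρ * ρ := by
      rw [inv_eq_iff_mul_eq_one, ← mul_assoc, ← pow_three', h2]
    rcases H.fourB hx hx1 _ (H.invρ hx) with h4 | h4 | h4 | h4
    · exfalso
      apply hx1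
      have : x = ρ * (ρ⁻¹ * x * ρ) * ρ⁻¹ := by group
      rw [this, h4]; group
    · exfalso
      apply hx1
      apply H.ρfix x hx
      calc ρ * x * ρ⁻¹ = ρ * (ρ⁻¹ * x * ρ) * ρ⁻¹ := by rw [h4]
        _ = x := by group
    · exfalso
      apply hx1
      apply H.ρfix x hx
      have h5 : ρ * (ρ * x * ρ⁻¹) * ρ⁻¹ = x := by rw [← h4]; group
      calc ρ * x * ρ⁻¹ = ρ⁻¹ * x * ρ := h4.symm
        _ = (ρ * ρ) * x * (ρ * ρ)⁻¹ := by rw [← h3]; group
        _ = ρ * (ρ * x * ρ⁻¹) * ρ⁻¹ := by group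
        _ = x := h5
    · rw [h4, h]

/-- an element normalising `B`, in the inverse form -/
theorem norm_inv {g : G} (hg : ∀ y ∈ B, g * y * g⁻¹ ∈ B) : ∀ y ∈ B, g⁻¹ * y * g ∈ B := by
  have := H.finB
  have hinj : Function.Injective (fun p : B => (⟨g * p * g⁻¹, hg p p.2⟩ : B)) := by
    intro p q h
    have h3 : g * (p : G) * g⁻¹ = g * q * g⁻¹ := congrArg Subtype.val h
    exact Subtype.ext (mul_left_cancel (mul_right_cancel h3))
  intro y hy
  obtain ⟨q, hq⟩ := (Finite.injective_iff_surjective.1 hinj) ⟨y, hy⟩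
  have h3 : g * (q : G) * g⁻¹ = y := congrArg Subtype.val hq
  rw [← h3]
  have : g⁻¹ * (g * (q : G) * g⁻¹) * g = q := by group
  rw [this]; exact q.2

end Hyp

namespace Two

variable {G : Type*} [Group G] [Finite G] {R A B : Subgroup G} {ρ b : G} {S : Subgroup G}
  {X Y Z : F4 → G} (W : Two R A B ρ b S X Y Z)
include W

/-- the elements of `Q \ B` are of type t -/
theorem tt_Q {b' : F4} (hb : b' ≠ 0) (c : F4) : TT R (Y b' * Z c) := by
  obtain ⟨g, hg, hgP⟩ := W.ex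
  have hsw := W.sw g hg hgP
  obtain ⟨r, hr, x, hx, h⟩ := hsw.QE b'
  have hr1 : r ≠ 1 := by
    intro h1
    rw [h1, one_mul] at h
    have h2 : g * Y b' * g⁻¹ ∈ B := by rw [h]; exact hx
    have h3 := W.hyp.norm_inv hsw.BB _ h2
    have h4 : g⁻¹ * (g * Y b' * g⁻¹) * g = Y b' := by group
    rw [h4] at h3
    obtain ⟨c', hc'⟩ := W.frame.Z_surj _ h3
    apply hb
    have h5 : Y b' * X 0 * Z 0 = Y 0 * X 0 * Z c' := by
      rw [W.frame.X_zero, W.frame.Y_zero, W.frame.Z_zero, hc']; simp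
    exact (W.frame.inj _ _ _ _ _ _ h5).1
  have h2 : Y b' * Z c = g⁻¹ * (r * (x * (g * Z c * g⁻¹))) * g⁻¹⁻¹ := by
    have h3 : g * (Y b' * Z c) * g⁻¹ = r * (x * (g * Z c * g⁻¹)) := by
      calc g * (Y b' * Z c) * g⁻¹ = (g * Y b' * g⁻¹) * (g * Z c * g⁻¹) := by group
        _ = _ := by rw [h, mul_assoc]
    rw [← h3]; group
  rw [h2]
  exact (W.hyp.tt_E hr hr1 (B.mul_mem hx (hsw.BB _ (W.frame.Z_mem c)))).conj' _

/-- involutions of type x in `P` lie in `B` -/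
theorem xt_P {p : G} (hp : p ∈ PP R B) (hx : XT B p) : p ∈ B := by
  have hsq : p * p = 1 := by
    obtain ⟨x, hx, hx1, hc⟩ := hx
    obtain ⟨k, rfl⟩ := isConj_iff.1 hc
    calc k * x * k⁻¹ * (k * x * k⁻¹) = k * (x * x) * k⁻¹ := by group
      _ = 1 := by rw [W.hyp.sqB hx]; group
  obtain ⟨b', a, c, rfl⟩ := W.frame.P_surj p hp
  rcases frame_inv W.hyp.data W.frame hsq with h | h
  · by_cases ha : a = 0
    · rw [h, ha, W.frame.X_zero, W.frame.Y_zero, one_mul, one_mul]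
      exact W.frame.Z_mem c
    · exfalso
      apply W.hyp.not_both _ hx
      rw [h, W.frame.Y_zero, one_mul]
      apply W.hyp.tt_E (W.frame.X_mem a) _ (W.frame.Z_mem c)
      intro h1
      apply ha
      apply W.frame.X_inj
      rw [h1, W.frame.X_zero]
  · by_cases hb : b' = 0
    · rw [h, hb, W.frame.X_zero, W.frame.Y_zero, one_mul, one_mul]
      exact W.frame.Z_mem c
    · exfalso
      apply W.hyp.not_both _ hx
      rw [h, W.frame.X_zero, mul_one]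
      exact W.tt_Q hb c

/-- elements of `S` normalise `B` -/
theorem nB {g : G} (hg : g ∈ S) : ∀ x ∈ B, g * x * g⁻¹ ∈ B := by
  intro x hx
  by_cases h : g ∈ PP R B
  · rw [h.1 x hx, mul_inv_cancel_right]; exact hx
  · exact (W.sw g hg h).BB x hx

/-- `S` centralises an element of `B` -/
theorem exists_x : ∃ x ∈ B, x ≠ 1 ∧ ∀ s ∈ S, s * x = x * s := by
  obtain ⟨x, hx, hx1, h⟩ := exists_fix W.pS W.hyp.finB (by rw [W.hyp.cardB]; norm_num)
    (fun t ht k hk => W.nB ht k hk)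
  refine ⟨x, hx, hx1, fun s hs => ?_⟩
  have := h s hs
  calc s * x = s * x * s⁻¹ * s := by group
    _ = x * s := by rw [this]

theorem B_le : B ≤ S := W.hyp.B_le_PP.trans W.le

/-- case II.1: all elements of type x in `S` are in `B`; then those in `C(x)` are, too -/
theorem caseOne (hno : ∀ g ∈ S, g ∉ PP R B → ¬ XT B g) :
    ∀ x ∈ B, x ≠ 1 → ∀ y, y * x = x * y → XT B y → y ∈ B := by
  obtain ⟨x0, hx0, hx01, hSx⟩ := W.exists_x
  have hall : ∀ g ∈ S, XT B g → g ∈ B := by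
    intro g hg hgx
    by_cases h : g ∈ PP R B
    · exact W.xt_P h hgx
    · exact absurd hgx (hno g hg h)
  have hnorm := W.hyp.normal_of_iso W.pS W.max W.le hx0 hx01 hSx (by
    intro c _ y hy h
    by_cases hy1 : y = 1
    · rw [hy1]
      have : c * 1 * c⁻¹ = 1 := by group
      rw [this]; exact B.one_mem
    · exact hall _ h ((W.hyp.xt_B hy hy1).conj' c))
  have hx0' : ∀ y, y * x0 = x0 * y → XT B y → y ∈ B := by
    intro y hy hxt
    have hsq : y * y = 1 := by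
      obtain ⟨x, hx, hx1, hc⟩ := hxt
      obtain ⟨k, rfl⟩ := isConj_iff.1 hc
      calc k * x * k⁻¹ * (k * x * k⁻¹) = k * (x * x) * k⁻¹ := by group
        _ = 1 := by rw [W.hyp.sqB hx]; group
    obtain ⟨n, hn1, hn2⟩ := exists_conj_le (N := Subgroup.centralizer ({x0} : Set G)) W.pS W.max
      (fun s hs => Subgroup.mem_centralizer_singleton_iff.2 (hSx s hs))
      (isPGroup_zpowers_of_sq hsq) (by
        rw [Subgroup.zpowers_le]
        exact Subgroup.mem_centralizer_singleton_iff.2 hy)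
    have h1 := hall _ (hn2 y (Subgroup.mem_zpowers y)) (hxt.conj' n)
    rw [Subgroup.mem_centralizer_singleton_iff] at hn1
    have h2 := W.hyp.norm_inv (hnorm n hn1) _ h1
    have h3 : n⁻¹ * (n * y * n⁻¹) * n = y := by group
    rw [h3] at h2
    exact h2
  intro x hx hx1 y hy hxt
  obtain ⟨k, hk1, hk2, hk3⟩ := W.hyp.exists_k hx0 hx01 hx hx1
  have h1 : k⁻¹ * y * k⁻¹⁻¹ ∈ B := by
    apply hx0' _ _ (hxt.conj' _)
    rw [inv_inv]
    have h2 : x0 = k⁻¹ * x * k := by rw [← hk3]; group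
    rw [h2]
    calc k⁻¹ * y * k * (k⁻¹ * x * k) = k⁻¹ * (y * x) * k := by group
      _ = k⁻¹ * x * k * (k⁻¹ * y * k) := by rw [hy]; group
  have h3 := hk1 _ h1
  have h4 : k * (k⁻¹ * y * k⁻¹⁻¹) * k⁻¹ = y := by group
  rw [h4] at h3
  exact h3

/-- linear swaps: `p τ p⁻¹ = τ z` is solvable -/
theorem linear {τ : G} (hτ : τ ∈ S) (hτP : τ ∉ PP R B) (hτ2 : τ * τ = 1)
    (hτB : ∀ x ∈ B, τ * x = x * τ) {z : G} (hz : z ∈ B) : ∃ p ∈ PP R B, p * τ * p⁻¹ = τ * z := by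
  have H := W.hyp
  have hτi : τ⁻¹ = τ := by rw [inv_eq_iff_mul_eq_one]; exact hτ2
  have hq : ∀ v ∈ R, τ * v * τ ∈ PP R B := by
    intro v hv
    have := W.nP τ hτ v (H.R_le_PP hv)
    rwa [hτi] at this
  -- commutators of `R` with `P`
  have hcm : ∀ v ∈ R, ∀ q ∈ PP R B, v * q * v⁻¹ * q⁻¹ ∈ B := by
    intro v hv q hq
    have h1 := B.inv_mem (hq.2 v hv)
    have h2 : (q * v * q⁻¹ * v⁻¹)⁻¹ = v * q * v⁻¹ * q⁻¹ := by group
    rwa [h2] at h1
  have hβ : ∀ v ∈ R, ∀ w ∈ R, v * (τ * w * τ) * v⁻¹ * (τ * w * τ)⁻¹ ∈ B :=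
    fun v hv w hw => hcm v hv _ (hq w hw)
  -- symmetry
  have hsymm : ∀ v ∈ R, ∀ w ∈ R, v * (τ * w * τ) * v⁻¹ * (τ * w * τ)⁻¹ =
      w * (τ * v * τ) * w⁻¹ * (τ * v * τ)⁻¹ := by
    intro v hv w hw
    have h1 := hβ v hv w hw
    have h2 := hτB _ h1
    have h3 : τ * (v * (τ * w * τ) * v⁻¹ * (τ * w * τ)⁻¹) * τ =
        v * (τ * w * τ) * v⁻¹ * (τ * w * τ)⁻¹ := by
      rw [h2, mul_assoc, hτ2, mul_one]
    have h4 : τ * (v * (τ * w * τ) * v⁻¹ * (τ * w * τ)⁻¹) * τ =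
        (w * (τ * v * τ) * w⁻¹ * (τ * v * τ)⁻¹)⁻¹ := by
      have e2 : ∀ u : G, (τ * u * τ)⁻¹ = τ * u⁻¹ * τ := by
        intro u
        rw [mul_inv_rev, mul_inv_rev, hτi]; group
      have e3 : (w * (τ * v * τ) * w⁻¹ * (τ * v * τ)⁻¹)⁻¹ = (τ * v * τ) * w * (τ * v * τ)⁻¹ * w⁻¹ := by
        group
      rw [e3, e2, e2]
      calc τ * (v * (τ * w * τ) * v⁻¹ * (τ * w⁻¹ * τ)) * τ =
          τ * v * τ * w * (τ * v⁻¹ * τ) * w⁻¹ * (τ * τ) := by group
        _ = _ := by rw [hτ2, mul_one]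
    rw [← h3, h4]
    exact H.invB (hβ w hw v hv)
  -- additivity
  have hadd : ∀ v ∈ R, ∀ w ∈ R, (v * w) * (τ * (v * w) * τ) * (v * w)⁻¹ * (τ * (v * w) * τ)⁻¹ =
      (v * (τ * v * τ) * v⁻¹ * (τ * v * τ)⁻¹) * (w * (τ * w * τ) * w⁻¹ * (τ * w * τ)⁻¹) := by
    intro v hv w hw
    have e0 : τ * (v * w) * τ = (τ * v * τ) * (τ * w * τ) := by
      calc τ * (v * w) * τ = τ * v * 1 * w * τ := by group
        _ = _ := by rw [← hτ2]; group
    rw [e0]
    set v' := τ * v * τ with hv'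
    set w' := τ * w * τ with hw'
    have hvP := H.R_le_PP hv
    have hwP := H.R_le_PP hw
    have c1 : v * v' * v⁻¹ * v'⁻¹ ∈ B := hβ v hv v hv
    have c2 : v * w' * v⁻¹ * w'⁻¹ ∈ B := hβ v hv w hw
    have c3 : w * v' * w⁻¹ * v'⁻¹ ∈ B := hβ w hw v hv
    have c4 : w * w' * w⁻¹ * w'⁻¹ ∈ B := hβ w hw w hw
    have s1 : v * w' * v⁻¹ * w'⁻¹ = w * v' * w⁻¹ * v'⁻¹ := hsymm v hv w hw
    -- `[w, v'w'] = [w,v'] [w,w']`
    have e1 : w * (v' * w') * w⁻¹ * (v' * w')⁻¹ =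
        (w * v' * w⁻¹ * v'⁻¹) * (w * w' * w⁻¹ * w'⁻¹) := by
      have h : v' * (w * w' * w⁻¹ * w'⁻¹) = (w * w' * w⁻¹ * w'⁻¹) * v' := (hq v hv).1 _ c4
      calc w * (v' * w') * w⁻¹ * (v' * w')⁻¹ =
          (w * v' * w⁻¹ * v'⁻¹) * (v' * (w * w' * w⁻¹ * w'⁻¹)) * v'⁻¹ := by group
        _ = _ := by rw [h]; group
    have e2 : v * (v' * w') * v⁻¹ * (v' * w')⁻¹ =
        (v * v' * v⁻¹ * v'⁻¹) * (v * w' * v⁻¹ * w'⁻¹) := by
      have h : v' * (v * w' * v⁻¹ * w'⁻¹) = (v * w' * v⁻¹ * w'⁻¹) * v' := (hq v hv).1 _ c2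
      calc v * (v' * w') * v⁻¹ * (v' * w')⁻¹ =
          (v * v' * v⁻¹ * v'⁻¹) * (v' * (v * w' * v⁻¹ * w'⁻¹)) * v'⁻¹ := by group
        _ = _ := by rw [h]; group
    have m1 := B.mul_mem c3 c4
    calc (v * w) * (v' * w') * (v * w)⁻¹ * (v' * w')⁻¹
        = v * (w * (v' * w') * w⁻¹ * (v' * w')⁻¹) * v⁻¹ * (v * (v' * w') * v⁻¹ * (v' * w')⁻¹) := by
          group
      _ = (v * ((w * v' * w⁻¹ * v'⁻¹) * (w * w' * w⁻¹ * w'⁻¹))) * v⁻¹ *
          ((v * v' * v⁻¹ * v'⁻¹) * (v * w' * v⁻¹ * w'⁻¹)) := by rw [e1, e2]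
      _ = ((w * v' * w⁻¹ * v'⁻¹) * (w * w' * w⁻¹ * w'⁻¹)) *
          ((v * v' * v⁻¹ * v'⁻¹) * (v * w' * v⁻¹ * w'⁻¹)) := by
          rw [hvP.1 _ m1]; group
      _ = ((v * v' * v⁻¹ * v'⁻¹) * (v * w' * v⁻¹ * w'⁻¹)) *
          ((v * w' * v⁻¹ * w'⁻¹) * (w * w' * w⁻¹ * w'⁻¹)) := by
          rw [H.commB m1 (B.mul_mem c1 c2), s1]
      _ = (v * v' * v⁻¹ * v'⁻¹) * ((v * w' * v⁻¹ * w'⁻¹) * (v * w' * v⁻¹ * w'⁻¹)) *
          (w * w' * w⁻¹ * w'⁻¹) := by group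
      _ = _ := by rw [H.sqB c2, mul_one]
  have hker : ∀ v ∈ R, v * (τ * v * τ) * v⁻¹ * (τ * v * τ)⁻¹ = 1 → v = 1 := by
    intro v hv h
    by_contra hv1
    have h1 : (τ * v * τ) * v = v * (τ * v * τ) := by
      have h2 : v * (τ * v * τ) * v⁻¹ * (τ * v * τ)⁻¹ * ((τ * v * τ) * v) = (τ * v * τ) * v := by
        rw [h, one_mul]
      rw [← h2]; group
    have h2 := H.free (hq v hv) hv hv1 h1
    have h3 : ∃ b c, τ * v * τ = Y b * Z c := by
      have := (W.sw τ hτ hτP).RQ v hv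
      rwa [hτi] at this
    have h4 := mem_B_of_both W.frame h2 h3
    apply hv1
    apply H.disjB hv
    have h5 : v = τ * (τ * v * τ) * τ := by
      calc v = (τ * τ) * v * (τ * τ) := by rw [hτ2]; group
        _ = _ := by group
    rw [h5, hτB _ h4, mul_assoc, hτ2, mul_one]
    exact h4
  have hfinR := H.finR
  have hfinB := H.finB
  have hinj : Function.Injective (fun v : R =>
      (⟨(v : G) * (τ * v * τ) * (v : G)⁻¹ * (τ * v * τ)⁻¹, hβ v v.2 v v.2⟩ : B)) := by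
    intro v w h
    have h1 : (v : G) * (τ * v * τ) * (v : G)⁻¹ * (τ * v * τ)⁻¹ =
      (w : G) * (τ * w * τ) * (w : G)⁻¹ * (τ * w * τ)⁻¹ := congrArg Subtype.val h
    have h2 := hadd v v.2 w w.2
    rw [h1, H.sqB (hβ w w.2 w w.2)] at h2
    have h3 := hker _ (R.mul_mem v.2 w.2) h2
    apply Subtype.ext
    rw [mul_eq_one_iff_eq_inv, H.invR w.2] at h3
    exact h3
  have hbij := hinj.bijective_of_nat_card_le (by rw [H.cardR, H.cardB])
  obtain ⟨v, hv⟩ := hbij.2 ⟨z, hz⟩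
  have hv1 : (v : G) * (τ * v * τ) * (v : G)⁻¹ * (τ * v * τ)⁻¹ = z := congrArg Subtype.val hv
  refine ⟨v * (τ * v * τ), (PP R B).mul_mem (H.R_le_PP v.2) (hq v v.2), ?_⟩
  have hvi : (v : G)⁻¹ = v := H.invR v.2
  have hvi2 : (τ * v * τ : G)⁻¹ = τ * v * τ := by
    rw [mul_inv_rev, mul_inv_rev, hτi, hvi]; group
  rw [hvi, hvi2] at hv1
  have h5 : (v : G) * (τ * v * τ) * τ * (v * (τ * v * τ))⁻¹ =
      (v * (τ * v * τ) * v * (τ * v * τ)) * τ := by
    rw [mul_inv_rev, hvi, hvi2]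
    calc (v : G) * (τ * v * τ) * τ * (τ * v * τ * v) = v * τ * v * (τ * τ) * τ * v * τ * v := by group
      _ = v * τ * v * τ * v * τ * v * (τ * τ) := by rw [hτ2]; group
      _ = _ := by group
  rw [h5, hv1, hτB z hz]

/-- case II.2: no element of type x in `S \ P` centralises `B` -/
theorem caseTwo {s : G} (hs : s ∈ S) (hsP : s ∉ PP R B) (hxt : XT B s)
    (hsB : ∀ x ∈ B, s * x = x * s) : False := by
  have H := W.hyp
  -- `S` centralises `B`
  have hSB : ∀ t ∈ S, ∀ x ∈ B, t * x = x * t := by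
    intro t ht x hx
    by_cases h : t ∈ PP R B
    · exact h.1 x hx
    · have h1 := (W.idx s hs hsP t ht h).1 x hx
      have h2 := hsB x hx
      have h3 : s * (t * x) = s * (x * t) := by
        calc s * (t * x) = s * t * x := by group
          _ = x * s * t := by rw [h1]; group
          _ = s * (x * t) := by rw [← h2]; group
      exact mul_left_cancel h3
  obtain ⟨x, hx, hx1, hc⟩ := hxt
  obtain ⟨k, hk⟩ := isConj_iff.1 hc
  -- adjust `k`
  obtain ⟨n, hn1, hn2⟩ := exists_conj_le (N := Subgroup.centralizer ({s} : Set G))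
    (S := S.map (MulAut.conj k).toMonoidHom) (W.pS.map _)
    (by
      intro T hT hle
      have h1 := W.max (T.map (MulAut.conj k⁻¹).toMonoidHom) (hT.map _) (by
        intro p hp
        refine ⟨k * p * k⁻¹, hle ⟨p, hp, rfl⟩, ?_⟩
        change k⁻¹ * (k * p * k⁻¹) * k⁻¹⁻¹ = p
        group)
      apply le_antisymm _ hle
      intro t ht
      refine ⟨k⁻¹ * t * k, ?_, ?_⟩
      · rw [← h1]
        exact ⟨t, ht, by change k⁻¹ * t * k⁻¹⁻¹ = _; group⟩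
      · change k * (k⁻¹ * t * k) * k⁻¹ = t
        group)
    (by
      rintro _ ⟨p, hp, rfl⟩
      rw [Subgroup.mem_centralizer_singleton_iff]
      change k * p * k⁻¹ * s = s * (k * p * k⁻¹)
      rw [← hk]
      calc k * p * k⁻¹ * (k * x * k⁻¹) = k * (p * x) * k⁻¹ := by group
        _ = k * x * k⁻¹ * (k * p * k⁻¹) := by rw [hSB p hp x hx]; group)
    (T := B) (IsPGroup.of_card (n := 2) (by rw [H.cardB]; norm_num)) (by
      intro t ht
      rw [Subgroup.mem_centralizer_singleton_iff]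
      exact (hsB t ht).symm)
  rw [Subgroup.mem_centralizer_singleton_iff] at hn1
  set d := n⁻¹ * k with hd
  have hdx : d * x * d⁻¹ = s := by
    calc d * x * d⁻¹ = n⁻¹ * (k * x * k⁻¹) * n := by rw [hd]; group
      _ = n⁻¹ * (s * n) := by rw [hk]; group
      _ = s := by rw [← hn1]; group
  have hdB : ∀ z ∈ B, d⁻¹ * z * d ∈ S := by
    intro z hz
    obtain ⟨p, hp, hpz⟩ := hn2 z hz
    have h1 : k * p * k⁻¹ = n * z * n⁻¹ := hpz
    have h2 : d⁻¹ * z * d = p := by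
      calc d⁻¹ * z * d = k⁻¹ * (n * z * n⁻¹) * k := by rw [hd]; group
        _ = p := by rw [← h1]; group
    rw [h2]; exact hp
  have hconj : ∀ z : G, d⁻¹ * z * d = d⁻¹ * z * d⁻¹⁻¹ := fun z => by rw [inv_inv]
  have hPB : ∀ z ∈ B, d⁻¹ * z * d ∈ PP R B → d⁻¹ * z * d ∈ B := by
    intro z hz h
    by_cases hz1 : z = 1
    · rw [hz1]
      have : d⁻¹ * 1 * d = 1 := by group
      rw [this]; exact B.one_mem
    · apply W.xt_P h
      rw [hconj]
      exact (H.xt_B hz hz1).conj' _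
  -- some element of `B` goes outside `P`
  obtain ⟨x2, hx2, hx2P⟩ : ∃ x2 ∈ B, d⁻¹ * x2 * d ∉ PP R B := by
    by_contra hcon
    push Not at hcon
    have h1 : ∀ z ∈ B, d⁻¹ * z * d⁻¹⁻¹ ∈ B := fun z hz => by
      rw [← hconj]; exact hPB z hz (hcon z hz)
    have h2 := H.norm_inv h1 x hx
    rw [inv_inv, hdx] at h2
    exact hsP (H.B_le_PP h2)
  have hx21 : x2 ≠ 1 := by
    intro h
    apply hx2P
    rw [h]
    have : d⁻¹ * 1 * d = 1 := by group
    rw [this]; exact (PP R B).one_mem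
  -- some element of `B#` stays in `B`
  obtain ⟨x1, hx1', hx11, hx1B⟩ : ∃ x1 ∈ B, x1 ≠ 1 ∧ d⁻¹ * x1 * d ∈ B := by
    set x3 := ρ * x2 * ρ⁻¹ with hx3
    have hx3B : x3 ∈ B := H.ρB x2 hx2
    have hx31 : x3 ≠ 1 := by
      intro h
      apply hx21
      have : x2 = ρ⁻¹ * x3 * ρ := by rw [hx3]; group
      rw [this, h]; group
    have hx32 : x2 * x3 ≠ 1 := by
      intro h
      apply hx21
      apply H.ρfix x2 hx2
      rw [mul_eq_one_iff_eq_inv, H.invB hx3B] at h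
      rw [← hx3]; exact h.symm
    by_cases h3 : d⁻¹ * x3 * d ∈ PP R B
    · exact ⟨x3, hx3B, hx31, hPB _ hx3B h3⟩
    · refine ⟨x2 * x3, B.mul_mem hx2 hx3B, hx32, hPB _ (B.mul_mem hx2 hx3B) ?_⟩
      have h4 := W.idx _ (hdB x2 hx2) hx2P _ (hdB x3 hx3B) h3
      have h5 : d⁻¹ * (x2 * x3) * d = d⁻¹ * x2 * d * (d⁻¹ * x3 * d) := by group
      rw [h5]; exact h4
  set p2 := d⁻¹ * x2 * d with hp2
  set z1 := d⁻¹ * x1 * d with hz1
  have hp2sq : p2 * p2 = 1 := by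
    calc p2 * p2 = d⁻¹ * (x2 * x2) * d := by rw [hp2]; group
      _ = 1 := by rw [H.sqB hx2]; group
  obtain ⟨p, hp, hpp⟩ := W.linear (hdB x2 hx2) hx2P hp2sq (hSB _ (hdB x2 hx2)) hx1B
  set y := d * p * d⁻¹ with hy
  have hpp' : p * p2 * p⁻¹ = p2 * z1 := hpp
  have hy2 : y * x2 * y⁻¹ = x2 * x1 := by
    calc y * x2 * y⁻¹ = d * (p * p2 * p⁻¹) * d⁻¹ := by rw [hy, hp2]; group
      _ = d * (p2 * z1) * d⁻¹ := by rw [hpp']
      _ = x2 * x1 := by rw [hp2, hz1]; group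
  have hy1 : y * x1 * y⁻¹ = x1 := by
    calc y * x1 * y⁻¹ = d * (p * z1 * p⁻¹) * d⁻¹ := by rw [hy, hz1]; group
      _ = d * z1 * d⁻¹ := by rw [hp.1 z1 hx1B, mul_inv_cancel_right]
      _ = x1 := by rw [hz1]; group
  have h12 : x2 ≠ x1 := by
    intro h
    apply hx2P
    rw [hp2, h]
    exact H.B_le_PP hx1B
  -- `B = ⟨x1, x2⟩`
  have hall : ∀ z ∈ B, z = 1 ∨ z = x1 ∨ z = x2 ∨ z = x1 * x2 := by
    intro z hz
    have h1 := H.fourB hx1' hx11 x2 hx2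
    have h2 := H.fourB hx1' hx11 z hz
    have hxx := H.sqB hx1'
    rcases h1 with h1 | h1 | h1 | h1
    · exact absurd h1 hx21
    · exact absurd h1 h12
    · rcases h2 with h2 | h2 | h2 | h2
      · exact Or.inl h2
      · exact Or.inr (Or.inl h2)
      · right; right; left; rw [h2, h1]
      · right; right; right; rw [h2, h1]
    · rcases h2 with h2 | h2 | h2 | h2
      · exact Or.inl h2
      · exact Or.inr (Or.inl h2)
      · right; right; right; rw [h2, h1, ← mul_assoc, hxx, one_mul]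
      · right; right; left; rw [h2, h1]
  have hyn : ∀ z ∈ B, y * z * y⁻¹ ∈ B := by
    intro z hz
    rcases hall z hz with h | h | h | h
    · rw [h]; simp
    · rw [h, hy1]; exact hx1'
    · rw [h, hy2]; exact B.mul_mem hx2 hx1'
    · have h2 : y * z * y⁻¹ = (y * x1 * y⁻¹) * (y * x2 * y⁻¹) := by rw [h]; group
      rw [h2, hy1, hy2]
      exact B.mul_mem hx1' (B.mul_mem hx2 hx1')
  obtain ⟨m, hm⟩ := H.isPGroup_PP ⟨p, hp⟩
  have hm' : p ^ (2 ^ m) = 1 := congrArg Subtype.val hm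
  have hy2' : y ^ (2 ^ m) = 1 := by
    have : y = MulAut.conj d p := rfl
    rw [this, ← map_pow, hm', map_one]
  have h1 := comm_of_norm W.pS W.max hSB (isPGroup_zpowers_of_pow hy2') hyn x2 hx2
  have h2 : y * x2 * y⁻¹ = x2 := by rw [h1, mul_inv_cancel_right]
  rw [h2] at hy2
  exact hx11 (left_eq_mul.1 hy2)

end Two

end Cfsg.Agent.StdG24.F
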