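import Cfsg.Agent.StdG24.F.CaseII

/-!
# Lemma F: an element normalising `R`, centralising `B` and permuting `R#` cyclically
(helper393, blueprints/S1767-F.md)
-/

set_option autoImplicit false

namespace Cfsg.Agent.StdG24.F

open Subgroup Cfsg.Agent.J2Sylow.Model Cfsg.Agent.StdAlt.Five

namespace Hyp

variable {G : Type*} [Group G] {R A B : Subgroup G} {ρ b : G} (H : Hyp R A B ρ b)
include H

theorem fourB' {x y : G} (hx : x ∈ B) (hx1 : x ≠ 1) (hy : y ∈ B) (hy1 : y ≠ 1) (hyx : y ≠ x) :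
    ∀ z ∈ B, z = 1 ∨ z = x ∨ z = y ∨ z = x * y := by
  intro z hz
  have h1 := H.fourB hx hx1 y hy
  have h2 := H.fourB hx hx1 z hz
  have hxx := H.sqB hx
  rcases h1 with h1 | h1 | h1 | h1
  · exact absurd h1 hy1
  · exact absurd h1 hyx
  · rcases h2 with h2 | h2 | h2 | h2
    · exact Or.inl h2
    · exact Or.inr (Or.inl h2)
    · right; right; left; rw [h2, h1]
    · right; right; right; rw [h2, h1]
  · rcases h2 with h2 | h2 | h2 | h2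
    · exact Or.inl h2
    · exact Or.inr (Or.inl h2)
    · right; right; right; rw [h2, h1, ← mul_assoc, hxx, one_mul]
    · right; right; left; rw [h2, h1]

/-- action of order three on `B` -/
theorem act3 {α : G} (hα : ∀ x ∈ B, α * x * α⁻¹ ∈ B) (hfix : ∀ x ∈ B, α * x * α⁻¹ = x → x = 1)
    (h3 : α ^ 3 = 1) {x : G} (hx : x ∈ B) : α * (α * x * α⁻¹) * α⁻¹ = x * (α * x * α⁻¹) := by
  by_cases hx1 : x = 1
  · rw [hx1]; group
  set y := α * x * α⁻¹ with hy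
  have hyB := hα x hx
  have hyx : y ≠ x := fun h => hx1 (hfix x hx h)
  have hy1 : y ≠ 1 := by
    intro h
    apply hx1
    have : x = α⁻¹ * y * α := by rw [hy]; group
    rw [this, h]; group
  rcases H.fourB' hx hx1 hyB hy1 hyx _ (hα y hyB) with h | h | h | h
  · exfalso
    apply hy1
    have : y = α⁻¹ * (α * y * α⁻¹) * α := by group
    rw [this, h]; group
  · exfalso
    apply hyx
    have h4 : α * (α * (α * x * α⁻¹) * α⁻¹) * α⁻¹ = x := by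
      calc α * (α * (α * x * α⁻¹) * α⁻¹) * α⁻¹ = α ^ 3 * x * (α ^ 3)⁻¹ := by
            rw [pow_succ, pow_two]; group
        _ = x := by rw [h3]; group
    rw [← hy, h, ← hy] at h4
    exact h4
  · exact absurd (hfix y hyB h) hy1
  · exact h

/-- two actions of order 3 on `B` agree up to inversion -/
theorem act_cases {α β : G} (hα : ∀ x ∈ B, α * x * α⁻¹ ∈ B)
    (hαfix : ∀ x ∈ B, α * x * α⁻¹ = x → x = 1) (hα3 : α ^ 3 = 1)
    (hβ : ∀ x ∈ B, β * x * β⁻¹ ∈ B) (hβfix : ∀ x ∈ B, β * x * β⁻¹ = x → x = 1) (hβ3 : β ^ 3 = 1) :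
    (∀ x ∈ B, α * x * α⁻¹ = β * x * β⁻¹) ∨ ∀ x ∈ B, α⁻¹ * x * α = β * x * β⁻¹ := by
  obtain ⟨x, hx, hx1⟩ := H.exists_neB
  set y := β * x * β⁻¹ with hy
  have hyB : y ∈ B := hβ x hx
  have hyx : y ≠ x := fun h => hx1 (hβfix x hx h)
  have hy1 : y ≠ 1 := by
    intro h
    apply hx1
    have : x = β⁻¹ * y * β := by rw [hy]; group
    rw [this, h]; group
  have hall := H.fourB' hx hx1 hyB hy1 hyx
  have b2 : β * y * β⁻¹ = x * y := H.act3 hβ hβfix hβ3 hx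
  have a2 := H.act3 hα hαfix hα3 hx
  have hmul : ∀ g : G, ∀ u v : G, g * (u * v) * g⁻¹ = (g * u * g⁻¹) * (g * v * g⁻¹) := by
    intro g u v; group
  have hmul' : ∀ g : G, ∀ u v : G, g⁻¹ * (u * v) * g = (g⁻¹ * u * g) * (g⁻¹ * v * g) := by
    intro g u v; group
  rcases hall _ (hα x hx) with h | h | h | h
  · exfalso
    apply hx1
    have : x = α⁻¹ * (α * x * α⁻¹) * α := by group
    rw [this, h]; group
  · exact absurd (hαfix x hx h) hx1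
  · left
    rw [h] at a2
    intro z hz
    rcases hall z hz with h' | h' | h' | h'
    · rw [h']; group
    · rw [h', h]
    · rw [h', a2, b2]
    · rw [h', hmul α x y, hmul β x y, h, a2, ← hy, b2]
  · right
    rw [h, hmul, h] at a2
    -- `α y α⁻¹ = x`
    have hxx := H.sqB hx
    have hyy := H.sqB hyB
    have hxy := H.commB hx hyB
    have a3 : α * y * α⁻¹ = x := by
      have h5 : x * y * (α * y * α⁻¹) = y := by
        rw [a2, ← mul_assoc, hxx, one_mul]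
      calc α * y * α⁻¹ = (x * y)⁻¹ * (x * y * (α * y * α⁻¹)) := by group
        _ = (x * y)⁻¹ * y := by rw [h5]
        _ = x⁻¹ := by rw [hxy]; group
        _ = x := H.invB hx
    have i1 : α⁻¹ * x * α = y := by rw [← a3]; group
    have i2 : α⁻¹ * (x * y) * α = x := by rw [← h]; group
    have i3 : α⁻¹ * y * α = x * y := by
      have h6 : (α⁻¹ * x * α) * (α⁻¹ * y * α) = x := by rw [← hmul', i2]
      rw [i1] at h6
      calc α⁻¹ * y * α = y⁻¹ * (y * (α⁻¹ * y * α)) := by group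
        _ = y⁻¹ * x := by rw [h6]
        _ = x * y := by rw [H.invB hyB, hxy]
    intro z hz
    rcases hall z hz with h' | h' | h' | h'
    · rw [h']; group
    · rw [h', i1]
    · rw [h', i3, b2]
    · rw [h', hmul β x y, hmul' α x y, ← hy, b2, i1, i3]

end Hyp

namespace Two

variable {G : Type*} [Group G] [Finite G] {R A B : Subgroup G} {ρ b : G} {S : Subgroup G}
  {X Y Z : F4 → G} (W : Two R A B ρ b S X Y Z)
include W

theorem sw_E {g : G} (hg : Sw R B Y Z g) {f : G} (hf : ∃ r ∈ R, ∃ x ∈ B, f = r * x) :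
    ∃ b c, g * f * g⁻¹ = Y b * Z c := by
  obtain ⟨r, hr, x, hx, rfl⟩ := hf
  obtain ⟨b', c, h⟩ := hg.RQ r hr
  obtain ⟨c', h'⟩ := W.frame.Z_surj _ (hg.BB x hx)
  refine ⟨b', c + c', ?_⟩
  calc g * (r * x) * g⁻¹ = (g * r * g⁻¹) * (g * x * g⁻¹) := by group
    _ = _ := by rw [h, ← h', W.frame.Z_add, mul_assoc]

theorem sw_Q {g : G} (hg : Sw R B Y Z g) (b' c : F4) :
    ∃ r ∈ R, ∃ x ∈ B, g * (Y b' * Z c) * g⁻¹ = r * x := by
  obtain ⟨r, hr, x, hx, h⟩ := hg.QE b'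
  refine ⟨r, hr, x * (g * Z c * g⁻¹), B.mul_mem hx (hg.BB _ (W.frame.Z_mem c)), ?_⟩
  calc g * (Y b' * Z c) * g⁻¹ = (g * Y b' * g⁻¹) * (g * Z c * g⁻¹) := by group
    _ = _ := by rw [h, mul_assoc]

/-- **Lemma F (ii)** in case II -/
theorem kappa : ∃ k : G, (∀ r ∈ R, k * r * k⁻¹ ∈ R) ∧ (∀ r ∈ R, k * r * k⁻¹ = r → r = 1) ∧
    ∀ x ∈ B, k * x = x * k := by
  have H := W.hyp
  have F := W.frame
  obtain ⟨s, hs, hsP⟩ := W.ex
  have hsw := W.sw s hs hsP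
  have hs' : s⁻¹ ∈ S := S.inv_mem hs
  have hsP' : s⁻¹ ∉ PP R B := fun h => hsP (by simpa using (PP R B).inv_mem h)
  have hsw' := W.sw s⁻¹ hs' hsP'
  have hB' : ∀ x ∈ B, s⁻¹ * x * s ∈ B := fun x hx => by
    have := hsw'.BB x hx
    rwa [inv_inv] at this
  have hcR : ∀ r ∈ R, ρ * r * ρ⁻¹ = r := fun r hr => by rw [← H.comm r hr ρ H.ρA]; group
  have hcR' : ∀ r ∈ R, ρ⁻¹ * r * ρ = r := fun r hr => by
    rw [mul_assoc, H.comm r hr ρ H.ρA]; group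
  -- choose the sign
  obtain ⟨ρ', lam, hlam, hρR, hρQ, hρB⟩ : ∃ (ρ' : G) (lam : F4), (∀ c : F4, c ≠ 0 → lam * c ≠ c) ∧
      (∀ r ∈ R, ρ' * r * ρ'⁻¹ = r) ∧
      (∀ b c, ρ' * (Y b * Z c) * ρ'⁻¹ = Y (lam * b) * Z (lam * c)) ∧
      ∀ x ∈ B, (s * ρ' * s⁻¹) * x * (s * ρ' * s⁻¹)⁻¹ = ρ * x * ρ⁻¹ := by
    have hα : ∀ x ∈ B, (s * ρ * s⁻¹) * x * (s * ρ * s⁻¹)⁻¹ ∈ B := by
      intro x hx
      have h1 := hsw.BB _ (H.ρB _ (hB' x hx))
      have h2 : (s * ρ * s⁻¹) * x * (s * ρ * s⁻¹)⁻¹ = s * (ρ * (s⁻¹ * x * s) * ρ⁻¹) * s⁻¹ := by group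
      rw [h2]; exact h1
    have hαfix : ∀ x ∈ B, (s * ρ * s⁻¹) * x * (s * ρ * s⁻¹)⁻¹ = x → x = 1 := by
      intro x hx h
      have h2 : ρ * (s⁻¹ * x * s) * ρ⁻¹ = s⁻¹ * x * s := by
        calc ρ * (s⁻¹ * x * s) * ρ⁻¹ = s⁻¹ * ((s * ρ * s⁻¹) * x * (s * ρ * s⁻¹)⁻¹) * s := by group
          _ = s⁻¹ * x * s := by rw [h]
      have h3 := H.ρfix _ (hB' x hx) h2
      have h4 : x = s * (s⁻¹ * x * s) * s⁻¹ := by group
      rw [h4, h3]; group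
    have hα3 : (s * ρ * s⁻¹) ^ 3 = 1 := by
      have : (s * ρ * s⁻¹) ^ 3 = s * ρ ^ 3 * s⁻¹ := by simp
      rw [this, H.ρ3]; group
    rcases H.act_cases hα hαfix hα3 H.ρB H.ρfix H.ρ3 with h | h
    · refine ⟨ρ, F4.w, by decide, hcR, ?_, h⟩
      intro b c
      calc ρ * (Y b * Z c) * ρ⁻¹ = (ρ * Y b * ρ⁻¹) * (ρ * Z c * ρ⁻¹) := by group
        _ = _ := by rw [F.ρY, F.ρZ]
    · refine ⟨ρ⁻¹, F4.u, by decide, fun r hr => by rw [inv_inv]; exact hcR' r hr, ?_, ?_⟩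
      · intro b c
        have hw : ∀ c : F4, F4.w * (F4.u * c) = c := by decide
        have h1 := F.ρY (F4.u * b)
        have h2 := F.ρZ (F4.u * c)
        rw [hw] at h1 h2
        rw [← h1, ← h2]; group
      · intro x hx
        rw [← h x hx]; group
  set σ := s * ρ' * s⁻¹ with hσ
  have hσR : ∀ r ∈ R, σ * (s * r * s⁻¹) * σ⁻¹ = s * r * s⁻¹ := by
    intro r hr
    calc σ * (s * r * s⁻¹) * σ⁻¹ = s * (ρ' * r * ρ'⁻¹) * s⁻¹ := by rw [hσ]; group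
      _ = s * r * s⁻¹ := by rw [hρR r hr]
  have hσE : ∀ f, (∃ r ∈ R, ∃ x ∈ B, f = r * x) → ∃ r ∈ R, ∃ x ∈ B, σ * f * σ⁻¹ = r * x := by
    intro f hf
    obtain ⟨b1, c1, h1⟩ := W.sw_E hsw' hf
    rw [inv_inv] at h1
    obtain ⟨r, hr, x, hx, h2⟩ := W.sw_Q hsw (lam * b1) (lam * c1)
    refine ⟨r, hr, x, hx, ?_⟩
    rw [← h2, ← hρQ, ← h1, hσ]; group
  set r := σ * ρ⁻¹ with hr
  have hrB : ∀ x ∈ B, r * x = x * r := by
    intro x hx
    have h1 := hρB _ (H.invρ hx)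
    have h2 : r * x * r⁻¹ = x := by
      calc r * x * r⁻¹ = σ * (ρ⁻¹ * x * ρ) * σ⁻¹ := by rw [hr]; group
        _ = x := by rw [h1]; group
    calc r * x = r * x * r⁻¹ * r := by group
      _ = x * r := by rw [h2]
  obtain ⟨r0, hr0, hr01⟩ := H.exists_neR
  obtain ⟨s1, hs1, y, hy, h1⟩ := hσE r0 ⟨r0, hr0, 1, B.one_mem, by rw [mul_one]⟩
  have h1' : r * r0 * r⁻¹ = s1 * y := by
    rw [← h1]
    calc r * r0 * r⁻¹ = σ * (ρ⁻¹ * r0 * ρ) * σ⁻¹ := by rw [hr]; group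
      _ = σ * r0 * σ⁻¹ := by rw [hcR' r0 hr0]
  have hs11 : s1 ≠ 1 := by
    intro h
    rw [h, one_mul] at h1'
    have hy1 : y ≠ 1 := by
      intro h0
      rw [h0] at h1'
      apply hr01
      have : r0 = r⁻¹ * (r * r0 * r⁻¹) * r := by group
      rw [this, h1']; group
    exact H.not_both ((H.tt_R hr0 hr01).conj' r) (by rw [h1']; exact H.xt_B hy hy1)
  obtain ⟨p, hp, hps⟩ := H.exists_PP hs1 hs11 hy
  have hk0 : (p⁻¹ * r) * r0 * (p⁻¹ * r)⁻¹ = s1 := by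
    calc (p⁻¹ * r) * r0 * (p⁻¹ * r)⁻¹ = p⁻¹ * (r * r0 * r⁻¹) * p := by group
      _ = s1 := by rw [h1', ← hps]; group
  have hkB : ∀ x ∈ B, (p⁻¹ * r) * x = x * (p⁻¹ * r) := by
    intro x hx
    have h2 := ((PP R B).inv_mem hp).1 x hx
    calc (p⁻¹ * r) * x = p⁻¹ * (r * x) := by group
      _ = (p⁻¹ * x) * r := by rw [hrB x hx]; group
      _ = _ := by rw [h2]; group
  refine ⟨p⁻¹ * r, H.TI hr0 hr01 (by rw [hk0]; exact hs1), ?_, hkB⟩
  intro r1 hr1 hfix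
  by_contra hr11
  -- then `r ∈ P`
  obtain ⟨x, hx, hx1⟩ := H.exists_neB
  have hcom : (p⁻¹ * r) * r1 = r1 * (p⁻¹ * r) := by
    calc (p⁻¹ * r) * r1 = (p⁻¹ * r) * r1 * (p⁻¹ * r)⁻¹ * (p⁻¹ * r) := by group
      _ = r1 * (p⁻¹ * r) := by rw [hfix]
  obtain ⟨r2, hr2, x2, hx2, hk⟩ := H.mem_of_comm hr1 hr11 hx hx1 hcom (hkB x hx)
  have hrP : r ∈ PP R B := by
    have : r = p * (r2 * x2) := by rw [← hk]; group
    rw [this]
    exact (PP R B).mul_mem hp (H.mul_mem_PP hr2 hx2)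
  -- look at `s r1 s⁻¹ ∈ Q`
  obtain ⟨b1, c1, hq⟩ := hsw.RQ r1 hr1
  have hb1 : b1 ≠ 0 := by
    intro h
    rw [h, F.Y_zero, one_mul] at hq
    have hB1 : s * r1 * s⁻¹ ∈ B := by rw [hq]; exact F.Z_mem _
    have h2 := H.norm_inv hsw.BB _ hB1
    have h3 : s⁻¹ * (s * r1 * s⁻¹) * s = r1 := by group
    rw [h3] at h2
    exact hr11 (H.disjB hr1 h2)
  have h5 := hσR r1 hr1
  rw [hq] at h5
  -- `σ = r ρ`
  have h6 : σ = r * ρ := by rw [hr]; group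
  have h7 : ρ * (Y b1 * Z c1) * ρ⁻¹ = Y (F4.w * b1) * Z (F4.w * c1) := by
    calc ρ * (Y b1 * Z c1) * ρ⁻¹ = (ρ * Y b1 * ρ⁻¹) * (ρ * Z c1 * ρ⁻¹) := by group
      _ = _ := by rw [F.ρY, F.ρZ]
  have h8 : r * (Y (F4.w * b1) * Z (F4.w * c1)) * r⁻¹ = Y b1 * Z c1 := by
    calc r * (Y (F4.w * b1) * Z (F4.w * c1)) * r⁻¹ = (r * ρ) * (Y b1 * Z c1) * (r * ρ)⁻¹ := by
          rw [← h7]; group
      _ = _ := by rw [← h6, h5]
  obtain ⟨b2, a2, c2, hre⟩ := F.P_surj r hrP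
  have h9 : (Y b2 * X a2 * Z c2) * (Y (F4.w * b1) * X 0 * Z (F4.w * c1)) =
      (Y b1 * X 0 * Z c1) * (Y b2 * X a2 * Z c2) := by
    rw [F.X_zero, mul_one, mul_one, ← hre, ← h8]; group
  rw [frame_mul H.data F, frame_mul H.data F] at h9
  have h10 := (F.inj _ _ _ _ _ _ h9).1
  have h11 : ∀ b1 b2 : F4, b2 + F4.w * b1 = b1 + b2 → b1 = 0 := by decide
  exact hb1 (h11 b1 b2 h10)

end Two

end Cfsg.Agent.StdG24.F
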