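import Cfsg.Agent.StdG24.F.Basic
import Cfsg.Agent.StdG24.F.A5

/-!
# Lemma F: the element `ρ` of order 3
-/

set_option autoImplicit false

namespace Cfsg.Agent.StdG24.F

open Subgroup

variable {G : Type*} [Group G]

/-- the field `ρ` of `Hyp` is automatic -/
theorem Hyp.of_five {R A B : Subgroup G} {b : G} (cardR : Nat.card R = 4) (sqR : ∀ r ∈ R, r * r = 1)
    (comm : ∀ r ∈ R, ∀ a ∈ A, r * a = a * r)
    (cent : ∀ r ∈ R, r ≠ 1 → ∀ g, g * r = r * g → ∃ r' ∈ R, ∃ a ∈ A, g = r' * a)
    (eA : Nonempty (A ≃* A5.Alt5)) (B_le : B ≤ A) (cardB : Nat.card B = 4)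
    (bR : ∀ r ∈ R, ∃ r' ∈ R, ∃ x ∈ B, b * r * b⁻¹ = r' * x)
    (bn : ∃ r ∈ R, b * r * b⁻¹ ∉ R) (bB : ∀ x ∈ B, b⁻¹ * x * b ∈ A) : ∃ ρ, Hyp R A B ρ b := by
  obtain ⟨e⟩ := eA
  haveI : Finite B := Nat.finite_of_card_ne_zero (by rw [cardB]; norm_num)
  have hsq : ∀ x ∈ B, x * x = 1 := by
    intro x hx
    apply A5.sq_of_pow_four e (B_le hx)
    have h1 : (⟨x, hx⟩ : B) ^ Nat.card B = 1 := pow_card_eq_one'
    rw [cardB] at h1
    exact congrArg Subtype.val h1
  have hinv : ∀ x ∈ B, x⁻¹ = x := fun x hx => inv_eq_of_mul_eq_one_right (hsq x hx)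
  have hcomm : ∀ x ∈ B, ∀ y ∈ B, x * y = y * x := by
    intro x hx y hy
    have h1 := hinv _ (mul_mem hx hy)
    rw [mul_inv_rev, hinv x hx, hinv y hy] at h1
    exact h1.symm
  haveI : Fintype B := Fintype.ofFinite B
  have hcard : Fintype.card B = 4 := by rw [← Nat.card_eq_fintype_card, cardB]
  classical
  obtain ⟨a, ha⟩ : ∃ a : B, a ∉ ({1} : Finset B) := by
    by_contra hcon
    push Not at hcon
    have h1 : Fintype.card B ≤ ({1} : Finset B).card := Finset.card_le_card (fun x _ => hcon x)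
    rw [hcard, Finset.card_singleton] at h1
    omega
  obtain ⟨c, hc⟩ : ∃ c : B, c ∉ ({1, a} : Finset B) := by
    by_contra hcon
    push Not at hcon
    have h1 : Fintype.card B ≤ ({1, a} : Finset B).card := Finset.card_le_card (fun x _ => hcon x)
    have h2 : ({1, a} : Finset B).card ≤ 2 := Finset.card_le_two
    omega
  rw [Finset.mem_singleton] at ha
  rw [Finset.mem_insert, Finset.mem_singleton, not_or] at hc
  have ha1 : (a : G) ≠ 1 := fun h => ha (Subtype.ext h)
  have hc1 : (c : G) ≠ 1 := fun h => hc.1 (Subtype.ext h)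
  have hca : (c : G) ≠ a := fun h => hc.2 (Subtype.ext h)
  obtain ⟨g, hgA, hg3, hga, hgc⟩ := A5.exists_three e (B_le a.2) ha1 (hsq _ a.2) (B_le c.2) hc1 (hsq _ c.2)
    (hcomm _ c.2 _ a.2) hca
  -- `B = {1, a, c, a c}`
  have hne1 : a * c ≠ 1 := by
    intro h1
    apply hc.2
    have h2 : a * a = 1 := Subtype.ext (hsq _ a.2)
    exact mul_left_cancel (h1.trans h2.symm)
  have hB : ∀ x : B, x = 1 ∨ x = a ∨ x = c ∨ x = a * c := by
    intro x
    by_contra hcon
    push Not at hcon
    obtain ⟨h1, h2, h3, h4⟩ := hcon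
    have h5 : ({1, a, c, a * c, x} : Finset B).card ≤ Fintype.card B := Finset.card_le_univ _
    have h6 : ({1, a, c, a * c, x} : Finset B).card = 5 := by
      rw [Finset.card_insert_of_notMem, Finset.card_insert_of_notMem, Finset.card_insert_of_notMem,
        Finset.card_insert_of_notMem, Finset.card_singleton]
      · rw [Finset.mem_singleton]; exact fun h => h4 h.symm
      · rw [Finset.mem_insert, Finset.mem_singleton, not_or]
        exact ⟨fun h => ha (by rwa [eq_comm, mul_eq_right] at h), fun h => h3 h.symm⟩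
      · rw [Finset.mem_insert, Finset.mem_insert, Finset.mem_singleton, not_or, not_or]
        exact ⟨fun h => hc.2 h.symm, fun h => hc.1 (by rwa [eq_comm, mul_eq_left] at h), fun h => h2 h.symm⟩
      · rw [Finset.mem_insert, Finset.mem_insert, Finset.mem_insert, Finset.mem_singleton, not_or, not_or,
          not_or]
        exact ⟨fun h => ha h.symm, fun h => hc.1 h.symm, fun h => hne1 h.symm, fun h => h1 h.symm⟩
    omega
  have hgac : g * ((a : G) * c) * g⁻¹ = a := by
    calc g * ((a : G) * c) * g⁻¹ = (g * a * g⁻¹) * (g * c * g⁻¹) := by group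
      _ = c * (a * c) := by rw [hga, hgc]
      _ = (c * c) * a := by rw [hcomm _ a.2 _ c.2, mul_assoc]
      _ = a := by rw [hsq _ c.2, one_mul]
  refine ⟨g, cardR, sqR, comm, cent, ⟨e⟩, B_le, cardB, hgA, hg3, ?_, ?_, bR, bn, bB⟩
  · intro x hx
    rcases hB ⟨x, hx⟩ with h | h | h | h <;> have h' := congrArg Subtype.val h <;>
      simp only [coe_one, coe_mul] at h'
    · rw [h', mul_one, mul_inv_cancel]; exact B.one_mem
    · rw [h', hga]; exact c.2
    · rw [h', hgc]; exact mul_mem a.2 c.2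
    · rw [h', hgac]; exact a.2
  · intro x hx hfix
    rcases hB ⟨x, hx⟩ with h | h | h | h <;> have h' := congrArg Subtype.val h <;>
      simp only [coe_one, coe_mul] at h'
    · exact h'
    · rw [h', hga] at hfix; exact absurd hfix hca
    · rw [h', hgc] at hfix
      exact absurd (mul_eq_right.1 hfix) ha1
    · rw [h', hgac] at hfix
      exact absurd (left_eq_mul.1 hfix) hc1

end Cfsg.Agent.StdG24.F
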