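import Cfsg.Agent.StdG24.F.OfFive
import Cfsg.Agent.StdG24.F.Types

/-!
# Lemma F in `C(d)/<d>`, `d ^ 5 = 1`
-/

set_option autoImplicit false
set_option linter.style.haveILetI false

namespace Cfsg.Agent.StdG24.F.Quot

open Subgroup

variable {Γ : Type*} [Group Γ]

/-- the setting of Lemma F in `C(d)/<d>`, `d ^ 5 = 1` -/
structure DHyp (d : Γ) (R A B : Subgroup Γ) (b : Γ) : Prop where
  d5 : d ^ 5 = 1
  dR : ∀ r ∈ R, r * d = d * r
  dA : ∀ a ∈ A, a * d = d * a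
  db : b * d = d * b
  cardR : Nat.card R = 4
  sqR : ∀ r ∈ R, r * r = 1
  comm : ∀ r ∈ R, ∀ a ∈ A, r * a = a * r
  cent : ∀ r ∈ R, r ≠ 1 → ∀ g, g * r = r * g → g * d = d * g →
    ∃ r' ∈ R, ∃ a ∈ A, ∃ n : ℤ, g = r' * a * d ^ n
  eA : Nonempty (A ≃* A5.Alt5)
  B_le : B ≤ A
  cardB : Nat.card B = 4
  bR : ∀ r ∈ R, ∃ r' ∈ R, ∃ x ∈ B, b * r * b⁻¹ = r' * x
  bn : ∃ r ∈ R, b * r * b⁻¹ ∉ R
  bB : ∀ x ∈ B, b⁻¹ * x * b ∈ A

/-! ### The quotient -/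

/-- `C(d)` -/
def CC (d : Γ) : Subgroup Γ := centralizer {d}

theorem mem_CC {d g : Γ} : g ∈ CC d ↔ g * d = d * g := mem_centralizer_singleton_iff

/-- `<d>` as a subgroup of `C(d)` -/
def ZZ (d : Γ) : Subgroup (CC d) := (zpowers d).subgroupOf (CC d)

instance (d : Γ) : (ZZ d).Normal := by
  refine ⟨fun z hz y => ?_⟩
  rw [ZZ, mem_subgroupOf] at hz ⊢
  show (y : Γ) * z * (y : Γ)⁻¹ ∈ zpowers d
  obtain ⟨n, hn⟩ := mem_zpowers_iff.1 hz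
  rw [← hn]
  have h1 : Commute (y : Γ) (d ^ n) := Commute.zpow_right (mem_CC.1 y.2) n
  rw [h1.eq, mul_inv_cancel_right]
  exact zpow_mem (mem_zpowers d) n

/-- the projection `C(d) → C(d)/<d>` -/
def pi (d : Γ) : CC d →* CC d ⧸ ZZ d := QuotientGroup.mk' (ZZ d)

theorem pi_surj (d : Γ) : Function.Surjective (pi d) := QuotientGroup.mk'_surjective _

theorem pi_eq_one {d : Γ} {x : CC d} : pi d x = 1 ↔ (x : Γ) ∈ zpowers d := by
  rw [pi, QuotientGroup.mk'_apply, QuotientGroup.eq_one_iff, ZZ, mem_subgroupOf]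

theorem pi_eq {d : Γ} {x y : CC d} (h : pi d x = pi d y) : ∃ n : ℤ, (x : Γ) = y * d ^ n := by
  have h1 : pi d (y⁻¹ * x) = 1 := by rw [map_mul, map_inv, h, inv_mul_cancel]
  obtain ⟨n, hn⟩ := mem_zpowers_iff.1 (pi_eq_one.1 h1)
  refine ⟨n, ?_⟩
  rw [hn]
  show (x : Γ) = y * ((y : Γ)⁻¹ * x)
  group

theorem two_five {d u v : Γ} (h5 : d ^ 5 = 1) (hv : v * d = d * v) (hu : u * u = 1) (hvv : v * v = 1)
    {n : ℤ} (h : u = v * d ^ n) : u = v := by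
  have hc : Commute v (d ^ n) := Commute.zpow_right hv n
  have h1 : d ^ n * d ^ n = 1 := by
    calc d ^ n * d ^ n = (v * v) * (d ^ n * d ^ n) := by rw [hvv, one_mul]
      _ = v * (v * d ^ n) * d ^ n := by simp only [mul_assoc]
      _ = v * (d ^ n * v) * d ^ n := by rw [hc.eq]
      _ = (v * d ^ n) * (v * d ^ n) := by simp only [mul_assoc]
      _ = 1 := by rw [← h, hu]
  have h2 : (d ^ n) ^ 5 = 1 := by
    rw [← zpow_natCast, zpow_comm, zpow_natCast, h5, one_zpow]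
  have h3 : d ^ n = 1 := by
    calc d ^ n = (d ^ n) ^ 5 * ((d ^ n * d ^ n) * (d ^ n * d ^ n))⁻¹ := by group
      _ = 1 := by rw [h1, h2]; group
  rw [h, h3, mul_one]

/-- the image of a subgroup of `C(d)` in `C(d)/<d>` -/
def img {d : Γ} {K : Subgroup Γ} (hK : K ≤ CC d) : Subgroup (CC d ⧸ ZZ d) := ((pi d).comp (inclusion hK)).range

theorem mem_img {d : Γ} {K : Subgroup Γ} {hK : K ≤ CC d} {w : CC d ⧸ ZZ d} :
    w ∈ img hK ↔ ∃ k, ∃ h : k ∈ K, pi d ⟨k, hK h⟩ = w := by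
  constructor
  · rintro ⟨k, hk⟩
    exact ⟨k, k.2, hk⟩
  · rintro ⟨k, h, hk⟩
    exact ⟨⟨k, h⟩, hk⟩

/-- `K ≃* img K` for `K ∩ <d> = 1` -/
theorem exists_equiv {d : Γ} {K : Subgroup Γ} {hK : K ≤ CC d} (h : ∀ k ∈ K, k ∈ zpowers d → k = 1) :
    Nonempty (K ≃* img hK) := by
  refine ⟨MonoidHom.ofInjective (f := (pi d).comp (inclusion hK)) ?_⟩
  rw [injective_iff_map_eq_one]
  intro k hk
  exact Subtype.ext (h k k.2 (pi_eq_one.1 hk))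

namespace DHyp

variable {d : Γ} {R A B : Subgroup Γ} {b : Γ} (H : DHyp d R A B b)
include H

theorem RC : R ≤ CC d := fun r hr => mem_CC.2 (H.dR r hr)
theorem AC : A ≤ CC d := fun r hr => mem_CC.2 (H.dA r hr)
theorem BC : B ≤ CC d := H.B_le.trans H.AC
theorem bC : b ∈ CC d := mem_CC.2 H.db

theorem disjR {r : Γ} (hr : r ∈ R) (h : r ∈ zpowers d) : r = 1 := by
  obtain ⟨n, hn⟩ := mem_zpowers_iff.1 h
  exact two_five H.d5 (by group) (H.sqR r hr) (one_mul 1) (n := n) (by rw [one_mul, hn])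

theorem disjA {a : Γ} (ha : a ∈ A) (h : a ∈ zpowers d) : a = 1 := by
  obtain ⟨e⟩ := H.eA
  obtain ⟨n, hn⟩ := mem_zpowers_iff.1 h
  refine A5.center_trivial e ha fun c hc => ?_
  rw [← hn]
  exact (Commute.zpow_right (H.dA c hc) n).symm.eq

theorem sqB {x : Γ} (hx : x ∈ B) : x * x = 1 := by
  obtain ⟨e⟩ := H.eA
  haveI : Finite B := Nat.finite_of_card_ne_zero (by rw [H.cardB]; norm_num)
  apply A5.sq_of_pow_four e (H.B_le hx)
  have h1 : (⟨x, hx⟩ : B) ^ Nat.card B = 1 := pow_card_eq_one'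
  rw [H.cardB] at h1
  exact congrArg Subtype.val h1

/-- the hypothesis of Lemma F for `C(d)/<d>` -/
theorem exists_hyp : ∃ ρ, Hyp (img H.RC) (img H.AC) (img H.BC) ρ (pi d ⟨b, H.bC⟩) := by
  obtain ⟨eR⟩ := exists_equiv (hK := H.RC) fun k hk => H.disjR hk
  obtain ⟨eA'⟩ := exists_equiv (hK := H.AC) fun k hk => H.disjA hk
  obtain ⟨eB⟩ := exists_equiv (hK := H.BC) fun k hk => H.disjA (H.B_le hk)
  refine Hyp.of_five ?_ ?_ ?_ ?_ ?_ ?_ ?_ ?_ ?_ ?_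
  · rw [← H.cardR]
    exact (Nat.card_congr eR.toEquiv).symm
  · intro r hr0
    obtain ⟨r, hr, rfl⟩ := mem_img.1 hr0
    rw [← map_mul, ← map_one (pi d)]
    exact congrArg (pi d) (Subtype.ext (H.sqR r hr))
  · intro r hr0 a ha0
    obtain ⟨r, hr, rfl⟩ := mem_img.1 hr0
    obtain ⟨a, ha, rfl⟩ := mem_img.1 ha0
    rw [← map_mul, ← map_mul]
    exact congrArg (pi d) (Subtype.ext (H.comm r hr a ha))
  · intro r hr0 hr1 g hg
    obtain ⟨r, hr, rfl⟩ := mem_img.1 hr0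
    obtain ⟨g, rfl⟩ := pi_surj d g
    have hr1' : r ≠ 1 := by
      rintro rfl
      apply hr1
      rw [← map_one (pi d)]
      rfl
    have hrr := H.sqR r hr
    have h1 : pi d (g * ⟨r, H.RC hr⟩ * g⁻¹) = pi d ⟨r, H.RC hr⟩ := by
      rw [map_mul, map_mul, map_inv, hg, mul_inv_cancel_right]
    obtain ⟨n, hn⟩ := pi_eq h1
    have h2 : (g : Γ) * r * (g : Γ)⁻¹ = r := by
      refine two_five H.d5 (H.dR r hr) ?_ hrr hn
      calc (g : Γ) * r * (g : Γ)⁻¹ * ((g : Γ) * r * (g : Γ)⁻¹) = g * (r * r) * (g : Γ)⁻¹ := by group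
        _ = 1 := by rw [hrr]; group
    have h3 : (g : Γ) * r = r * g := by
      calc (g : Γ) * r = (g * r * (g : Γ)⁻¹) * g := by group
        _ = r * g := by rw [h2]
    obtain ⟨r', hr', a, ha, m, hm⟩ := H.cent r hr hr1' g h3 (mem_CC.1 g.2)
    refine ⟨_, mem_img.2 ⟨r', hr', rfl⟩, _, mem_img.2 ⟨a, ha, rfl⟩, ?_⟩
    rw [← map_mul]
    have h4 : pi d ((⟨r', H.RC hr'⟩ * ⟨a, H.AC ha⟩)⁻¹ * g) = 1 := by
      rw [pi_eq_one]
      show (r' * a)⁻¹ * (g : Γ) ∈ zpowers d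
      rw [hm, inv_mul_cancel_left]
      exact zpow_mem (mem_zpowers d) m
    rw [map_mul, map_inv] at h4
    exact (inv_mul_eq_one.1 h4).symm
  · obtain ⟨e⟩ := H.eA
    exact ⟨eA'.symm.trans e⟩
  · intro x hx0
    obtain ⟨x, hx, rfl⟩ := mem_img.1 hx0
    exact mem_img.2 ⟨x, H.B_le hx, rfl⟩
  · rw [← H.cardB]
    exact (Nat.card_congr eB.toEquiv).symm
  · intro r hr0
    obtain ⟨r, hr, rfl⟩ := mem_img.1 hr0
    obtain ⟨r', hr', x, hx, h1⟩ := H.bR r hr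
    refine ⟨_, mem_img.2 ⟨r', hr', rfl⟩, _, mem_img.2 ⟨x, hx, rfl⟩, ?_⟩
    rw [← map_mul, ← map_inv, ← map_mul, ← map_mul]
    exact congrArg (pi d) (Subtype.ext h1)
  · obtain ⟨r, hr, h1⟩ := H.bn
    refine ⟨_, mem_img.2 ⟨r, hr, rfl⟩, fun h2 => h1 ?_⟩
    obtain ⟨s, hs, h3⟩ := mem_img.1 h2
    rw [← map_mul, ← map_inv, ← map_mul] at h3
    obtain ⟨n, hn⟩ := pi_eq h3.symm
    have hrr := H.sqR r hr
    have h4 : b * r * b⁻¹ = s := by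
      refine two_five H.d5 (H.dR s hs) ?_ (H.sqR s hs) hn
      calc b * r * b⁻¹ * (b * r * b⁻¹) = b * (r * r) * b⁻¹ := by group
        _ = 1 := by rw [hrr]; group
    rw [h4]; exact hs
  · intro x hx0
    obtain ⟨x, hx, rfl⟩ := mem_img.1 hx0
    refine mem_img.2 ⟨_, H.bB x hx, ?_⟩
    rw [← map_inv, ← map_mul, ← map_mul]
    rfl

/-- conclusion (ii) of Lemma F, pulled back -/
theorem kappa (h : ∃ k : CC d ⧸ ZZ d, (∀ r ∈ img H.RC, k * r * k⁻¹ ∈ img H.RC) ∧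
      (∀ r ∈ img H.RC, k * r * k⁻¹ = r → r = 1) ∧ ∀ x ∈ img H.BC, k * x = x * k) :
    ∃ k : Γ, k * d = d * k ∧ (∀ r ∈ R, k * r * k⁻¹ ∈ R) ∧ (∀ r ∈ R, k * r * k⁻¹ = r → r = 1) ∧
      ∀ x ∈ B, k * x = x * k := by
  obtain ⟨k, h1, h2, h3⟩ := h
  obtain ⟨k, rfl⟩ := pi_surj d k
  have hsq : ∀ {r : Γ}, r * r = 1 → (k : Γ) * r * (k : Γ)⁻¹ * ((k : Γ) * r * (k : Γ)⁻¹) = 1 := by
    intro r hrr
    calc (k : Γ) * r * (k : Γ)⁻¹ * ((k : Γ) * r * (k : Γ)⁻¹) = k * (r * r) * (k : Γ)⁻¹ := by group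
      _ = 1 := by rw [hrr]; group
  refine ⟨k, mem_CC.1 k.2, ?_, ?_, ?_⟩
  · intro r hr
    obtain ⟨s, hs, h4⟩ := mem_img.1 (h1 _ (mem_img.2 ⟨r, hr, rfl⟩))
    rw [← map_mul, ← map_inv, ← map_mul] at h4
    obtain ⟨n, hn⟩ := pi_eq h4.symm
    have h5 : (k : Γ) * r * (k : Γ)⁻¹ = s :=
      two_five H.d5 (H.dR s hs) (hsq (H.sqR r hr)) (H.sqR s hs) hn
    rw [h5]; exact hs
  · intro r hr h4
    have h5 := h2 _ (mem_img.2 ⟨r, hr, rfl⟩) (by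
      rw [← map_mul, ← map_inv, ← map_mul]
      exact congrArg (pi d) (Subtype.ext h4))
    exact H.disjR hr (pi_eq_one.1 h5)
  · intro x hx
    have h4 := h3 _ (mem_img.2 ⟨x, hx, rfl⟩)
    have h5 : pi d (k * ⟨x, H.BC hx⟩ * k⁻¹) = pi d ⟨x, H.BC hx⟩ := by
      rw [map_mul, map_mul, map_inv, h4, mul_inv_cancel_right]
    obtain ⟨n, hn⟩ := pi_eq h5
    have h6 : (k : Γ) * x * (k : Γ)⁻¹ = x :=
      two_five H.d5 (mem_CC.1 (H.BC hx)) (hsq (H.sqB hx)) (H.sqB hx) hn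
    calc (k : Γ) * x = (k * x * (k : Γ)⁻¹) * k := by group
      _ = x * k := by rw [h6]

/-- conclusion (iv) of Lemma F, pulled back -/
theorem pow_four (h : ∀ y : CC d ⧸ ZZ d, (∀ x ∈ img H.BC, y * x = x * y) → y * y = 1 →
      y ∈ PP (img H.RC) (img H.BC)) {k : Γ}
    (hk : k ∈ closure {y : Γ | y * y = 1 ∧ y * d = d * y ∧ ∀ x ∈ B, y * x = x * y}) :
    k ^ 4 ∈ zpowers d := by
  obtain ⟨ρ, H'⟩ := H.exists_hyp
  have h1 : closure {y : Γ | y * y = 1 ∧ y * d = d * y ∧ ∀ x ∈ B, y * x = x * y} ≤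
      ((PP (img H.RC) (img H.BC)).comap (pi d)).map (CC d).subtype := by
    rw [closure_le]
    rintro y ⟨hyy, hyd, hyB⟩
    refine ⟨⟨y, mem_CC.2 hyd⟩, ?_, rfl⟩
    refine h _ ?_ ?_
    · intro x hx0
      obtain ⟨x, hx, rfl⟩ := mem_img.1 hx0
      rw [← map_mul, ← map_mul]
      exact congrArg (pi d) (Subtype.ext (hyB x hx))
    · rw [← map_mul, ← map_one (pi d)]
      exact congrArg (pi d) (Subtype.ext hyy)
  obtain ⟨p, hp, rfl⟩ := h1 hk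
  have h2 := H'.sqPP (mem_comap.1 hp)
  have h3 := H'.sqB h2
  have h4 : pi d (p ^ 4) = 1 := by
    rw [map_pow]
    rw [pow_succ, pow_succ, pow_two, mul_assoc (pi d p * pi d p)]
    exact h3
  exact pi_eq_one.1 h4

end DHyp

end Cfsg.Agent.StdG24.F.Quot
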